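import Cfsg.Agent.Lib.Linear.UTensor.Base
import Cfsg.Agent.Lib.Linear.SymplecticMax
import Cfsg.Agent.Lib.Linear.TWreath.Main

/-!
# The standard Hermitian structure on a tensor power

The adjoint is the conjugate transpose on every factor and on the whole power.
-/

set_option autoImplicit false
set_option linter.unusedSectionVars false
set_option linter.unusedVariables false

namespace Cfsg.Lib.Linear.UWreath

open Cfsg.Geo Cfsg.Lib.Linear.AschGen Cfsg.Lib.Linear.TWreath
open scoped Matrix MatrixGroups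

/-- A conjugation of the field. -/
structure Cj (F : Type*) [Field F] where
  /-- The automorphism of order two. -/
  σ : F →+* F
  ne_id : σ ≠ RingHom.id F
  invol : ∀ a, σ (σ a) = a

namespace Cj

variable {F : Type*} [Field F] (C : Cj F) {ι : Type} [Fintype ι] [DecidableEq ι]

theorem σ_inj : Function.Injective C.σ := C.σ.injective

theorem σ_ne_zero {a : F} (h : a ≠ 0) : C.σ a ≠ 0 := by simpa using h

/-- The conjugate transpose. -/
def ad (X : Matrix ι ι F) : Matrix ι ι F := Matrix.of fun x y => C.σ (X y x)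

theorem ad_apply (X : Matrix ι ι F) (x y : ι) : C.ad X x y = C.σ (X y x) := rfl

theorem ad_mul (X Y : Matrix ι ι F) : C.ad (X * Y) = C.ad Y * C.ad X := by
  ext a b
  simp [ad_apply, Matrix.mul_apply, mul_comm]

theorem ad_one : C.ad (1 : Matrix ι ι F) = 1 := by
  ext a b
  by_cases h : a = b
  · subst h; simp [ad_apply]
  · simp [ad_apply, h, Ne.symm h]

theorem ad_zero : C.ad (0 : Matrix ι ι F) = 0 := by ext a b; simp [ad_apply]

theorem ad_add (X Y : Matrix ι ι F) : C.ad (X + Y) = C.ad X + C.ad Y := by ext a b; simp [ad_apply]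

theorem ad_sub (X Y : Matrix ι ι F) : C.ad (X - Y) = C.ad X - C.ad Y := by ext a b; simp [ad_apply]

theorem ad_neg (X : Matrix ι ι F) : C.ad (-X) = -C.ad X := by ext a b; simp [ad_apply]

theorem ad_smul (c : F) (X : Matrix ι ι F) : C.ad (c • X) = C.σ c • C.ad X := by
  ext a b; simp [ad_apply]

theorem ad_ad (X : Matrix ι ι F) : C.ad (C.ad X) = X := by ext a b; simp [ad_apply, C.invol]

/-- An isometry. -/
def Iso (X : Matrix ι ι F) : Prop := C.ad X * X = 1

theorem Iso.mul {X Y : Matrix ι ι F} (h : C.Iso X) (h' : C.Iso Y) : C.Iso (X * Y) := by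
  show C.ad (X * Y) * (X * Y) = 1
  rw [ad_mul, mul_assoc, ← mul_assoc (C.ad X), h, one_mul, h']

theorem Iso.one : C.Iso (1 : Matrix ι ι F) := by show C.ad 1 * 1 = 1; rw [ad_one, one_mul]

theorem Iso.inv_val {a : GL ι F} (h : C.Iso a.val) : (a⁻¹).val = C.ad a.val :=
  (left_inv_eq_right_inv h (Units.mul_inv a)).symm

theorem Iso.inv {a : GL ι F} (h : C.Iso a.val) : C.Iso (a⁻¹).val := by
  show C.ad _ * _ = 1
  rw [Iso.inv_val C h, C.ad_ad, ← Iso.inv_val C h, Units.mul_inv]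

theorem conjA_iso {a : GL ι F} (h : C.Iso a.val) (X : Matrix ι ι F) : conjA a X = a.val * X * C.ad a.val := by
  rw [conjA_apply, Iso.inv_val C h]

theorem ad_conjA {a : GL ι F} (h : C.Iso a.val) (X : Matrix ι ι F) : C.ad (conjA a X) = conjA a (C.ad X) := by
  rw [C.conjA_iso h, C.conjA_iso h, C.ad_mul, C.ad_mul, C.ad_ad, mul_assoc]

/-- The form, semilinear in the first argument. -/
def ip (u v : ι → F) : F := (C.σ ∘ u) ⬝ᵥ v

theorem ip_swap (u v : ι → F) : C.σ (C.ip u v) = C.ip v u := by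
  simp [ip, dotProduct, C.invol, mul_comm]

theorem ip_add_left (u u' v : ι → F) : C.ip (u + u') v = C.ip u v + C.ip u' v := by
  simp [ip, dotProduct, add_mul, Finset.sum_add_distrib]

theorem ip_add_right (u v v' : ι → F) : C.ip u (v + v') = C.ip u v + C.ip u v' := dotProduct_add _ _ _

theorem ip_smul_left (c : F) (u v : ι → F) : C.ip (c • u) v = C.σ c * C.ip u v := by
  simp [ip, dotProduct, Finset.mul_sum, mul_assoc]

theorem ip_smul_right (c : F) (u v : ι → F) : C.ip u (c • v) = c * C.ip u v := by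
  rw [ip, dotProduct_smul, smul_eq_mul]; rfl

theorem ip_zero_left (v : ι → F) : C.ip 0 v = 0 := by simp [ip, dotProduct]

theorem ip_zero_right (u : ι → F) : C.ip u 0 = 0 := dotProduct_zero _

theorem ip_single (a : ι) (v : ι → F) : C.ip (Pi.single a 1) v = v a := by
  rw [ip, dotProduct, Finset.sum_eq_single a (fun b _ hb => by simp [hb])
    (fun h => absurd (Finset.mem_univ _) h)]
  simp

theorem ip_mulVec (X : Matrix ι ι F) (u v : ι → F) : C.ip u (X *ᵥ v) = C.ip (C.ad X *ᵥ u) v := by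
  rw [ip, Matrix.dotProduct_mulVec, ip]
  congr 1
  funext b
  simp [Matrix.vecMul, Matrix.mulVec, dotProduct, ad_apply, C.invol, mul_comm]

theorem ip_iso {X : Matrix ι ι F} (h : C.Iso X) (u v : ι → F) : C.ip (X *ᵥ u) (X *ᵥ v) = C.ip u v := by
  rw [C.ip_mulVec, Matrix.mulVec_mulVec, h, Matrix.one_mulVec]

/-- The rank one map of two vectors. -/
def op (u v : ι → F) : Matrix ι ι F := Matrix.vecMulVec u (C.σ ∘ v)

theorem op_apply (u v : ι → F) (x y : ι) : C.op u v x y = u x * C.σ (v y) := rfl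

theorem op_mul (u v w z : ι → F) : C.op u v * C.op w z = C.ip v w • C.op u z := by
  rw [op, op, Matrix.vecMulVec_mul_vecMulVec, Matrix.vecMulVec_smul]
  rfl

theorem mul_op (X : Matrix ι ι F) (u v : ι → F) : X * C.op u v = C.op (X *ᵥ u) v := Matrix.mul_vecMulVec _ _ _

theorem op_mul' (X : Matrix ι ι F) (u v : ι → F) : C.op u v * X = C.op u (C.ad X *ᵥ v) := by
  rw [op, op, Matrix.vecMulVec_mul]
  congr 1
  funext b
  simp [Matrix.vecMul, Matrix.mulVec, dotProduct, ad_apply, C.invol, mul_comm]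

theorem op_mulVec (u v w : ι → F) : C.op u v *ᵥ w = C.ip v w • u := by
  rw [op, Matrix.vecMulVec_mulVec, op_smul_eq_smul]; rfl

theorem ad_op (u v : ι → F) : C.ad (C.op u v) = C.op v u := by
  ext a b; simp [ad_apply, op_apply, C.invol, mul_comm]

theorem op_smul_left (c : F) (u v : ι → F) : C.op (c • u) v = c • C.op u v := Matrix.smul_vecMulVec _ _ _

theorem op_smul_right (c : F) (u v : ι → F) : C.op u (c • v) = C.σ c • C.op u v := by
  ext a b; simp [op_apply, mul_left_comm]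

theorem op_add_left (u u' v : ι → F) : C.op (u + u') v = C.op u v + C.op u' v := by
  ext a b; simp [op_apply, add_mul]

theorem op_add_right (u v v' : ι → F) : C.op u (v + v') = C.op u v + C.op u v' := by
  ext a b; simp [op_apply, mul_add]

theorem op_zero_left (v : ι → F) : C.op 0 v = 0 := by ext a b; simp [op_apply]

theorem op_ne_zero {u v : ι → F} (hu : u ≠ 0) (hv : v ≠ 0) : C.op u v ≠ 0 := by
  obtain ⟨a, ha⟩ := Function.ne_iff.1 hu
  obtain ⟨b, hb⟩ := Function.ne_iff.1 hv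
  exact fun h => mul_ne_zero ha (C.σ_ne_zero hb) (congrFun (congrFun h a) b)

/-- The Hermitian rank one map of a vector. -/
def nr (u : ι → F) : Matrix ι ι F := C.op u u

theorem ad_nr (u : ι → F) : C.ad (C.nr u) = C.nr u := C.ad_op u u

theorem nr_mul_self {u : ι → F} (h : C.ip u u = 0) : C.nr u * C.nr u = 0 := by
  rw [nr, op_mul, h, zero_smul]

theorem nr_smul (c : F) (u : ι → F) : C.nr (c • u) = (C.σ c * c) • C.nr u := by
  rw [nr, nr, op_smul_left, op_smul_right, smul_smul, mul_comm]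

theorem nr_zero : C.nr (0 : ι → F) = 0 := C.op_zero_left 0

theorem nr_ne_zero {u : ι → F} (hu : u ≠ 0) : C.nr u ≠ 0 := C.op_ne_zero hu hu

theorem conjA_op {a : GL ι F} (h : C.Iso a.val) (u v : ι → F) :
    conjA a (C.op u v) = C.op (a.val *ᵥ u) (a.val *ᵥ v) := by
  rw [C.conjA_iso h, C.mul_op, C.op_mul', C.ad_ad]

theorem conjA_nr {a : GL ι F} (h : C.Iso a.val) (u : ι → F) : conjA a (C.nr u) = C.nr (a.val *ᵥ u) :=
  C.conjA_op h u u

variable (ι) in
/-- The form as a sesquilinear map. -/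
noncomputable def form : (ι → F) →ₛₗ[C.σ] (ι → F) →ₗ[F] F :=
  LinearMap.mk₂'ₛₗ C.σ (RingHom.id F) C.ip C.ip_add_left (fun c u v => C.ip_smul_left c u v)
    C.ip_add_right (fun c u v => C.ip_smul_right c u v)

theorem form_apply (u v : ι → F) : C.form ι u v = C.ip u v := rfl

theorem form_symm : (C.form ι).IsSymm := ⟨fun u v => C.ip_swap u v⟩

variable (ι) in
theorem cform [Finite F] : UTensor.Form (C.form ι) := by
  have h : ∀ u, (∀ v, C.form ι u v = 0) → u = 0 := fun u hu => funext fun a => by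
    have h1 := hu (Pi.single a 1)
    rw [form_apply, ← C.ip_swap, ip_single] at h1
    exact (map_eq_zero _).1 h1
  exact ⟨C.ne_id, C.invol, C.form_symm, h, fun v hv => h v fun u => C.form_symm.isRefl _ _ (hv u)⟩

theorem iso_of_mem [Finite F] {a : GL ι F} (h : Symp.glEquiv ι F a ∈ Herm.iso (C.form ι)) : C.Iso a.val := by
  refine Matrix.toLin'.injective (LinearMap.ext fun v => (C.cform ι).ext_right fun w => ?_)
  rw [Matrix.toLin'_apply, Matrix.toLin'_apply, Matrix.one_mulVec, form_apply, form_apply,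
    ← Matrix.mulVec_mulVec, C.ip_mulVec, C.ad_ad]
  have h1 := h w v
  rwa [Symp.glEquiv_apply, Symp.glEquiv_apply] at h1

theorem mem_of_iso {a : GL ι F} (h : C.Iso a.val) : Symp.glEquiv ι F a ∈ Herm.iso (C.form ι) := fun u v => by
  rw [Symp.glEquiv_apply, Symp.glEquiv_apply]
  exact C.ip_iso h u v

theorem det_glEquiv (a : GL ι F) : (LinearEquiv.det (Symp.glEquiv ι F a) : F) = a.val.det := by
  rw [LinearEquiv.coe_det, show ((Symp.glEquiv ι F a : (ι → F) ≃ₗ[F] (ι → F)) : (ι → F) →ₗ[F] (ι → F)) =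
    Matrix.toLin' a.val from LinearMap.ext fun v => Symp.glEquiv_apply a v, LinearMap.det_toLin']

section Finite

variable [Finite F]

theorem exists_trace (a : F) (ha : C.σ a = a) : ∃ x : F, x + C.σ x = a :=
  Herm.exists_trace_eq C.ne_id C.invol ha

theorem exists_skew : ∃ y : F, y ≠ 0 ∧ y + C.σ y = 0 := Herm.exists_trace_zero C.ne_id C.invol

theorem exists_norm {a : F} (ha0 : a ≠ 0) (ha : C.σ a = a) : ∃ x : F, C.σ x * x = a :=
  Herm.exists_norm_fixed C.ne_id C.invol ha0 ha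

/-- Isometries of determinant one act transitively on isotropic vectors. -/
theorem exists_su_move {k : ℕ} (hk : 3 ≤ k) {x y : Fin k → F} (hx : x ≠ 0) (hy : y ≠ 0) (hxx : C.ip x x = 0)
    (hyy : C.ip y y = 0) : ∃ a : GL (Fin k) F, C.Iso a.val ∧ a.val.det = 1 ∧ a.val *ᵥ x = y := by
  obtain ⟨g, hg, hd, hgx⟩ := (C.cform (Fin k)).exists_su_map_iso (by rwa [Module.finrank_fin_fun]) hx hy hxx hyy
  obtain ⟨a, rfl⟩ := (Symp.glEquiv (Fin k) F).surjective g
  exact ⟨a, C.iso_of_mem hg, by rw [← det_glEquiv, hd, Units.val_one], by rw [← Symp.glEquiv_apply, hgx]⟩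

theorem exists_isotropic {k : ℕ} (hk : 2 ≤ k) : ∃ x : Fin k → F, x ≠ 0 ∧ C.ip x x = 0 := by
  obtain ⟨x, -, h⟩ := Herm.exists_iso_ne_zero C.ne_id C.invol C.form_symm (⊤ : Submodule F (Fin k → F))
    (by rw [finrank_top, Module.finrank_fin_fun]; exact hk)
  exact ⟨x, h⟩

theorem exists_partner {x : ι → F} (hx : x ≠ 0) (hxx : C.ip x x = 0) :
    ∃ y, C.ip y y = 0 ∧ C.ip x y = 1 ∧ C.ip y x = 1 := by
  obtain ⟨y, hy, hxy⟩ := (C.cform ι).exists_partner hx hxx
  exact ⟨y, hy, hxy, (C.cform ι).swap_one hxy⟩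

end Finite

/-! ## The tensor power -/

variable {k t : ℕ}

theorem ad_pureTens (X : Fin t → Matrix (Fin k) (Fin k) F) :
    C.ad (pureTens X) = pureTens fun l => C.ad (X l) := by
  ext x y
  simp [pureTens, ad_apply]

theorem ad_fa (i : Fin t) (X : Matrix (Fin k) (Fin k) F) : C.ad (fa i X) = fa i (C.ad X) := by
  rw [fa_apply, fa_apply, powStd, powStd, ad_pureTens]
  congr 1
  funext l
  rcases eq_or_ne l i with rfl | h
  · simp
  · simp [h, C.ad_one]

theorem com_ad {i : Fin t} {Φ : Matrix (Idx k t) (Idx k t) F} (h : Com i Φ) : Com i (C.ad Φ) := fun X => by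
  have h1 := congrArg C.ad (h (C.ad X)).eq
  rw [ad_mul, ad_mul, ad_fa, C.ad_ad] at h1
  exact h1.symm

theorem ad_fa_mul {i : Fin t} {Φ : Matrix (Idx k t) (Idx k t) F} (h : Com i Φ) (X : Matrix (Fin k) (Fin k) F) :
    C.ad (fa i X * Φ) = fa i (C.ad X) * C.ad Φ := by
  rw [ad_mul, ad_fa, ((C.com_ad h) _).eq]

theorem ad_psi (i : Fin (t + 1)) (Y : Matrix (Idx k t) (Idx k t) F) : C.ad (psi i Y) = psi i (C.ad Y) := by
  ext x y
  rw [ad_apply, psi_apply, psi_apply, ad_apply]
  by_cases h : x i = y i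
  · rw [if_pos h.symm, if_pos h]
  · rw [if_neg (Ne.symm h), if_neg h, map_zero]

theorem iso_fu {a : GL (Fin k) F} (h : C.Iso a.val) (i : Fin t) : C.Iso (fu i a).val := by
  show C.ad _ * _ = 1
  rw [fu_val, C.ad_fa, ← map_mul, h, map_one]

theorem iso_of_fu (hk : 0 < k) {a : GL (Fin k) F} {i : Fin t} (h : C.Iso (fu i a).val) : C.Iso a.val :=
  fa_injective hk i (by rw [map_mul, ← C.ad_fa, map_one]; exact h)

theorem iso_psiU {Y : GL (Idx k t) F} (h : C.Iso Y.val) (i : Fin (t + 1)) : C.Iso (psiU i Y).val := by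
  show C.ad _ * _ = 1
  rw [psiU_val, C.ad_psi, ← map_mul, h, map_one]

theorem iso_permGL (s : Equiv.Perm (Fin t)) : C.Iso (permGL s : GL (Idx k t) F).val := by
  have e : C.ad (permMat s : Matrix (Idx k t) (Idx k t) F) = permMat s.symm := by
    ext x y
    have hiff : x = y ∘ s ↔ y = x ∘ s.symm := by
      constructor <;> intro h <;> subst h <;> simp [Function.comp_assoc]
    by_cases h : y = x ∘ s.symm
    · simp [permMat, ad_apply, hiff.2 h, Function.comp_assoc]
    · simp [permMat, ad_apply, h, mt hiff.1 h]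
  show C.ad (permMat s) * permMat s = 1
  rw [e, permMat_mul, show s.symm * s = 1 from inv_mul_cancel s, permMat_one]

/-- An isometry carrying a factor to a factor acts there as an isometry. -/
theorem exists_iso_acts [Finite F] (hk : 0 < k) {g : GL (Idx k t) F} (hg : C.Iso g.val) {i j : Fin t}
    {a : GL (Fin k) F} (ha : Acts g i j a) : ∃ b : GL (Fin k) F, C.Iso b.val ∧ Acts g i j b := by
  have : Nonempty (Fin k) := ⟨⟨0, hk⟩⟩
  have hA : ∀ X, C.ad (conjA a X) = conjA a (C.ad X) := fun X => fa_injective hk j (by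
    rw [← C.ad_fa, ← ha, C.ad_conjA hg, C.ad_fa, ha])
  have hcomm : ∀ X, C.ad a.val * a.val * X = X * (C.ad a.val * a.val) := fun X => by
    have h := hA (C.ad X)
    rw [C.ad_ad, conjA_apply, conjA_apply, C.ad_mul, C.ad_mul, C.ad_ad] at h
    have h1 := congrArg (fun M => C.ad a.val * M * a.val) h
    simp only [mul_assoc, Units.inv_mul, mul_one] at h1
    rw [← mul_assoc (C.ad a.val) (C.ad (a⁻¹).val), ← C.ad_mul, Units.inv_mul, C.ad_one, one_mul] at h1
    rw [h1, mul_assoc]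
  obtain ⟨r, hr⟩ := Matrix.mem_range_scalar_of_commute_single (M := C.ad a.val * a.val)
    (fun p q _ => (hcomm (Matrix.single p q 1)).symm)
  rw [Matrix.scalar_apply, ← Matrix.smul_one_eq_diagonal] at hr
  have hrσ : C.σ r = r := by
    have h1 := congrArg C.ad hr
    rw [C.ad_smul, C.ad_one, C.ad_mul, C.ad_ad, ← hr] at h1
    simpa using congrFun (congrFun h1 ⟨0, hk⟩) ⟨0, hk⟩
  have hr0 : r ≠ 0 := fun e => by
    rw [e, zero_smul] at hr
    have h1 := congrArg (· * (a⁻¹).val) hr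
    simp only [zero_mul, mul_assoc, Units.mul_inv, mul_one] at h1
    have h2 := congrArg C.ad h1
    rw [C.ad_zero, C.ad_ad] at h2
    exact a.isUnit.ne_zero h2.symm
  obtain ⟨c, hc⟩ := C.exists_norm hr0 hrσ
  have hc0 : c ≠ 0 := fun e => hr0 (by rw [← hc, e, mul_zero])
  let b : GL (Fin k) F := ⟨c⁻¹ • a.val, c • (a⁻¹).val,
    by rw [smul_mul_smul_comm, inv_mul_cancel₀ hc0, one_smul, Units.mul_inv],
    by rw [smul_mul_smul_comm, mul_inv_cancel₀ hc0, one_smul, Units.inv_mul]⟩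
  refine ⟨b, ?_, fun X => ?_⟩
  · show C.ad (c⁻¹ • a.val) * (c⁻¹ • a.val) = 1
    rw [C.ad_smul, smul_mul_smul_comm, ← hr, smul_smul, map_inv₀, ← hc]
    rw [show (C.σ c)⁻¹ * c⁻¹ * (C.σ c * c) = 1 by field_simp [C.σ_ne_zero hc0], one_smul]
  · rw [ha X]
    congr 1
    show a.val * X * (a⁻¹).val = (c⁻¹ • a.val) * X * (c • (a⁻¹).val)
    rw [smul_mul_assoc, smul_mul_smul_comm, inv_mul_cancel₀ hc0, one_smul]

/-! ## Overgroups and coefficients -/

/-- A group of isometries containing the isometries of determinant one of every factor and, for at least three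
factors, elements inducing all permutations. -/
structure Over (G : Subgroup (GL (Idx k t) F)) : Prop where
  iso : ∀ g ∈ G, C.Iso g.val
  su : ∀ i (a : GL (Fin k) F), C.Iso a.val → a.val.det = 1 → fu i a ∈ G
  perm : 3 ≤ t → ∀ s : Equiv.Perm (Fin t), ∃ g ∈ G, ∀ i, ∃ a, Acts g i (s i) a

/-- The coefficient is available at every isotropic vector of the factor. -/
def InJ (G : Subgroup (GL (Idx k t) F)) (i : Fin t) (ω : Matrix (Idx k t) (Idx k t) F) : Prop :=
  Com i ω ∧ ∀ x : Fin k → F, C.ip x x = 0 → InM G (1 + fa i (C.nr x) * ω)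

/-- Only scalar coefficients are available. -/
def Losing (G : Subgroup (GL (Idx k t) F)) : Prop :=
  ∀ i ω, C.InJ G i ω → ∃ c : F, ω = c • 1

variable {C} {G : Subgroup (GL (Idx k t) F)}

theorem Over.inM_skew (hG : C.Over G) {n : Matrix (Idx k t) (Idx k t) F} (h : InM G (1 + n)) (hn : n * n = 0) :
    C.ad n = -n := by
  obtain ⟨g, hg, hgn⟩ := h
  have h1 := hG.iso g hg
  rw [hgn] at h1
  have h2 : C.ad (1 + n) = 1 - n := by
    refine left_inv_eq_right_inv h1 ?_
    rw [show (1 + n) * (1 - n) = 1 - n * n by noncomm_ring, hn, sub_zero]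
  rw [C.ad_add, C.ad_one, sub_eq_add_neg] at h2
  exact add_left_cancel h2

theorem fa_nr_mul {i : Fin t} {Φ : Matrix (Idx k t) (Idx k t) F} (hΦ : Com i Φ) {u : Fin k → F}
    (hu : C.ip u u = 0) (Ψ : Matrix (Idx k t) (Idx k t) F) :
    fa i (C.nr u) * Φ * (fa i (C.nr u) * Ψ) = 0 := by
  rw [mul_assoc (fa i (C.nr u)), ← mul_assoc Φ, ← (hΦ _).eq, mul_assoc (fa i (C.nr u)) Φ, ← mul_assoc,
    ← map_mul, C.nr_mul_self hu, map_zero, zero_mul]

theorem InJ.zero {i : Fin t} : C.InJ G i (0 : Matrix (Idx k t) (Idx k t) F) :=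
  ⟨fun _ => Commute.zero_right _, fun x _ => by rw [mul_zero, add_zero]; exact ⟨1, G.one_mem, rfl⟩⟩

theorem InJ.add {i : Fin t} {ω ω' : Matrix (Idx k t) (Idx k t) F} (h : C.InJ G i ω) (h' : C.InJ G i ω') :
    C.InJ G i (ω + ω') := by
  refine ⟨h.1.add h'.1, fun x hx => ?_⟩
  have h1 := (h.2 x hx).mul (h'.2 x hx)
  rw [add_mul, one_mul, mul_add, mul_one, fa_nr_mul h.1 hx, add_zero] at h1
  rw [mul_add]
  convert h1 using 1
  abel

theorem InJ.neg {i : Fin t} {ω : Matrix (Idx k t) (Idx k t) F} (h : C.InJ G i ω) : C.InJ G i (-ω) := by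
  refine ⟨by simpa using h.1.smul (-1 : F), fun x hx => ?_⟩
  have := (h.2 x hx).neg (fa_nr_mul h.1 hx _)
  rwa [mul_neg, ← sub_eq_add_neg]

theorem InJ.sub {i : Fin t} {ω ω' : Matrix (Idx k t) (Idx k t) F} (h : C.InJ G i ω) (h' : C.InJ G i ω') :
    C.InJ G i (ω - ω') := by rw [sub_eq_add_neg]; exact h.add h'.neg

theorem InJ.skew [Finite F] (hG : C.Over G) (hk : 2 ≤ k) {i : Fin t} {ω : Matrix (Idx k t) (Idx k t) F}
    (h : C.InJ G i ω) : C.ad ω = -ω := by
  obtain ⟨x, hx0, hx⟩ := C.exists_isotropic hk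
  have h1 := hG.inM_skew (h.2 x hx) (fa_nr_mul h.1 hx _)
  rw [C.ad_fa_mul h.1, C.ad_nr] at h1
  have h2 := eq_zero_of_fa_mul (i := i) (C.nr_ne_zero hx0) ((C.com_ad h.1).add h.1)
    (by rw [mul_add, h1, neg_add_cancel])
  exact eq_neg_of_add_eq_zero_left h2

theorem inJ_of_one [Finite F] (hG : C.Over G) (hk : 3 ≤ k) {i : Fin t} {ω : Matrix (Idx k t) (Idx k t) F}
    (hω : Com i ω) {x : Fin k → F} (hx0 : x ≠ 0) (hx : C.ip x x = 0) (h : InM G (1 + fa i (C.nr x) * ω)) :
    C.InJ G i ω := by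
  refine ⟨hω, fun y hy => ?_⟩
  rcases eq_or_ne y 0 with rfl | hy0
  · rw [C.nr_zero, map_zero, zero_mul, add_zero]; exact ⟨1, G.one_mem, rfl⟩
  obtain ⟨a, ha, had, hax⟩ := C.exists_su_move hk hx0 hy0 hx hy
  have h1 := h.conj (hG.su i a ha had)
  rwa [map_add, map_one, map_mul, acts_fu i a, conjA_fu_com hω, C.conjA_nr ha, hax] at h1

theorem InJ.conj (hG : C.Over G) {i : Fin t} {ω : Matrix (Idx k t) (Idx k t) F} (h : C.InJ G i ω)
    {g : GL (Idx k t) F} (hg : g ∈ G) (ha : Acts g i i 1) : C.InJ G i (conjA g ω) := by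
  refine ⟨ha.com h.1, fun x hx => ?_⟩
  have := (h.2 x hx).conj hg
  rwa [map_add, map_one, map_mul, ha, conjA_one] at this

theorem InJ.smul_norm [Finite F] {i : Fin t} {ω : Matrix (Idx k t) (Idx k t) F} (h : C.InJ G i ω) {r : F}
    (hr : C.σ r = r) : C.InJ G i (r • ω) := by
  rcases eq_or_ne r 0 with rfl | hr0
  · rw [zero_smul]; exact InJ.zero
  obtain ⟨c, hc⟩ := C.exists_norm hr0 hr
  refine ⟨h.1.smul r, fun x hx => ?_⟩
  have h1 := h.2 (c • x) (by rw [C.ip_smul_left, C.ip_smul_right, hx, mul_zero, mul_zero])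
  rwa [C.nr_smul, hc, map_smul, smul_mul_assoc, ← mul_smul_comm] at h1

/-- The transvection at an isotropic vector of a factor. -/
def tv (C : Cj F) (u : ι → F) (c : F) (hu : C.ip u u = 0) : GL ι F :=
  ⟨1 + c • C.nr u, 1 - c • C.nr u,
    by rw [(show ∀ X : Matrix ι ι F, (1 + X) * (1 - X) = 1 - X * X from fun X => by noncomm_ring),
      smul_mul_smul_comm, C.nr_mul_self hu, smul_zero, sub_zero],
    by rw [(show ∀ X : Matrix ι ι F, (1 - X) * (1 + X) = 1 - X * X from fun X => by noncomm_ring),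
      smul_mul_smul_comm, C.nr_mul_self hu, smul_zero, sub_zero]⟩

theorem tv_val (u : ι → F) (c : F) (hu : C.ip u u = 0) : (C.tv u c hu).val = 1 + c • C.nr u := rfl

theorem iso_tv (u : ι → F) {c : F} (hc : c + C.σ c = 0) (hu : C.ip u u = 0) : C.Iso (C.tv u c hu).val := by
  show C.ad (1 + c • C.nr u) * _ = 1
  rw [C.ad_add, C.ad_one, C.ad_smul, C.ad_nr, eq_neg_of_add_eq_zero_right hc, neg_smul, ← sub_eq_add_neg]
  exact (C.tv u c hu).inv_mul

theorem det_tv (u : Fin k → F) (c : F) (hu : C.ip u u = 0) : (C.tv u c hu).val.det = 1 := by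
  rw [tv_val, nr, op, ← Matrix.smul_vecMulVec, Matrix.vecMulVec_eq Unit,
    Matrix.det_one_add_replicateCol_mul_replicateRow, dotProduct_smul]
  show 1 + c • (C.ip u u) = 1
  rw [hu, smul_zero, add_zero]

theorem tv_mulVec (u v : ι → F) (c : F) (hu : C.ip u u = 0) :
    (C.tv u c hu).val *ᵥ v = v + (c * C.ip u v) • u := by
  rw [tv_val, Matrix.add_mulVec, Matrix.one_mulVec, Matrix.smul_mulVec, nr, C.op_mulVec, smul_smul]

theorem inJ_scalar (hG : C.Over G) (i : Fin t) {c : F} (hc : c + C.σ c = 0) :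
    C.InJ G i (c • 1) := by
  refine ⟨com_scalar i c, fun x hx => ⟨fu i (C.tv x c hx), hG.su i _ (C.iso_tv x hc hx) (C.det_tv x c hx), ?_⟩⟩
  rw [fu_val, tv_val, map_add, map_one, map_smul, mul_smul_comm, mul_one]

end Cj

end Cfsg.Lib.Linear.UWreath
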