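import Cfsg.Agent.Lib.Linear.UTensor.Ten
import Cfsg.Agent.Lib.Linear.UWreath.Std

/-!
# One factor against the others

The tensor power as the product of one factor and of the power of the remaining ones.
-/

set_option autoImplicit false
set_option linter.unusedSectionVars false
set_option linter.unusedVariables false

namespace Cfsg.Lib.Linear.UWreath.Cj

open Cfsg.Geo Cfsg.Lib.Linear.AschGen Cfsg.Lib.Linear.TWreath
open scoped Matrix MatrixGroups

variable {F : Type*} [Field F] {C : Cj F} {k t : ℕ}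

/-- The product of a vector of the other factors and one of the `i`-th. -/
def tau (i : Fin (t + 1)) : (Idx k t → F) →ₗ[F] (Fin k → F) →ₗ[F] (Idx k (t + 1) → F) :=
  LinearMap.mk₂ F (fun a x z => x (z i) * a (i.removeNth z))
    (fun a b x => funext fun z => by simp [mul_add])
    (fun c a x => funext fun z => by simp [mul_left_comm])
    (fun a x y => funext fun z => by simp [add_mul])
    (fun c a x => funext fun z => by simp [mul_assoc])

theorem tau_apply (i : Fin (t + 1)) (a : Idx k t → F) (x : Fin k → F) (z : Idx k (t + 1)) :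
    tau i a x z = x (z i) * a (i.removeNth z) := rfl

theorem sum_cut (i : Fin (t + 1)) (f : Idx k (t + 1) → F) :
    ∑ z, f z = ∑ c : Fin k, ∑ r : Idx k t, f (i.insertNth c r) := by
  rw [← Equiv.sum_comp (cutEquiv i), Fintype.sum_prod_type]
  rfl

theorem fa_tau (i : Fin (t + 1)) (X : Matrix (Fin k) (Fin k) F) (a : Idx k t → F) (x : Fin k → F) :
    fa i X *ᵥ tau i a x = tau i a (X *ᵥ x) := by
  funext z
  show (fa i X *ᵥ tau i a x) z = (X *ᵥ x) (z i) * a (i.removeNth z)
  rw [Matrix.mulVec, dotProduct, sum_cut i, Matrix.mulVec, dotProduct, Finset.sum_mul]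
  refine Finset.sum_congr rfl fun c _ => ?_
  have hiff : ∀ r : Idx k t, (∀ l, l ≠ i → z l = i.insertNth (α := fun _ => Fin k) c r l) ↔ r = i.removeNth z := by
    intro r
    constructor
    · intro h
      funext l
      have := h _ (Fin.succAbove_ne i l)
      rw [Fin.insertNth_apply_succAbove] at this
      exact this.symm
    · rintro rfl l hl
      obtain ⟨l, rfl⟩ := Fin.exists_succAbove_eq hl
      rw [Fin.insertNth_apply_succAbove]
      rfl
  simp only [fa_apply, powStd_apply, hiff, ite_mul, zero_mul, Finset.sum_ite_eq', Finset.mem_univ, if_true,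
    tau_apply, Fin.insertNth_apply_same, Fin.removeNth_insertNth]
  ring

theorem psi_tau (i : Fin (t + 1)) (Y : Matrix (Idx k t) (Idx k t) F) (a : Idx k t → F) (x : Fin k → F) :
    psi i Y *ᵥ tau i a x = tau i (Y *ᵥ a) x := by
  funext z
  show (psi i Y *ᵥ tau i a x) z = x (z i) * (Y *ᵥ a) (i.removeNth z)
  rw [Matrix.mulVec, dotProduct, sum_cut i, Finset.sum_eq_single (z i) (fun c _ hc => ?_)
    (fun h => absurd (Finset.mem_univ _) h), Matrix.mulVec, dotProduct, Finset.mul_sum]
  · refine Finset.sum_congr rfl fun r _ => ?_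
    rw [psi_apply, if_pos (Fin.insertNth_apply_same (α := fun _ => Fin k) i (z i) r).symm,
      Fin.removeNth_insertNth, tau_apply, Fin.insertNth_apply_same, Fin.removeNth_insertNth]
    ring
  · refine Finset.sum_eq_zero fun r _ => ?_
    rw [psi_apply, if_neg (by rw [Fin.insertNth_apply_same]; exact fun e => hc e.symm), zero_mul]

theorem ip_tau (i : Fin (t + 1)) (a b : Idx k t → F) (x y : Fin k → F) :
    C.ip (tau i a x) (tau i b y) = C.ip a b * C.ip x y := by
  simp only [ip, dotProduct, Function.comp_apply]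
  rw [sum_cut i, Finset.sum_mul_sum, Finset.sum_comm (γ := Idx k t)]
  refine Finset.sum_congr rfl fun c _ => Finset.sum_congr rfl fun r _ => ?_
  simp only [tau_apply, Fin.insertNth_apply_same, Fin.removeNth_insertNth, map_mul]
  ring

theorem single_eq_tau (i : Fin (t + 1)) (z : Idx k (t + 1)) :
    (Pi.single z 1 : Idx k (t + 1) → F) = tau i (Pi.single (i.removeNth z) 1) (Pi.single (z i) 1) := by
  funext w
  rw [tau_apply]
  by_cases h : w = z
  · subst h; simp
  · rw [Pi.single_eq_of_ne h]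
    by_cases h1 : w i = z i
    · have h2 : i.removeNth w ≠ i.removeNth z := fun e => h (by
        rw [← Fin.insertNth_self_removeNth i w, ← Fin.insertNth_self_removeNth i z, h1, e])
      simp [h2]
    · simp [h1]

theorem span_tau (i : Fin (t + 1)) :
    Submodule.span F (Set.range fun p : (Idx k t → F) × (Fin k → F) => tau i p.1 p.2) = ⊤ := by
  refine eq_top_iff.2 fun v _ => ?_
  rw [pi_eq_sum_univ' v]
  refine Submodule.sum_mem _ fun z _ => Submodule.smul_mem _ _ ?_
  rw [single_eq_tau i z]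
  exact Submodule.subset_span ⟨(Pi.single (i.removeNth z) 1, Pi.single (z i) 1), rfl⟩

theorem mulVec_ext (i : Fin (t + 1)) {M N : Matrix (Idx k (t + 1)) (Idx k (t + 1)) F}
    (h : ∀ a x, M *ᵥ tau i a x = N *ᵥ tau i a x) : M = N :=
  Matrix.toLin'.injective (LinearMap.ext_on (span_tau i) (by
    rintro _ ⟨⟨a, x⟩, rfl⟩
    exact h a x))

variable [Finite F]

theorem ten (hk : 3 ≤ k) (ht : 1 ≤ t) (i : Fin (t + 1)) :
    UTensor.Ten (C.form (Idx k (t + 1))) (C.form (Idx k t)) (C.form (Fin k)) (tau i) := by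
  refine ⟨C.cform _, C.cform _, C.cform _, fun a x b y => C.ip_tau i a b x y, span_tau i, ?_, ?_, ?_, ?_⟩
  · rw [Module.finrank_fintype_fun_eq_card, Fintype.card_fun, Fintype.card_fin, Fintype.card_fin]
    exact le_trans (by omega) (Nat.le_self_pow (by omega) k)
  · rwa [Module.finrank_fin_fun]
  · simp [Module.finrank_fintype_fun_eq_card, pow_succ]
  · intro p q
    obtain ⟨P, rfl⟩ := (Symp.glEquiv (Idx k t) F).surjective p
    obtain ⟨Q, rfl⟩ := (Symp.glEquiv (Fin k) F).surjective q
    refine ⟨Symp.glEquiv _ F (fu i Q * psiU i P), fun a x => ?_, ?_⟩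
    · rw [Symp.glEquiv_apply, Units.val_mul, fu_val, psiU_val, ← Matrix.mulVec_mulVec, psi_tau, fa_tau,
        Symp.glEquiv_apply, Symp.glEquiv_apply]
    · rw [det_glEquiv, det_glEquiv, det_glEquiv, Units.val_mul, Matrix.det_mul, fu_val, psiU_val, det_fa, det_psi,
        mul_comm, Module.finrank_fin_fun, Module.finrank_fintype_fun_eq_card, Fintype.card_fun, Fintype.card_fin,
        Fintype.card_fin]

/-- An elementary map as a matrix. -/
theorem lin_eq (hk : 3 ≤ k) (ht : 1 ≤ t) (i : Fin (t + 1)) (x y : Fin k → F) (Y : Matrix (Idx k t) (Idx k t) F) :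
    (ten (C := C) hk ht i).lin x y (Matrix.toLin' Y) = Matrix.toLin' (fa i (C.op x y) * psi i Y) := by
  refine LinearMap.ext_on (span_tau i) ?_
  rintro _ ⟨⟨a, z⟩, rfl⟩
  rw [UTensor.Ten.lin_tau, Matrix.toLin'_apply, Matrix.toLin'_apply, ← Matrix.mulVec_mulVec, psi_tau, fa_tau,
    C.op_mulVec, map_smul, form_apply]

theorem lin_apply_eq (hk : 3 ≤ k) (ht : 1 ≤ t) (i : Fin (t + 1)) (x y : Fin k → F)
    (Y : Matrix (Idx k t) (Idx k t) F) (v : Idx k (t + 1) → F) :
    (ten (C := C) hk ht i).lin x y (Matrix.toLin' Y) v = (fa i (C.op x y) * psi i Y) *ᵥ v := by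
  rw [C.lin_eq hk ht, Matrix.toLin'_apply]

theorem inA_iff {ι : Type} [Fintype ι] [DecidableEq ι] (G : Subgroup (GL ι F)) (M : Matrix ι ι F) :
    UTensor.InA (G.map (Symp.glEquiv ι F).toMonoidHom) (Matrix.toLin' M) ↔ ∃ g ∈ G, g.val = 1 + M := by
  constructor
  · rintro ⟨_, ⟨g, hg, rfl⟩, h⟩
    refine ⟨g, hg, Matrix.toLin'.injective (LinearMap.ext fun v => ?_)⟩
    have := h v
    simp only [MulEquiv.coe_toMonoidHom, Symp.glEquiv_apply, Matrix.toLin'_apply] at this
    rw [Matrix.toLin'_apply, Matrix.toLin'_apply, Matrix.add_mulVec, Matrix.one_mulVec, this]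
  · rintro ⟨g, hg, h⟩
    refine ⟨_, ⟨g, hg, rfl⟩, fun v => ?_⟩
    simp [Symp.glEquiv_apply, h, Matrix.add_mulVec]

/-- The adjoint of the bridge is the conjugate transpose. -/
theorem adj_eq (hk : 3 ≤ k) (ht : 1 ≤ t) (i : Fin (t + 1)) (Y : Matrix (Idx k t) (Idx k t) F) :
    (ten (C := C) hk ht i).adj (Matrix.toLin' Y) = Matrix.toLin' (C.ad Y) :=
  (ten hk ht i).adj_eq fun a b => by
    rw [Matrix.toLin'_apply, Matrix.toLin'_apply, form_apply, form_apply, C.ip_mulVec]

end Cfsg.Lib.Linear.UWreath.Cj
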