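import Cfsg.Agent.Lib.Linear.UWreath.Slab

/-!
# Conjugates of roots which permute the factors
-/

set_option autoImplicit false
set_option linter.unusedSectionVars false
set_option linter.unusedVariables false

namespace Cfsg.Lib.Linear.UWreath.Cj

open Cfsg.Geo Cfsg.Lib.Linear.AschGen Cfsg.Lib.Linear.TWreath
open scoped Matrix MatrixGroups

variable {F : Type*} [Field F] [Finite F] {C : Cj F} {k t : ℕ}
  {G : Subgroup (GL (Idx k (t + 1)) F)}

theorem IsRtD.sq_zero (hm : 3 ≤ k) {x : GL (Idx k (t + 1)) F} (h : C.IsRtD G x) :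
    (x.val - 1) * (x.val - 1) = 0 :=
  (isD_facts hm (h.isD hm)).1

theorem IsRtD.sq (hm : 3 ≤ k) (h2 : (2 : F) = 0) {x : GL (Idx k (t + 1)) F} (h : C.IsRtD G x) : x * x = 1 :=
  (h.isD hm).sq h2

/-- Interchanges are not conjugate to roots. -/
theorem Ctx.not_sw (K : C.Ctx G) {x : GL (Idx k (t + 1)) F} (hD : C.IsRtD G x) (hx : IsSw x) : False := by
  classical
  have hm := K.hk
  have : Nonempty (Idx k (t + 1)) := ⟨fun _ => p0 hm⟩
  obtain ⟨h2, hm3, i, j, hij, -, a, b, ha, -⟩ := hx
  have hx2 := (hD.isD hm).sq h2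
  obtain ⟨g, hg, o, s, hsR, hxg⟩ := hD
  obtain ⟨a0, hs⟩ := hsR.isTv hm
  set M0 := a0 * tv0 (F := F) hm * a0⁻¹ with hM0
  have hxi : x⁻¹ = x := inv_eq_of_mul_eq_one_right hx2
  let Kj : GL (Fin k) F → GL (Idx k (t + 1)) F := fun X => fu j (a * X * a⁻¹)
  have hxC : ∀ X, x * fu i X = Kj X * x := fun X => by
    have := fu_conj_of_acts ha X
    rw [mul_inv_eq_iff_eq_mul] at this
    exact this
  have hxC' : ∀ X, x * Kj X = fu i X * x := fun X => by
    have h1 := congrArg (fun y => x * y * x) (hxC X)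
    simp only [mul_assoc, hx2, mul_one] at h1
    rw [← mul_assoc x x, hx2, one_mul] at h1
    exact h1.symm
  have hcc : ∀ X Y, Commute (fu i X) (Kj Y) := fun X Y => Units.ext (fa_comm hij _ _).eq
  have hCm : ∀ X Y, Kj (X * Y) = Kj X * Kj Y := fun X Y => by
    simp only [Kj, ← map_mul]; congr 1; group
  let σX : GL (Fin k) F → GL (Idx k (t + 1)) F := fun X => fu i X * x * (fu i X)⁻¹
  have hσ : ∀ X, X * X = 1 → σX X = fu i X * Kj X * x := fun X hX => by
    show fu i X * x * (fu i X)⁻¹ = _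
    rw [← map_inv, inv_eq_of_mul_eq_one_right hX, mul_assoc, hxC, ← mul_assoc]
  let Ψ : GL (Fin k) F → GL (Idx k (t + 1)) F := fun X => g⁻¹ * σX X * g
  have key : ∀ X : GL (Fin k) F, C.Iso X.val → X.val.det = 1 → X * X = 1 → (∀ c : F, X.val ≠ c • 1) →
      Com o (Ψ X).val ∧ Ψ X * Ψ X = 1 := by
    intro X hXi hX hX2 hns
    have hh : g⁻¹ * fu i X * g ∈ G := G.mul_mem (G.mul_mem (G.inv_mem hg) (K.hov.su i X hXi hX)) hg
    have hΨD : C.IsRtD G (Ψ X) := ⟨g⁻¹ * fu i X * g, hh, o, s, hsR, by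
      show g⁻¹ * (fu i X * x * (fu i X)⁻¹) * g = _
      rw [hxg]; group⟩
    refine ⟨?_, (hΨD.isD hm).sq h2⟩
    have hσx : σX X * x = fu i X * Kj X := by rw [hσ X hX2, mul_assoc _ x x, hx2, mul_one]
    have hσc : Commute (σX X) x := by
      show _ = _
      rw [hσx, hσ X hX2, ← mul_assoc, ← mul_assoc, hxC, mul_assoc (Kj X) x, hxC', ← mul_assoc,
        mul_assoc _ x x, hx2, mul_one, (hcc X X).eq]
    have hΨs : Ψ X * s = g⁻¹ * (σX X * x) * g := by
      show g⁻¹ * σX X * g * s = _
      rw [hxg]; group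
    have hsΨ : s * Ψ X = g⁻¹ * (x * σX X) * g := by
      show s * (g⁻¹ * σX X * g) = _
      rw [hxg]; group
    have hcs : Commute (Ψ X) s := by
      show _ = _
      rw [hΨs, hsΨ, hσc.eq]
    have hΨm := K.cent_tv (hΨD.mem K.hov) hsR hcs
    rcases classify hm (hΨD.isD hm) hΨm with ⟨l, hl⟩ | hsw
    · obtain ⟨c, hc⟩ := hl
      rcases eq_or_ne l o with rfl | hlo
      · exfalso
        set L := c * tv0 hm * c⁻¹ * M0 with hL
        have hΨs' : Ψ X * s = fu l L := by rw [hc, hs, hL, ← map_mul]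
        have hΨs2 : (Ψ X * s) * (Ψ X * s) = 1 := by
          rw [mul_assoc, ← mul_assoc s, ← hcs.eq, mul_assoc (Ψ X) s s, ((hsR.isRtD (G := G)).isD hm).sq h2, mul_one, (hΨD.isD hm).sq h2]
        set N := L.val - 1 with hN
        have hLL : L.val * L.val = 1 := by
          have := congrArg Units.val hΨs2
          rw [hΨs', Units.val_mul, fu_val, ← map_mul, Units.val_one, ← map_one (fa l)] at this
          exact fa_injective (by omega) l this
        have hNN : N * N = 0 := by
          have e : N * N = L.val * L.val - (2 : F) • L.val + 1 := by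
            simp only [hN, sub_mul, mul_sub, one_mul, mul_one, two_smul]; abel
          rw [e, hLL, h2, zero_smul, sub_zero, ← two_smul F (1 : Matrix (Fin k) (Fin k) F), h2, zero_smul]
        obtain ⟨v, μ, hv⟩ := exists_vecMulVec hm3 hNN
        have hle : ((fu i X * Kj X).val - 1).rank ≤ (fa l (sg (p0 hm) (p0 hm) : Matrix (Fin k) (Fin k) F)).rank := by
          rw [← hσx, show σX X * x = g * (Ψ X * s) * g⁻¹ by rw [hΨs]; group, rank_conj_sub_one, hΨs', fu_val,
            ← map_one (fa l), ← map_sub, ← hN, hv]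
          exact rank_fa_vecMulVec l _ v μ
        have hlt := two_components hm (i := i) (A := X.val) (β := Kj X) (com_fa hij _) hns (fun e he => by
          have h1 : fa j (a * X * a⁻¹).val = fa j (e • (1 : Matrix (Fin k) (Fin k) F)) := by
            rw [map_smul, map_one]; exact he
          have h1' := congrArg (conjA a⁻¹) (fa_injective (by omega) j h1)
          rw [val_conj, conjA_inv, map_smul, map_one] at h1'
          exact hns e h1') (by
          have h1 : (fu i X * Kj X) * (fu i X * Kj X) = 1 := by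
            rw [(hcc X X).symm.mul_mul_mul_comm, ← map_mul, ← hCm, hX2]
            simp [Kj]
          have h3 := congrArg Units.val h1
          simp only [Units.val_mul, fu_val, Units.val_one] at h3
          have e : (fa i X.val * (Kj X).val - 1) * (fa i X.val * (Kj X).val - 1) =
              fa i X.val * (Kj X).val * (fa i X.val * (Kj X).val) - (2 : F) • (fa i X.val * (Kj X).val) + 1 := by
            simp only [sub_mul, mul_sub, one_mul, mul_one, two_smul]; abel
          rw [e, h3, h2, zero_smul, sub_zero, ← two_smul F (1 : Matrix (Idx k (t + 1)) (Idx k (t + 1)) F), h2, zero_smul])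
        rw [Units.val_mul, fu_val, rank_fa_indep l i] at hle
        omega
      · rw [hc, fu_val]
        exact com_fa hlo.symm _
    · obtain ⟨-, -, i', j', hij', hfix, a', b', ha', hb'⟩ := hsw
      rcases eq_or_ne o i' with rfl | hoi
      · exfalso
        have h1 := ha' M0.val
        rw [← fu_val, ← val_conj, ← hs, hcs.eq, mul_inv_cancel_right, hs, fu_val] at h1
        obtain ⟨e, he⟩ := eq_of_fa_eq (by omega) hij' h1
        exact tv0_ne_scalar hm a0 e he
      · rcases eq_or_ne o j' with rfl | hoj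
        · exfalso
          have h1 := hb' M0.val
          rw [← fu_val, ← val_conj, ← hs, hcs.eq, mul_inv_cancel_right, hs, fu_val] at h1
          obtain ⟨e, he⟩ := eq_of_fa_eq (by omega) hij'.symm h1
          exact tv0_ne_scalar hm a0 e he
        · exact hfix o hoi hoj
  obtain ⟨u, hu0, hu⟩ := C.exists_isotropic (show 2 ≤ k by omega)
  obtain ⟨c, hc0, hc⟩ := C.exists_skew
  obtain ⟨a₁, ha₁0, ha₁⟩ : ∃ a : F, a ≠ 0 ∧ C.σ a * a ≠ 1 := by
    rcases K.hex with h | h
    · exact h
    · omega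
  set r := C.σ a₁ * a₁ with hr
  have hrσ : C.σ r = r := by rw [hr, map_mul, C.invol, mul_comm]
  have hr0 : r ≠ 0 := mul_ne_zero (C.σ_ne_zero ha₁0) ha₁0
  have hr1 : 1 + r ≠ 0 := fun e => ha₁ (by linear_combination e - h2)
  have hrc : r * c + C.σ (r * c) = 0 := by rw [map_mul, hrσ, ← mul_add, hc, mul_zero]
  set A := C.tv u c hu with hA
  set B := C.tv u (r * c) hu with hB
  have hmul : ∀ d e : F, (C.tv u d hu).val * (C.tv u e hu).val = 1 + (d + e) • C.nr u := fun d e => by
    simp only [tv_val, mul_add, add_mul, one_mul, mul_one, smul_mul_smul_comm, C.nr_mul_self hu, smul_zero,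
      add_zero, add_smul]
    abel
  have hsq : ∀ d : F, C.tv u d hu * C.tv u d hu = 1 := fun d => Units.ext (by
    rw [Units.val_mul, hmul, ← two_mul, h2, zero_mul, zero_smul, add_zero, Units.val_one])
  have hAB : A * B = B * A := Units.ext (by rw [Units.val_mul, Units.val_mul, hmul, hmul, add_comm c])
  have hns : ∀ (M : GL (Fin k) F) (d : F), d ≠ 0 → M.val = 1 + d • C.nr u → ∀ e : F, M.val ≠ e • 1 := by
    intro M d hd hM e he
    have h1 : d • C.nr u = (e - 1) • (1 : Matrix (Fin k) (Fin k) F) := by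
      rw [sub_smul, one_smul, ← he, hM, add_sub_cancel_left]
    have h3 := congrArg (fun X => X * X) h1
    simp only [smul_mul_smul_comm, C.nr_mul_self hu, smul_zero, one_mul] at h3
    have : Nonempty (Fin k) := ⟨p0 hm⟩
    have h4 := mul_self_eq_zero.1 ((smul_eq_zero.1 h3.symm).resolve_right one_ne_zero)
    rw [h4, zero_smul, smul_eq_zero] at h1
    exact C.nr_ne_zero hu0 (h1.resolve_left hd)
  have kA := key A (C.iso_tv u hc hu) (C.det_tv u c hu) (hsq _) (hns A c hc0 rfl)
  have kB := key B (C.iso_tv u hrc hu) (C.det_tv u _ hu) (hsq _) (hns B _ (mul_ne_zero hr0 hc0) rfl)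
  have kC := key (A * B) (by rw [Units.val_mul]; exact Iso.mul C (C.iso_tv u hc hu) (C.iso_tv u hrc hu))
    (by rw [Units.val_mul, Matrix.det_mul, C.det_tv, C.det_tv, one_mul])
    (by rw [(show Commute B A from hAB.symm).mul_mul_mul_comm, hsq, hsq, one_mul])
    (hns _ (c + r * c) (by rw [← one_add_mul]; exact mul_ne_zero hr1 hc0) (by rw [Units.val_mul, hmul]))
  have hrel : σX A * σX B * x = σX (A * B) := by
    rw [hσ A (hsq _), hσ B (hsq _), hσ (A * B) (by rw [(show Commute B A from hAB.symm).mul_mul_mul_comm, hsq, hsq, one_mul]),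
      map_mul, hCm]
    calc fu i A * Kj A * x * (fu i B * Kj B * x) * x
        = fu i A * Kj A * (x * fu i B) * (Kj B * (x * x)) := by group
      _ = fu i A * Kj A * (Kj B * x) * Kj B := by rw [hxC, hx2, mul_one]
      _ = fu i A * Kj A * Kj B * (x * Kj B) := by group
      _ = fu i A * Kj A * Kj B * (fu i B * x) := by rw [hxC']
      _ = fu i A * (Kj A * Kj B * fu i B) * x := by group
      _ = fu i A * fu i B * (Kj A * Kj B) * x := by
        rw [((hcc B A).symm.mul_left (hcc B B).symm).eq]; group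
  have hrelΨ : Ψ A * Ψ B * s = Ψ (A * B) := by
    show g⁻¹ * σX A * g * (g⁻¹ * σX B * g) * s = g⁻¹ * σX (A * B) * g
    rw [← hrel, hxg]; group
  have hsval : s = Ψ B * Ψ A * Ψ (A * B) := by
    rw [← hrelΨ]
    calc s = (Ψ B * Ψ B) * s := by rw [kB.2, one_mul]
      _ = Ψ B * (Ψ A * Ψ A) * Ψ B * s := by rw [kA.2, mul_one]
      _ = Ψ B * Ψ A * (Ψ A * Ψ B * s) := by group
  have hcom : Com o s.val := by
    rw [hsval, Units.val_mul, Units.val_mul]
    exact (kB.1.mul kA.1).mul kC.1
  obtain ⟨e, he⟩ := Matrix.mem_range_scalar_of_commute_single (M := M0.val) fun p q _ => by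
    have h1 := (hcom (Matrix.single p q 1)).eq
    rw [hs, fu_val, ← map_mul, ← map_mul] at h1
    exact fa_injective (by omega) o h1
  exact tv0_ne_scalar hm a0 e (by rw [← hM0, ← he, Matrix.scalar_apply, Matrix.smul_one_eq_diagonal])

/-- The conjugates of roots permuting the factors are roots. -/
theorem Ctx.isRoot_of_mem (K : C.Ctx G) {x : GL (Idx k (t + 1)) F} (hD : C.IsRtD G x)
    (hx : x ∈ mst k (t + 1) F) : ∃ i, C.IsRoot x i := by
  rcases classify K.hk (hD.isD K.hk) hx with ⟨i, hi⟩ | h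
  · exact ⟨i, isRoot_of_isTv hi (hD.iso K.hov)⟩
  · exact (K.not_sw hD h).elim

theorem Ctx.exists_moved (K : C.Ctx G) {x : GL (Idx k (t + 1)) F} (hx : x ∈ G)
    (hxm : x ∉ mst k (t + 1) F) : ∃ b, C.IsRtD G b ∧ b ∉ mst k (t + 1) F := by
  obtain ⟨s, hs⟩ := exists_isRoot (t := t + 1) C (show 2 ≤ k by have := K.hk; omega) 0
  refine ⟨x * s * x⁻¹, hs.isRtD.conj hx, fun hb => ?_⟩
  obtain ⟨j, hj⟩ := K.isRoot_of_mem (hs.isRtD.conj hx) hb
  exact hxm (K.mem_of_tv hx hs hj)

/-- A root and a moved conjugate generate no `p`-group. -/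
theorem Ctx.not_pgroup (K : C.Ctx G) (p : ℕ) [Fact p.Prime] {s b : GL (Idx k (t + 1)) F} {i : Fin (t + 1)}
    (hs : C.IsRoot s i) (hb : C.IsRtD G b)
    (hp : IsPGroup p (Subgroup.closure {s, b} : Subgroup (GL (Idx k (t + 1)) F))) : b ∈ mst k (t + 1) F := by
  classical
  by_contra hbm
  set H : Subgroup (GL (Idx k (t + 1)) F) := Subgroup.closure {s, b} with hH
  have hHG : H ≤ G := (Subgroup.closure_le _).2 (Set.insert_subset (hs.mem K.hov)
    (Set.singleton_subset_iff.2 (hb.mem K.hov)))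
  have hsH : s ∈ H := Subgroup.subset_closure (by simp)
  have hbH : b ∈ H := Subgroup.subset_closure (by simp)
  have : Group.IsNilpotent H := hp.isNilpotent
  set H' := (mst k (t + 1) F).subgroupOf H with hH'
  have hne : H' ≠ ⊤ := fun h => hbm (by
    have : (⟨b, hbH⟩ : H) ∈ H' := h ▸ Subgroup.mem_top _
    exact this)
  have hlt := Group.normalizerCondition_of_isNilpotent H' (lt_top_iff_ne_top.2 hne)
  obtain ⟨x, hxN, hxH'⟩ := SetLike.exists_of_lt hlt
  have hmem : (x : GL (Idx k (t + 1)) F) * s * (x : GL (Idx k (t + 1)) F)⁻¹ ∈ mst k (t + 1) F :=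
    (Subgroup.mem_normalizer_iff.1 hxN ⟨s, hsH⟩).1 hs.mem_mst
  obtain ⟨j, hj⟩ := K.isRoot_of_mem (hs.isRtD.conj (hHG x.2)) hmem
  exact hxH' (K.mem_of_tv (hHG x.2) hs hj)

end Cfsg.Lib.Linear.UWreath.Cj
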