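import Cfsg.Agent.Lib.Linear.UWreath.Slab

/-!
# The isometries induced on one factor fewer
-/

set_option autoImplicit false
set_option linter.unusedSectionVars false
set_option linter.unusedVariables false

namespace Cfsg.Lib.Linear.UWreath.Cj

open Cfsg.Geo Cfsg.Lib.Linear.AschGen Cfsg.Lib.Linear.TWreath
open scoped Matrix MatrixGroups

variable {F : Type*} [Field F] [Finite F] {C : Cj F} {k t : ℕ}

/-- The isometries. -/
def isoGrp (C : Cj F) (k t : ℕ) : Subgroup (GL (Idx k t) F) where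
  carrier := {Y | C.Iso Y.val}
  mul_mem' {X Y} hX hY := by
    show C.Iso (X * Y).val
    rw [Units.val_mul]; exact Iso.mul C hX hY
  one_mem' := by
    show C.Iso (1 : GL (Idx k t) F).val
    rw [Units.val_one]; exact Iso.one C
  inv_mem' {X} hX := Iso.inv C hX

/-- The isometries of the other factors induced by elements fixing the `i`-th one. -/
def icut (C : Cj F) (G : Subgroup (GL (Idx k (t + 1)) F)) (i : Fin (t + 1)) : Subgroup (GL (Idx k t) F) :=
  cut G i ⊓ C.isoGrp k t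

variable {G : Subgroup (GL (Idx k (t + 1)) F)}

/-- An element of the group fixing a factor splits into isometries. -/
theorem exists_iso_split (hG : C.Over G) (hk : 0 < k) {i : Fin (t + 1)} {x : GL (Idx k (t + 1)) F} (hx : x ∈ G)
    {a : GL (Fin k) F} (ha : Acts x i i a) :
    ∃ (b : GL (Fin k) F) (Y : GL (Idx k t) F), C.Iso b.val ∧ Y ∈ C.icut G i ∧ Acts x i i b ∧
      x = fu i b * psiU i Y := by
  obtain ⟨b, hb, hbx⟩ := C.exists_iso_acts hk (hG.iso x hx) ha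
  obtain ⟨Y, hY⟩ := exists_split hk hbx
  refine ⟨b, Y, hb, ⟨⟨b, hY ▸ hx⟩, ?_⟩, hbx, hY⟩
  have h1 : C.Iso ((fu i b)⁻¹ * x).val := by
    rw [Units.val_mul]; exact Iso.mul C (Iso.inv C (C.iso_fu hb i)) (hG.iso x hx)
  rw [hY, inv_mul_cancel_left, psiU_val] at h1
  show C.ad Y.val * Y.val = 1
  refine psi_injective hk i ?_
  rw [map_mul, ← C.ad_psi, map_one]
  exact h1

theorem icut_over (hG : C.Over G) (hk : 0 < k) (i : Fin (t + 1)) : C.Over (C.icut G i) := by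
  refine ⟨fun Y hY => hY.2, fun j a ha had => ⟨⟨1, by rw [map_one, one_mul, psiU_fu]; exact hG.su _ a ha had⟩,
    C.iso_fu ha j⟩, fun ht σ => ?_⟩
  set σ' := σ.viaEmbedding (Fin.succAboveEmb i)
  obtain ⟨g, hg, hσ⟩ := hG.perm (by omega) σ'
  have hi : σ' i = i := Equiv.Perm.viaEmbedding_apply_of_notMem _ _ _ (by
    rintro ⟨l, hl⟩; exact Fin.succAbove_ne i l hl)
  obtain ⟨a, ha⟩ := hσ i
  rw [hi] at ha
  obtain ⟨b, Y, -, hY, -, rfl⟩ := exists_iso_split hG hk hg ha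
  refine ⟨Y, hY, fun j => ?_⟩
  obtain ⟨c, hc⟩ := hσ (i.succAbove j)
  have hσj : σ' (i.succAbove j) = i.succAbove (σ j) := Equiv.Perm.viaEmbedding_apply σ (Fin.succAboveEmb i) j
  rw [hσj] at hc
  refine ⟨c, fun X => psi_injective hk i ?_⟩
  have h1 := hc X
  rw [conjA_mul, ← psi_fa, ← psi_fa, conjA_psiU, conjA_fu_com (com_psi i _)] at h1
  exact h1

theorem icut_losing (hk : 3 ≤ k) (ht : 1 ≤ t) (hex : (∃ a : F, a ≠ 0 ∧ C.σ a * a ≠ 1) ∨ 4 ≤ k)
    (hG : C.Over G) (hR : C.Losing G) (i : Fin (t + 1)) : C.Losing (C.icut G i) := by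
  intro j ω hω
  obtain ⟨x, hx0, hx⟩ := C.exists_isotropic (by omega : 2 ≤ k)
  obtain ⟨g, ⟨⟨a, hga⟩, hgI⟩, hgv⟩ := hω.2 x hx
  set l := i.succAbove j with hl
  have hli : l ≠ i := Fin.succAbove_ne i j
  have hΨ : Com l (psi i ω) := fun X => by
    rw [hl, ← psi_fa]; exact (hω.1 X).map (psi i)
  obtain ⟨Ω, hΩ⟩ := exists_psi (by omega) l hΨ
  set w := psiU i g with hw
  have hwv : w.val = 1 + fa l (C.nr x) * psi l Ω := by
    rw [hw, psiU_val, hgv, map_add, map_one, map_mul, psi_fa, hΩ]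
  have hwiso : C.Iso w.val := C.iso_psiU hgI i
  have hnice : ∀ q : GL (Fin k) F, C.Iso q.val → q.val.det = 1 → w * fu l q * w⁻¹ ∈ G := by
    intro q hq hqd
    have hq' : fu l q ∈ G := hG.su l q hq hqd
    have h1 := G.mul_mem (G.mul_mem hga hq') (G.inv_mem hga)
    have e : w * fu l q * w⁻¹ = psiU i (g * fu j q * g⁻¹) := by
      rw [map_mul, map_mul, map_inv, psiU_fu]
    have e2 : fu i a * psiU i g * fu l q * (fu i a * psiU i g)⁻¹ = w * fu l q * w⁻¹ :=
      calc fu i a * psiU i g * fu l q * (fu i a * psiU i g)⁻¹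
          = fu i a * (w * fu l q * w⁻¹) * (fu i a)⁻¹ := by rw [hw]; group
        _ = w * fu l q * w⁻¹ := by rw [e, (fu_psiU_comm i a _).eq, mul_inv_cancel_right]
    rwa [e2] at h1
  have hiso : ∀ g ∈ G, C.Iso g.val := hG.iso
  have hsu : ∀ b : GL (Fin k) F, C.Iso b.val → b.val.det = 1 → fu l b ∈ G := hG.su l
  have hex' : (∃ a : F, a ≠ 0 ∧ C.σ a * a ≠ 1) ∨ 4 ≤ Module.finrank F (Fin k → F) := by
    rwa [Module.finrank_fin_fun]
  obtain ⟨d, hd⟩ := Stab.scalar_of_comm (rightOver_map hk ht hiso hsu) (ten_losing hk ht hsu (hR l)) hex'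
    (C.mem_of_iso hwiso) (nice_map hk ht hnice) hx0 hx (ω := Matrix.toLin' Ω) fun b z => by
      show Symp.glEquiv _ F w (tau l b z) = _
      rw [Symp.glEquiv_apply, hwv, Matrix.add_mulVec, Matrix.one_mulVec, ← Matrix.mulVec_mulVec, psi_tau, fa_tau,
        nr, C.op_mulVec, map_smul, Matrix.toLin'_apply, form_apply]
  have hΩd : Ω = d • 1 := Matrix.toLin'.injective (by rw [hd, map_smul, Matrix.toLin'_one])
  refine ⟨d, psi_injective (by omega) i ?_⟩
  rw [← hΩ, hΩd, map_smul, map_one, map_smul, map_one]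

theorem mem_mst_of_icut (hG : C.Over G) (hk : 0 < k) {i : Fin (t + 1)} (hcut : C.icut G i ≤ mst k t F)
    {x : GL (Idx k (t + 1)) F} (hx : x ∈ G) {a : GL (Fin k) F} (ha : Acts x i i a) :
    x ∈ mst k (t + 1) F := by
  obtain ⟨b, Y, -, hY, hb, rfl⟩ := exists_iso_split hG hk hx ha
  obtain ⟨σ, hσ⟩ := hcut hY
  refine ⟨σ.viaEmbedding (Fin.succAboveEmb i), fun l => ?_⟩
  rcases Fin.eq_self_or_eq_succAbove i l with rfl | ⟨j, rfl⟩
  · rw [Equiv.Perm.viaEmbedding_apply_of_notMem _ _ _ (by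
      rintro ⟨z, hz⟩; exact Fin.succAbove_ne _ z hz)]
    exact ⟨b, hb⟩
  · obtain ⟨c, hc⟩ := hσ j
    rw [show σ.viaEmbedding (Fin.succAboveEmb i) (i.succAbove j) = i.succAbove (σ j) from
      Equiv.Perm.viaEmbedding_apply σ (Fin.succAboveEmb i) j]
    refine ⟨c, fun X => ?_⟩
    rw [conjA_mul, ← psi_fa, conjA_psiU, hc, conjA_fu_com (com_psi i _), psi_fa]

end Cfsg.Lib.Linear.UWreath.Cj
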