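import Cfsg.Agent.Lib.Linear.UWreath.Classify

/-!
# Characteristic two: centralisers of involutions

A root and a conjugate outside the stabiliser have product of odd order, and hence the centraliser
of an involution with two classes of commuting roots permutes the factors.
-/

set_option autoImplicit false
set_option linter.unusedSectionVars false
set_option linter.unusedVariables false

namespace Cfsg.Lib.Linear.UWreath.Cj

open Cfsg.Geo Cfsg.Lib.Linear.AschGen Cfsg.Lib.Linear.TWreath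
open scoped Matrix MatrixGroups

variable {F : Type*} [Field F] [Finite F] {C : Cj F} {k t : ℕ}

theorem neg_self {ι : Type} [Fintype ι] [DecidableEq ι] (h2 : (2 : F) = 0) (X : Matrix ι ι F) : -X = X :=
  neg_eq_of_add_eq_zero_left (by rw [← two_smul F, h2, zero_smul])

theorem add_skew_one (h2 : (2 : F) = 0) : (1 : F) + C.σ 1 = 0 := by
  rw [map_one]; linear_combination h2

/-- The root at an isotropic vector, in characteristic two. -/
def rt (C : Cj F) (i : Fin t) (u : Fin k → F) (hu : C.ip u u = 0) : GL (Idx k t) F := fu i (C.tv u 1 hu)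

theorem rt_val (i : Fin t) (u : Fin k → F) (hu : C.ip u u = 0) :
    (C.rt i u hu).val = 1 + fa i (C.nr u) := by
  rw [rt, fu_val, tv_val, one_smul, map_add, map_one]

theorem isRoot_rt (h2 : (2 : F) = 0) (i : Fin t) {u : Fin k → F} (hu0 : u ≠ 0) (hu : C.ip u u = 0) :
    C.IsRoot (C.rt i u hu) i :=
  ⟨u, 1, hu0, hu, add_skew_one h2, one_ne_zero, by rw [rt_val, one_smul]⟩

theorem IsRoot.exists_rt (h2 : (2 : F) = 0) {x : GL (Idx k t) F} {i : Fin t} (h : C.IsRoot x i) :
    ∃ (u : Fin k → F) (hu : C.ip u u = 0), u ≠ 0 ∧ x = C.rt i u hu := by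
  obtain ⟨u, c, hu0, hu, hc, hc0, hx⟩ := h
  obtain ⟨r, hr⟩ := C.exists_norm hc0 (show C.σ c = c by linear_combination hc - c * h2)
  have hr0 : r ≠ 0 := fun e => hc0 (by rw [← hr, e, mul_zero])
  refine ⟨r • u, by rw [C.ip_smul_left, C.ip_smul_right, hu, mul_zero, mul_zero], smul_ne_zero hr0 hu0, ?_⟩
  exact Units.ext (by rw [hx, rt_val, C.nr_smul, hr, map_smul])

theorem tv_tv_comm {u v : Fin k → F} (c d : F) (hu : C.ip u u = 0) (hv : C.ip v v = 0) (huv : C.ip u v = 0)
    (hvu : C.ip v u = 0) : Commute (C.tv u c hu) (C.tv v d hv) :=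
  commute_val (by
    rw [tv_val, tv_val]
    refine (Commute.one_left _).add_left ((Commute.one_right _).add_right ?_)
    show _ = _
    rw [smul_mul_smul_comm, smul_mul_smul_comm, nr, nr, C.op_mul, C.op_mul, huv, hvu, zero_smul, zero_smul,
      smul_zero, smul_zero])

/-- An isotropic vector orthogonal to one and independent of it. -/
theorem exists_orth_iso (C : Cj F) (h4 : 4 ≤ k) {v : Fin k → F} (hv0 : v ≠ 0) (hv : C.ip v v = 0) :
    ∃ f u : Fin k → F, C.ip v f = 1 ∧ C.ip f v = 1 ∧ u ≠ 0 ∧ C.ip u u = 0 ∧ C.ip v u = 0 ∧ C.ip u v = 0 ∧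
      C.ip u f = 0 ∧ u ∉ Submodule.span F {v} := by
  have K := C.cform (Fin k)
  obtain ⟨f, -, hvf, hfv⟩ := C.exists_partner hv0 hv
  obtain ⟨u, huP, hu0, huu⟩ := Herm.exists_iso_ne_zero C.ne_id C.invol C.form_symm (K.perp2 v f)
    (by have := K.finrank_perp2 v f; rw [Module.finrank_fin_fun] at this; omega)
  obtain ⟨hvu, hfu⟩ := K.mem_perp2.1 huP
  rw [form_apply] at hvu hfu huu
  refine ⟨f, u, hvf, hfv, hu0, huu, hvu, K.swap_zero hvu, K.swap_zero hfu, fun h => hu0 ?_⟩
  obtain ⟨a, rfl⟩ := Submodule.mem_span_singleton.1 h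
  rw [C.ip_smul_right, hfv, mul_one] at hfu
  rw [hfu, zero_smul]

/-- A second root commuting with a given one. -/
theorem exists_other (hk : 3 ≤ k) (hex : (∃ a : F, a ≠ 0 ∧ C.σ a * a ≠ 1) ∨ 4 ≤ k) {v : Fin k → F}
    (hv0 : v ≠ 0) (hv : C.ip v v = 0) :
    ∃ w : Fin k → F, w ≠ 0 ∧ C.ip w w = 0 ∧ C.ip v w = 0 ∧ C.ip w v = 0 ∧ C.nr w ≠ C.nr v := by
  rcases hex with ⟨a, ha0, ha⟩ | h4
  · refine ⟨a • v, smul_ne_zero ha0 hv0, by simp [C.ip_smul_left, C.ip_smul_right, hv],
      by simp [C.ip_smul_right, hv], by simp [C.ip_smul_left, hv], fun h => ha ?_⟩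
    rw [C.nr_smul] at h
    exact smul_left_injective F (C.nr_ne_zero hv0) (h.trans (one_smul F _).symm)
  · obtain ⟨f, u, hvf, -, hu0, huu, hvu, huv, huf, -⟩ := C.exists_orth_iso h4 hv0 hv
    refine ⟨u, hu0, huu, hvu, huv, fun h => hv0 ?_⟩
    have h1 := congrArg (· *ᵥ f) h
    simp only [nr, C.op_mulVec, huf, hvf, zero_smul, one_smul] at h1
    exact h1.symm

theorem ip_mulVec_self {N : Matrix (Fin k) (Fin k) F} (hN : C.ad N = N) (hNN : N * N = 0) (p : Fin k → F) :
    C.ip (N *ᵥ p) (N *ᵥ p) = 0 := by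
  rw [C.ip_mulVec N, hN, Matrix.mulVec_mulVec, hNN, Matrix.zero_mulVec, C.ip_zero_left]

theorem commute_nr {N : Matrix (Fin k) (Fin k) F} (hN : C.ad N = N) {p : Fin k → F} (hp : N *ᵥ p = 0) :
    Commute N (C.nr p) := by
  show _ = _
  rw [nr, C.mul_op, C.op_mul', hN, hp, C.op_zero_left]
  exact (show C.op p (0 : Fin k → F) = 0 by ext a b; simp [op_apply]).symm

variable {G : Subgroup (GL (Idx k (t + 1)) F)} (K : C.Ctx G) (h2 : (2 : F) = 0)
include K h2

/-- The even case: a conjugate inside the stabiliser and the central involution. -/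
theorem even_tv {s b : GL (Idx k (t + 1)) F} {i : Fin (t + 1)} (hs : C.IsRoot s i) (hb : C.IsRtD G b)
    (he : Even (orderOf (s * b))) :
    ∃ b' y c j, y ∈ Subgroup.closure ({s, b} : Set (GL (Idx k (t + 1)) F)) ∧ b' = y * b * y⁻¹ ∧ C.IsRoot b' j ∧
      c ∈ G ∧ Commute c b ∧ Commute c s ∧ (Commute s b' → c = s * b') ∧
      (j = i → ∃ L : GL (Fin k) F, C.Iso L.val ∧ c = fu i L ∧ L ≠ 1 ∧ L * L = 1) := by
  have hm := K.hk
  have hs2 := (hs.isRtD (G := G)).sq hm h2
  obtain ⟨b', y, c, hy, hb', hp, hcc, hc1, hc2, hcs, hcb, hcm⟩ := Dihedral.of_even hs2 (hb.sq hm h2) he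
  have hyG : y ∈ G := (Subgroup.closure_le _).2 (Set.insert_subset (hs.mem K.hov)
    (Set.singleton_subset_iff.2 (hb.mem K.hov))) hy
  have hb'D : C.IsRtD G b' := hb' ▸ hb.conj hyG
  have : Fact (Nat.Prime 2) := ⟨Nat.prime_two⟩
  obtain ⟨j, hj⟩ := K.isRoot_of_mem hb'D (K.not_pgroup 2 hs hb'D hp)
  have hcG : c ∈ G := (Subgroup.closure_le _).2 (Set.insert_subset (hs.mem K.hov)
    (Set.singleton_subset_iff.2 (hj.mem K.hov))) hcc
  refine ⟨b', y, c, j, hy, hb', hj, hcG, hcb, hcs, hcm, fun hji => ?_⟩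
  subst hji
  obtain ⟨A, hA⟩ := hs.isTv hm
  obtain ⟨B, hB⟩ := hj.isTv hm
  have hle : Subgroup.closure ({s, b'} : Set (GL (Idx k (t + 1)) F)) ≤ (fu (m := k) (F := F) j).range :=
    (Subgroup.closure_le _).2 (Set.insert_subset ⟨_, hA.symm⟩ (Set.singleton_subset_iff.2 ⟨_, hB.symm⟩))
  obtain ⟨L, hL⟩ := hle hcc
  have hinj : Function.Injective (fu (m := k) (F := F) j) := fun X Y h =>
    Units.ext (fa_injective (by omega) j (congrArg Units.val h))
  refine ⟨L, C.iso_of_fu (by omega) (hL ▸ K.hov.iso c hcG), hL.symm, fun h => hc1 (by rw [← hL, h, map_one]), hinj ?_⟩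
  rw [map_mul, hL, hc2, map_one]

/-- The inner step for the centraliser of two commuting roots of different factors. -/
theorem cent_two_aux {i j : Fin (t + 1)} (hij : i ≠ j) {T1 T2 E : GL (Fin k) F} (h1 : C.IsRoot (fu i T1) i)
    (h2' : C.IsRoot (fu j T2) j) (hεR : C.IsRoot (fu j E) j) (hc2ε : Commute T2 E) (hne : E ≠ T2)
    {x : GL (Idx k (t + 1)) F} (hx : x ∈ G) (hc : Commute x (fu i T1 * fu j T2)) (hxm : x ∉ mst k (t + 1) F) :
    Commute (x * fu i T1 * x⁻¹) (fu j (E * T2)) := by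
  classical
  have hm := K.hk
  set τ1 := fu i T1 with hτ1
  set τ2 := fu j T2 with hτ2
  set ε := fu j E with hε
  obtain ⟨a₁, ha₁⟩ := h1.isTv hm
  obtain ⟨a₂, ha₂⟩ := h2'.isTv hm
  obtain ⟨aE, haE⟩ := hεR.isTv hm
  have hinj : ∀ {l : Fin (t + 1)} {X Y : GL (Fin k) F}, fu l X = fu l Y → X = Y := fun {l X Y} h =>
    Units.ext (fa_injective (by omega) l (congrArg Units.val h))
  have hT1 := hinj ha₁
  have hT2 := hinj ha₂
  have hE := hinj haE
  have hT11 : T1 * T1 = 1 := hT1 ▸ tv_sq hm h2 a₁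
  have hT22 : T2 * T2 = 1 := hT2 ▸ tv_sq hm h2 a₂
  have hEE : E * E = 1 := hE ▸ tv_sq hm h2 aE
  have hns1 : ∀ e : F, T1.val ≠ e • 1 := fun e => hT1 ▸ tv0_ne_scalar hm a₁ e
  have hns2 : ∀ e : F, T2.val ≠ e • 1 := fun e => hT2 ▸ tv0_ne_scalar hm a₂ e
  have hnsE : ∀ e : F, (E * T2).val ≠ e • 1 := fun e he => by
    have h3 := congrArg (· * T2.val) he
    simp only [Units.val_mul, smul_mul_assoc, one_mul, mul_assoc] at h3
    rw [← Units.val_mul T2 T2, hT22, Units.val_one, mul_one] at h3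
    refine hne (Units.ext ?_)
    rw [h3, eq_one_of_smul_sq hm h2 h3 hEE hT22, one_smul]
  set l := τ1 * τ2 with hl
  have hc12 : Commute τ1 τ2 := commute_fu hij _ _
  have hc1ε : Commute τ1 ε := commute_fu hij _ _
  have hcε2 : Commute τ2 ε := hc2ε.map (fu j)
  have hlε : Commute l ε := hc1ε.mul_left hcε2
  have hl1 : Commute l τ1 := (Commute.refl τ1).mul_left hc12.symm
  have hτ11 : τ1 * τ1 = 1 := by rw [hτ1, ← map_mul, hT11, map_one]
  set b := x * τ1 * x⁻¹ with hb
  have hbD : C.IsRtD G b := h1.isRtD.conj hx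
  have hlb : Commute l b := by
    rw [hb]
    exact ((hc.symm.mul_right hl1).mul_right hc.symm.inv_right)
  have hcl : ∀ y ∈ Subgroup.closure ({ε, b} : Set (GL (Idx k (t + 1)) F)), y ∈ G ∧ Commute l y := fun y hy => by
    refine ⟨(Subgroup.closure_le _).2 (Set.insert_subset (hεR.mem K.hov)
      (Set.singleton_subset_iff.2 (hbD.mem K.hov))) hy, ?_⟩
    have := (Subgroup.closure_le (Subgroup.centralizer ({l} : Set (GL (Idx k (t + 1)) F)))).2
      (Set.insert_subset (Subgroup.mem_centralizer_iff.2 fun z hz => by rw [Set.mem_singleton_iff.1 hz]; exact hlε.eq)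
        (Set.singleton_subset_iff.2 (Subgroup.mem_centralizer_iff.2 fun z hz => by
          rw [Set.mem_singleton_iff.1 hz]; exact hlb.eq))) hy
    exact Subgroup.mem_centralizer_iff.1 this l rfl
  have key : ∀ g ∈ G, Commute l g → ∀ r, C.IsRoot (g * τ1 * g⁻¹) r →
      ∃ r', C.IsRoot (g * τ1 * g⁻¹ * l) r' := by
    intro g hg hgl r hr
    obtain ⟨σ, hσ⟩ := K.mem_of_tv hg h1 hr
    obtain ⟨a, ha⟩ := hσ j
    refine ⟨σ j, ?_⟩
    have e : g * τ1 * g⁻¹ * l = g * τ2 * g⁻¹ := by
      have e1 : l = g * l * g⁻¹ := by rw [← hgl.eq, mul_inv_cancel_right]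
      conv_lhs => arg 2; rw [e1]
      rw [hl, show g * τ1 * g⁻¹ * (g * (τ1 * τ2) * g⁻¹) = g * ((τ1 * τ1) * τ2) * g⁻¹ by group, hτ11, one_mul]
    rw [e]
    exact h2'.conj hm (K.hov.iso g hg) ha
  have two : ∀ (A B : GL (Fin k) F) r, C.IsRoot (fu i A * fu j B) r →
      (∀ c : F, A.val ≠ c • 1) → (∀ c : F, B.val ≠ c • 1) → False := by
    intro A B r hr hA hB
    rcases eq_or_ne i r with rfl | hir
    · obtain ⟨e, he⟩ := (hr.isTv hm).acts_ne hij.symm ((acts_fu_ne hij.symm A).mul (acts_fu j B))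
      exact hB e (by simpa using he)
    · obtain ⟨e, he⟩ := (hr.isTv hm).acts_ne hir ((acts_fu i A).mul (acts_fu_ne hij B))
      exact hA e (by simpa using he)
  rcases Nat.even_or_odd (orderOf (ε * b)) with he | ho
  · obtain ⟨b', y, c, r, hy, hb', hr, -, hcb, -, hcm, -⟩ := even_tv K h2 hεR hbD he
    have hb'x : b' = (y * x) * τ1 * (y * x)⁻¹ := by rw [hb', hb]; group
    have hgl : Commute l (y * x) := (hcl y hy).2.mul_right hc.symm
    obtain ⟨r', hr'⟩ := key _ (G.mul_mem (hcl y hy).1 hx) hgl r (hb'x ▸ hr)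
    rw [← hb'x] at hr'
    obtain ⟨a, ha⟩ := hr.isTv hm
    have hsc : ∀ (X : GL (Fin k) F), X * X = 1 → ∀ e : F, (a * tv0 hm * a⁻¹ * X).val = e • 1 →
        a * tv0 hm * a⁻¹ = X := by
      intro X hX e he
      have h3 := congrArg (· * X.val) he
      simp only [Units.val_mul, smul_mul_assoc, one_mul, mul_assoc] at h3
      rw [← Units.val_mul X X, hX, Units.val_one, mul_one] at h3
      have h4 : (a * tv0 hm * a⁻¹).val = e • X.val := by simpa only [Units.val_mul, mul_assoc] using h3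
      exact Units.ext (by rw [h4, eq_one_of_smul_sq hm h2 h4 (tv_sq hm h2 a) hX, one_smul])
    rcases eq_or_ne r i with rfl | hri
    · have hform : b' * l = fu r (a * tv0 hm * a⁻¹ * T1) * fu j T2 := by
        rw [ha, hl, hτ1, hτ2, ← mul_assoc, ← map_mul]
      have hT : ∃ e : F, (a * tv0 hm * a⁻¹ * T1).val = e • 1 := by
        by_contra hne
        push Not at hne
        exact two _ _ r' (hform ▸ hr') hne hns2
      obtain ⟨e, he⟩ := hT
      have hb1 : b' = τ1 := by rw [ha, hτ1, hsc T1 hT11 e he]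
      have hcε : c = ε * τ1 := by rw [hcm (by rw [hb1]; exact hc1ε.symm), hb1]
      have hlc : Commute b (l * c) := hlb.symm.mul_right hcb.symm
      rw [hl, hcε, hc1ε.symm.eq, show τ1 * τ2 * (τ1 * ε) = τ1 * τ2 * τ1 * ε by group, hc12.eq,
        mul_assoc τ2 τ1 τ1, hτ11, mul_one, hcε2.eq, hε, hτ2, ← map_mul] at hlc
      exact hlc
    · rcases eq_or_ne r j with rfl | hrj
      · have hform : b' * l = fu i T1 * fu r (a * tv0 hm * a⁻¹ * T2) := by
          rw [ha, hl, hτ1, hτ2, ← mul_assoc, (commute_fu hri _ _).eq, mul_assoc, ← map_mul]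
        have hT : ∃ e : F, (a * tv0 hm * a⁻¹ * T2).val = e • 1 := by
          by_contra hne
          push Not at hne
          exact two _ _ r' (hform ▸ hr') hns1 hne
        obtain ⟨e, he⟩ := hT
        have hb1 : b' = τ2 := by rw [ha, hτ2, hsc T2 hT22 e he]
        have hcε : c = ε * τ2 := by rw [hcm (by rw [hb1]; exact hcε2.symm), hb1]
        rw [hcε, hε, hτ2, ← map_mul] at hcb
        exact hcb.symm
      · exfalso
        rcases eq_or_ne i r' with rfl | hir'
        · obtain ⟨e, he⟩ := (hr'.isTv hm).acts_ne hij.symm (a := 1 * (1 * T2)) (by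
            rw [ha, hl, hτ1, hτ2]
            exact (acts_fu_ne hrj.symm _).mul ((acts_fu_ne hij.symm _).mul (acts_fu j _)))
          rw [one_mul, one_mul] at he
          exact hns2 e he
        · obtain ⟨e, he⟩ := (hr'.isTv hm).acts_ne hir' (a := 1 * (T1 * 1)) (by
            rw [ha, hl, hτ1, hτ2]
            exact (acts_fu_ne hri.symm _).mul ((acts_fu i _).mul (acts_fu_ne hij _)))
          rw [mul_one, one_mul] at he
          exact hns1 e he
  · exfalso
    obtain ⟨y, hy, hyb⟩ := Dihedral.conj_of_odd ((hεR.isRtD (G := G)).sq hm h2) (hbD.sq hm h2) ho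
    set g := y⁻¹ * x with hg
    have hgε : g * τ1 * g⁻¹ = ε := by
      calc g * τ1 * g⁻¹ = y⁻¹ * b * y := by rw [hg, hb]; group
        _ = ε := by rw [← hyb]; group
    obtain ⟨r', hr'⟩ := key g (G.mul_mem (G.inv_mem (hcl y hy).1) hx) ((hcl y hy).2.inv_right.mul_right hc.symm)
      j (by rw [hgε]; exact hεR)
    rw [hgε, hl, ← mul_assoc, hc1ε.symm.eq, mul_assoc, hε, hτ2, ← map_mul, hτ1] at hr'
    exact two T1 (E * T2) r' hr' hns1 hnsE

/-- The centraliser of two commuting roots of different factors. -/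
theorem cent_two {i j : Fin (t + 1)} (hij : i ≠ j) {σ1 σ2 : GL (Idx k (t + 1)) F} (h1 : C.IsRoot σ1 i)
    (h2' : C.IsRoot σ2 j) {x : GL (Idx k (t + 1)) F} (hx : x ∈ G) (hc : Commute x (σ1 * σ2)) :
    x ∈ mst k (t + 1) F := by
  classical
  by_contra hxm
  obtain ⟨u1, hu1, hu10, rfl⟩ := h1.exists_rt h2
  obtain ⟨v, hv, hv0, rfl⟩ := h2'.exists_rt h2
  set b := x * C.rt i u1 hu1 * x⁻¹ with hb
  have hbD : C.IsRtD G b := h1.isRtD.conj hx
  have hbm : b ∉ mst k (t + 1) F := fun h => by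
    obtain ⟨r, hr⟩ := K.isRoot_of_mem hbD h
    exact hxm (K.mem_of_tv hx h1 hr)
  have haux : ∀ (w : Fin k → F) (hw : C.ip w w = 0), w ≠ 0 → C.ip v w = 0 → C.ip w v = 0 →
      C.nr w ≠ C.nr v → Commute b (fu j (C.tv w 1 hw * C.tv v 1 hv)) := fun w hw hw0 hvw hwv hne =>
    cent_two_aux K h2 hij h1 h2' (isRoot_rt h2 j hw0 hw) (tv_tv_comm 1 1 hv hw hvw hwv) (fun e => hne (by
      have h3 := congrArg Units.val e
      rwa [tv_val, tv_val, one_smul, one_smul, add_right_inj] at h3)) hx hc hxm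
  rcases K.hex with ⟨a, ha0, ha⟩ | h4
  · set r := C.σ a * a with hr
    have h5 := haux (a • v) (by simp [C.ip_smul_left, C.ip_smul_right, hv]) (smul_ne_zero ha0 hv0)
      (by simp [C.ip_smul_right, hv]) (by simp [C.ip_smul_left, hv]) (fun h => ha (by
        rw [C.nr_smul] at h
        exact smul_left_injective F (C.nr_ne_zero hv0) (h.trans (one_smul F _).symm)))
    refine hbm (K.cent_tv (hbD.mem K.hov) (i := j) ⟨v, r + 1, hv0, hv, ?_, fun h => ha ?_, ?_⟩ h5)
    · rw [map_add, map_one, show C.σ r = r by rw [hr, map_mul, C.invol, mul_comm]]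
      linear_combination (r + 1) * h2
    · linear_combination h - h2
    · rw [fu_val, Units.val_mul, tv_val, tv_val, one_smul, one_smul, C.nr_smul, ← hr,
        show (1 + r • C.nr v) * (1 + C.nr v) = 1 + (r + 1) • C.nr v by
          simp only [mul_add, add_mul, one_mul, mul_one, smul_mul_assoc, C.nr_mul_self hv, smul_zero, add_zero,
            add_smul, one_smul]
          abel, map_add, map_one, map_smul]
  · obtain ⟨f, u, hvf, -, hu0, huu, hvu, huv, huf, -⟩ := C.exists_orth_iso h4 hv0 hv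
    obtain ⟨θ, hθ⟩ := C.exists_trace 1 (map_one _)
    have hθ0 : θ ≠ 0 := fun e => by rw [e, map_zero, add_zero] at hθ; exact zero_ne_one hθ
    have hiso : ∀ a : F, C.ip (v + a • u) (v + a • u) = 0 := fun a => by
      simp [C.ip_add_left, C.ip_add_right, C.ip_smul_left, C.ip_smul_right, hv, huu, hvu, huv]
    have h0 : ∀ a : F, a ≠ 0 → Commute b (fu j (C.tv (v + a • u) 1 (hiso a) * C.tv v 1 hv)) := fun a ha =>
      haux _ _ (fun h => hv0 (by
          have h6 := congrArg (C.ip f) h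
          have h7 : C.ip f v = 1 := by rw [← C.ip_swap v f, hvf, map_one]
          have hfu : C.ip f u = 0 := by rw [← C.ip_swap u f, huf, map_zero]
          simp [C.ip_add_right, C.ip_smul_right, C.ip_zero_right, hfu, h7] at h6))
        (by simp [C.ip_add_right, C.ip_smul_right, hv, hvu])
        (by simp [C.ip_add_left, C.ip_smul_left, hv, huv]) (fun h => by
          have h6 := congrArg (· *ᵥ f) h
          simp only [nr, C.op_mulVec, C.ip_add_left, C.ip_smul_left, hvf, huf, mul_zero, add_zero, one_smul,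
            add_eq_left] at h6
          exact smul_ne_zero ha hu0 h6)
    have h5 := ((h0 1 one_ne_zero).mul_right (h0 θ hθ0)).mul_right (h0 (C.σ θ) (C.σ_ne_zero hθ0))
    rw [← map_mul, ← map_mul] at h5
    refine hbm (K.cent_tv (hbD.mem K.hov) (isRoot_rt h2 j hu0 huu) ?_)
    suffices he : C.tv u 1 huu = C.tv (v + (1 : F) • u) 1 (hiso 1) * C.tv v 1 hv *
        (C.tv (v + θ • u) 1 (hiso θ) * C.tv v 1 hv) * (C.tv (v + C.σ θ • u) 1 (hiso _) * C.tv v 1 hv) by
      show Commute b (fu j (C.tv u 1 huu))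
      rw [he]
      exact h5
    refine Units.ext ?_
    have hmul : ∀ p q w z : Fin k → F, C.ip q w = 0 → C.op p q * C.op w z = 0 := fun p q w z h => by
      rw [C.op_mul, h, zero_smul]
    simp only [Units.val_mul, tv_val, one_smul, nr, C.op_add_left, C.op_add_right, C.op_smul_left, C.op_smul_right,
      smul_add, smul_smul, one_mul, mul_add, add_mul, mul_one, smul_mul_assoc, mul_smul_comm,
      hmul _ _ _ _ hv, hmul _ _ _ _ huu, hmul _ _ _ _ hvu, hmul _ _ _ _ huv, smul_zero, add_zero, C.invol]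
    match_scalars
    · norm_num
    · linear_combination (-θ) * C.σ θ * h2
    · linear_combination (-3 : F) * h2
    · linear_combination -hθ - h2
    · linear_combination -hθ - h2

/-- The centraliser of an involution of one factor. -/
theorem cent_one {i : Fin (t + 1)} {L : GL (Fin k) F} (hLI : C.Iso L.val) (hL1 : L ≠ 1) (hL2 : L * L = 1) {x : GL (Idx k (t + 1)) F}
    (hx : x ∈ G) (hc : Commute x (fu i L)) : x ∈ mst k (t + 1) F := by
  classical
  have hm := K.hk
  by_contra hxm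
  set l := fu i L with hl
  set N := L.val - 1 with hN
  have hNN : N * N = 0 := by
    have e : N * N = L.val * L.val - (2 : F) • L.val + 1 := by
      simp only [hN, sub_mul, mul_sub, one_mul, mul_one, two_smul]; abel
    rw [e, ← Units.val_mul, hL2, Units.val_one, h2, zero_smul, sub_zero,
      ← two_smul F (1 : Matrix (Fin k) (Fin k) F), h2, zero_smul]
  have hLv : L.val = 1 + N := by rw [hN, add_sub_cancel]
  have hadN : C.ad N = N := by
    rw [hN, C.ad_sub, C.ad_one, ← Iso.inv_val C hLI, inv_eq_of_mul_eq_one_right hL2]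
  obtain ⟨p, hp⟩ : ∃ p, N *ᵥ p ≠ 0 := by
    by_contra h
    push Not at h
    refine hL1 (Units.ext (sub_eq_zero.1 ?_))
    exact Matrix.toLin'.injective (LinearMap.ext fun w => by rw [Matrix.toLin'_apply, map_zero, LinearMap.zero_apply]; exact h w)
  have hu := ip_mulVec_self hadN hNN p
  set M := C.tv (N *ᵥ p) 1 hu with hM
  have hMT : C.IsRoot (fu i M) i := isRoot_rt h2 i hp hu
  have hlM : Commute l (fu i M) := by
    refine Commute.map (commute_val ?_) (fu i)
    rw [hLv, hM, tv_val, one_smul]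
    exact commute_one_add (commute_nr hadN (by rw [Matrix.mulVec_mulVec, hNN, Matrix.zero_mulVec]))
  have ht := K.ht
  obtain ⟨j, hji⟩ : ∃ j : Fin (t + 1), j ≠ i := by
    have : Nontrivial (Fin (t + 1)) := Fin.nontrivial_iff_two_le.2 (by omega)
    exact exists_ne i
  obtain ⟨ε, hεT⟩ := C.exists_isRoot (show 2 ≤ k by omega) j
  obtain ⟨aε, hε⟩ := hεT.isTv hm
  set b := x * fu i M * x⁻¹ with hb
  have hbD : C.IsRtD G b := (hMT.isRtD).conj hx
  have hbm : b ∉ mst k (t + 1) F := fun h => by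
    obtain ⟨k, hk⟩ := K.isRoot_of_mem hbD h
    exact hxm (K.mem_of_tv hx hMT hk)
  have hlb : Commute l b := by
    rw [hb]
    exact (hc.symm.mul_right hlM).mul_right hc.symm.inv_right
  have hcl : ∀ y ∈ Subgroup.closure ({ε, b} : Set (GL (Idx k (t + 1)) F)), y ∈ G ∧ Commute l y := fun y hy => by
    refine ⟨(Subgroup.closure_le _).2 (Set.insert_subset (hεT.mem K.hov)
      (Set.singleton_subset_iff.2 (hbD.mem K.hov))) hy, ?_⟩
    have := (Subgroup.closure_le (Subgroup.centralizer ({l} : Set (GL (Idx k (t + 1)) F)))).2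
      (Set.insert_subset (Subgroup.mem_centralizer_iff.2 fun z hz => by
        rw [Set.mem_singleton_iff.1 hz, hε]; exact (commute_fu hji.symm _ _).eq)
        (Set.singleton_subset_iff.2 (Subgroup.mem_centralizer_iff.2 fun z hz => by
          rw [Set.mem_singleton_iff.1 hz]; exact hlb.eq))) hy
    exact Subgroup.mem_centralizer_iff.1 this l rfl
  -- the centraliser keeps the factor
  have key : ∀ g ∈ G, Commute l g → ∀ r, C.IsRoot (g * fu i M * g⁻¹) r → r = i := by
    intro g hg hgl r hk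
    obtain ⟨σ, hσ⟩ := K.mem_of_tv hg hMT hk
    obtain ⟨a, ha⟩ := hσ i
    obtain ⟨a', ha'⟩ := hMT.isTv hm
    obtain ⟨d, hd⟩ := hk.isTv hm
    rw [ha'] at hd
    have hki : σ i = r := tv_acts ha hd
    rw [← hki]
    by_contra hne
    have h1 : g * l * g⁻¹ = l := by rw [← hgl.eq, mul_inv_cancel_right]
    rw [hl, fu_conj_of_acts ha] at h1
    obtain ⟨e, he⟩ := eq_of_fa_eq (by omega) (Ne.symm hne) (congrArg Units.val h1).symm
    refine hL1 (Units.ext ?_)
    have h5 := congrArg Units.val hL2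
    rw [Units.val_mul, he, smul_mul_smul_comm, one_mul, Units.val_one] at h5
    have h6 := congrFun (congrFun h5 (p0 hm)) (p0 hm)
    simp at h6
    have h7 : (e - 1) * (e - 1) = 0 := by linear_combination h6 - e * h2 + h2
    rw [he, sub_eq_zero.1 (mul_self_eq_zero.1 h7), one_smul, Units.val_one]
  rcases Nat.even_or_odd (orderOf (ε * b)) with he | ho
  · obtain ⟨b', y, c, r, hy, hb', hk, -, hcb, -, hcm, -⟩ := even_tv K h2 hεT hbD he
    have hb'x : b' = (y * x) * fu i M * (y * x)⁻¹ := by rw [hb', hb]; group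
    obtain rfl := key _ (G.mul_mem (hcl y hy).1 hx) ((hcl y hy).2.mul_right hc.symm) r (hb'x ▸ hk)
    obtain ⟨a, ha⟩ := hk.isTv hm
    have hcε : c = ε * b' := hcm (by rw [ha, hε]; exact commute_fu hji _ _)
    exact hbm (cent_two K h2 hji hεT hk (hbD.mem K.hov) (hcε ▸ hcb.symm))
  · obtain ⟨y, hy, hyb⟩ := Dihedral.conj_of_odd ((hεT.isRtD (G := G)).sq hm h2) (hbD.sq hm h2) ho
    set g := y⁻¹ * x with hg
    have hgε : g * fu i M * g⁻¹ = ε := by
      calc g * fu i M * g⁻¹ = y⁻¹ * b * y := by rw [hg, hb]; group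
        _ = ε := by rw [← hyb]; group
    exact hji (key g (G.mul_mem (G.inv_mem (hcl y hy).1) hx) ((hcl y hy).2.inv_right.mul_right hc.symm) j
      (by rw [hgε]; exact hεT))

/-- A transvection and a moved conjugate are conjugate in the group they generate. -/
theorem conj_tv {s b : GL (Idx k (t + 1)) F} {i : Fin (t + 1)} (hs : C.IsRoot s i) (hb : C.IsRtD G b) (hbm : b ∉ mst k (t + 1) F) :
    ∃ y ∈ Subgroup.closure ({s, b} : Set (GL (Idx k (t + 1)) F)), y * s * y⁻¹ = b := by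
  rcases Nat.even_or_odd (orderOf (s * b)) with he | ho
  · obtain ⟨b', y, c, j, -, -, hj, -, hcb, -, hcm, hsame⟩ := even_tv K h2 hs hb he
    exfalso
    rcases eq_or_ne j i with hji | hji
    · obtain ⟨L, hLI, hL, hL1, hL2⟩ := hsame hji
      exact hbm (cent_one K h2 hLI hL1 hL2 (hb.mem K.hov) (hL ▸ hcb.symm))
    · obtain ⟨a, ha⟩ := hs.isTv K.hk
      obtain ⟨d, hd⟩ := hj.isTv K.hk
      have : c = s * b' := hcm (by rw [ha, hd]; exact commute_fu hji.symm _ _)
      exact hbm (cent_two K h2 hji.symm hs hj (hb.mem K.hov) (this ▸ hcb.symm))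
  · exact Dihedral.conj_of_odd ((hs.isRtD (G := G)).sq K.hk h2) (hb.sq K.hk h2) ho

/-- An element commuting with two classes of transvections has its centraliser permuting the factors. -/
theorem two_classes {l : GL (Idx k (t + 1)) F} {σ1 σ2 : GL (Idx k (t + 1)) F} {i j : Fin (t + 1)} (h1 : C.IsRoot σ1 i)
    (h2' : C.IsRoot σ2 j) (hl1 : Commute l σ1) (hl2 : Commute l σ2)
    (hno : ∀ g ∈ G, g ∈ mst k (t + 1) F → Commute l g → g * σ1 * g⁻¹ ≠ σ2)
    {x : GL (Idx k (t + 1)) F} (hx : x ∈ G) (hc : Commute l x) : x ∈ mst k (t + 1) F := by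
  by_contra hxm
  set b := x * σ1 * x⁻¹ with hb
  have hbD : C.IsRtD G b := (h1.isRtD).conj hx
  have hbm : b ∉ mst k (t + 1) F := fun h => by
    obtain ⟨k, hk⟩ := K.isRoot_of_mem hbD h
    exact hxm (K.mem_of_tv hx h1 hk)
  have hlb : Commute l b := (hc.mul_right hl1).mul_right hc.inv_right
  have hcl : ∀ {σ : GL (Idx k (t + 1)) F} {r : Fin (t + 1)}, C.IsRoot σ r → Commute l σ →
      ∃ y, y ∈ G ∧ Commute l y ∧ y * σ * y⁻¹ = b := fun {σ r} hσ hlσ => by
    obtain ⟨y, hy, hyb⟩ := conj_tv K h2 hσ hbD hbm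
    refine ⟨y, (Subgroup.closure_le _).2 (Set.insert_subset (hσ.mem K.hov)
      (Set.singleton_subset_iff.2 (hbD.mem K.hov))) hy, ?_, hyb⟩
    have := (Subgroup.closure_le (Subgroup.centralizer ({l} : Set (GL (Idx k (t + 1)) F)))).2
      (Set.insert_subset (Subgroup.mem_centralizer_iff.2 fun z hz => by
        rw [Set.mem_singleton_iff.1 hz]; exact hlσ.eq)
        (Set.singleton_subset_iff.2 (Subgroup.mem_centralizer_iff.2 fun z hz => by
          rw [Set.mem_singleton_iff.1 hz]; exact hlb.eq))) hy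
    exact Subgroup.mem_centralizer_iff.1 this l rfl
  obtain ⟨y1, hy1, hly1, e1⟩ := hcl h1 hl1
  obtain ⟨y2, hy2, hly2, e2⟩ := hcl h2' hl2
  have e : (y2⁻¹ * y1) * σ1 * (y2⁻¹ * y1)⁻¹ = σ2 := by
    calc _ = y2⁻¹ * (y1 * σ1 * y1⁻¹) * y2 := by group
      _ = σ2 := by rw [e1, ← e2]; group
  exact hno _ (G.mul_mem (G.inv_mem hy2) hy1) (K.mem_of_tv (G.mul_mem (G.inv_mem hy2) hy1) h1 (e ▸ h2'))
    (hly2.inv_right.mul_right hly1) e

end Cfsg.Lib.Linear.UWreath.Cj
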