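import Cfsg.Agent.Lib.Linear.UWreath.EvenBasic

/-!
# Characteristic two: nothing is moved

An involution with small centraliser and a moved conjugate of a root would give a central
involution fixing every factor, whose centraliser permutes the factors.
-/

set_option autoImplicit false
set_option linter.unusedSectionVars false
set_option linter.unusedVariables false

namespace Cfsg.Lib.Linear.UWreath.Cj

open Cfsg.Geo Cfsg.Lib.Linear.AschGen Cfsg.Lib.Linear.TWreath
open scoped Matrix MatrixGroups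

variable {F : Type*} [Field F] [Finite F] {C : Cj F} {k t : ℕ}

/-- A self-adjoint map of square zero is a root map or has a singular vector outside its kernel. -/
theorem dichotomy {N : Matrix (Fin k) (Fin k) F} (hN : C.ad N = N) (hNN : N * N = 0) (h0 : N ≠ 0) :
    (∃ u, N = C.nr u) ∨ ∃ v w, N *ᵥ v ≠ 0 ∧ C.ip v (N *ᵥ v) = 0 ∧ C.ip w (N *ᵥ w) ≠ 0 := by
  have hsym : ∀ p q, C.σ (C.ip p (N *ᵥ q)) = C.ip q (N *ᵥ p) := fun p q => by
    rw [C.ip_swap, C.ip_mulVec N q p, hN]
  obtain ⟨w, hw⟩ : ∃ w, C.ip w (N *ᵥ w) ≠ 0 := by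
    by_contra hall
    push Not at hall
    obtain ⟨c, hc⟩ : ∃ c : F, C.σ c ≠ c := by
      by_contra h
      push Not at h
      exact C.ne_id (RingHom.ext h)
    have hz : ∀ p q, C.ip p (N *ᵥ q) = 0 := fun p q => by
      have h1 := hall (p + q)
      have h3 := hall (p + c • q)
      simp only [Matrix.mulVec_add, Matrix.mulVec_smul, C.ip_add_left, C.ip_add_right, C.ip_smul_left,
        C.ip_smul_right, hall, mul_zero, zero_add, add_zero] at h1 h3
      have h4 : (c - C.σ c) * C.ip p (N *ᵥ q) = 0 := by linear_combination h3 - C.σ c * h1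
      exact (mul_eq_zero.1 h4).resolve_left (sub_ne_zero.2 (Ne.symm hc))
    refine h0 (Matrix.toLin'.injective (LinearMap.ext fun q => funext fun l => ?_))
    rw [map_zero, LinearMap.zero_apply, Pi.zero_apply, Matrix.toLin'_apply]
    rw [← C.ip_single l (N *ᵥ q)]
    exact hz _ q
  set β := C.ip w (N *ᵥ w) with hβ
  have hβσ : C.σ β = β := hsym w w
  by_cases hker : ∀ v, C.ip w (N *ᵥ v) = 0 → N *ᵥ v = 0
  · refine Or.inl ?_
    obtain ⟨r, hr⟩ := C.exists_norm (a := β⁻¹) (inv_ne_zero hw) (by rw [map_inv₀, hβσ])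
    refine ⟨r • (N *ᵥ w), Matrix.toLin'.injective (LinearMap.ext fun p => ?_)⟩
    rw [C.nr_smul, hr, Matrix.toLin'_apply, Matrix.toLin'_apply, Matrix.smul_mulVec, nr, C.op_mulVec,
      smul_smul, show C.ip (N *ᵥ w) p = C.ip w (N *ᵥ p) by rw [C.ip_mulVec N w p, hN]]
    have h1 := hker (p - (β⁻¹ * C.ip w (N *ᵥ p)) • w) (by
      rw [Matrix.mulVec_sub, Matrix.mulVec_smul, sub_eq_add_neg, ← neg_smul, C.ip_add_right, C.ip_smul_right,
        ← hβ]
      field_simp
      ring)
    rw [Matrix.mulVec_sub, Matrix.mulVec_smul, sub_eq_zero] at h1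
    exact h1
  · push Not at hker
    obtain ⟨v, hwv, hv0⟩ := hker
    refine Or.inr ?_
    by_cases hvv : C.ip v (N *ᵥ v) = 0
    · exact ⟨v, w, hv0, hvv, hw⟩
    set γ := C.ip v (N *ᵥ v) with hγ
    have hvw : C.ip v (N *ᵥ w) = 0 := by rw [← hsym, hwv, map_zero]
    obtain ⟨a, ha⟩ := C.exists_norm (a := -β / γ) (div_ne_zero (neg_ne_zero.2 hw) hvv)
      (by rw [map_div₀, map_neg, hβσ, show C.σ γ = γ from hsym v v])
    have ha' : C.σ a * a * γ = -β := by rw [ha, div_mul_cancel₀ _ hvv]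
    refine ⟨w + a • v, w, fun h => hw ?_, ?_, hw⟩
    · have h1 := congrArg (C.ip w) h
      rwa [Matrix.mulVec_add, Matrix.mulVec_smul, C.ip_add_right, C.ip_smul_right, hwv, mul_zero, add_zero,
        C.ip_zero_right] at h1
    · simp only [Matrix.mulVec_add, Matrix.mulVec_smul, C.ip_add_left, C.ip_add_right, C.ip_smul_left,
        C.ip_smul_right, hwv, hvw, mul_zero, add_zero, zero_add, ← hβ, ← hγ]
      linear_combination ha'

variable {G : Subgroup (GL (Idx k (t + 1)) F)} (K : C.Ctx G) (h2 : (2 : F) = 0)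
include K h2

/-- An isometry with scalar square is a scalar times a self-adjoint unipotent one. -/
theorem exists_selfadj_norm {a : GL (Fin k) F} (haI : C.Iso a.val) (ha : ∃ e : F, (a * a).val = e • 1) :
    ∃ (s : F) (N : Matrix (Fin k) (Fin k) F), s ≠ 0 ∧ N * N = 0 ∧ C.ad N = N ∧ a.val = s • (1 + N) := by
  have hm := K.hk
  have : Nonempty (Fin k) := ⟨p0 hm⟩
  obtain ⟨s, N, hs, hNN, haN⟩ := TWreath.exists_norm hm h2 ha
  refine ⟨s, N, hs, hNN, ?_, haN⟩
  have hU : (1 + N) * (1 + N) = 1 := by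
    have : (1 + N) * (1 + N) = 1 + (2 : F) • N + N * N := by rw [two_smul]; noncomm_ring
    rw [this, h2, zero_smul, hNN, add_zero, add_zero]
  set η := C.σ s * s with hη
  have hη0 : η ≠ 0 := mul_ne_zero (C.σ_ne_zero hs) hs
  have h1 : η • (C.ad (1 + N) * (1 + N)) = 1 := by
    rw [hη, ← smul_mul_smul_comm, ← C.ad_smul, ← haN]
    exact haI
  have h3 : η • C.ad (1 + N) = 1 + N := by
    have := congrArg (· * (1 + N)) h1
    simpa only [smul_mul_assoc, mul_assoc, hU, mul_one, one_mul] using this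
  have h4 := congrArg C.ad h3
  rw [C.ad_smul, C.ad_ad, show C.σ η = η by rw [hη, map_mul, C.invol, mul_comm]] at h4
  have hne : (1 + N) ≠ 0 := fun e => by rw [e, zero_mul] at hU; exact zero_ne_one hU
  have h5 : C.ad (1 + N) = 1 + N := by
    have h6 : (η * η) • C.ad (1 + N) = (1 : F) • C.ad (1 + N) := by
      rw [mul_smul, h3, h4, one_smul]
    have h7 : η * η = 1 := smul_left_injective F (fun e => hne (by rw [← C.ad_ad (1 + N), e, C.ad_zero])) h6
    rw [eq_one_of_sq h2 h7, one_smul] at h3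
    exact h3
  rw [C.ad_add, C.ad_one] at h5
  exact add_left_cancel h5

/-- A root commuting with an isometry with scalar square. -/
theorem exists_root_comm {a : GL (Fin k) F} (haI : C.Iso a.val) (ha : ∃ e : F, (a * a).val = e • 1)
    (i : Fin (t + 1)) : ∃ M, C.IsRoot (fu i M) i ∧ Commute a M := by
  obtain ⟨s, N, hs, hNN, hadN, haN⟩ := exists_selfadj_norm K h2 haI ha
  obtain ⟨p, hp0, hpp, hNp⟩ : ∃ p : Fin k → F, p ≠ 0 ∧ C.ip p p = 0 ∧ N *ᵥ p = 0 := by
    by_cases h : ∀ v, N *ᵥ v = 0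
    · obtain ⟨p, hp0, hpp⟩ := C.exists_isotropic (show 2 ≤ k by have := K.hk; omega)
      exact ⟨p, hp0, hpp, h p⟩
    · push Not at h
      obtain ⟨v, hv⟩ := h
      exact ⟨N *ᵥ v, hv, ip_mulVec_self hadN hNN v, by rw [Matrix.mulVec_mulVec, hNN, Matrix.zero_mulVec]⟩
  exact ⟨C.tv p 1 hpp, isRoot_rt h2 i hp0 hpp,
    commute_norm haN (X := C.nr p) (by rw [tv_val, one_smul]) (commute_nr hadN hNp)⟩

/-- An involution fixing every factor has its centraliser permuting the factors. -/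
theorem cent_pure {c : GL (Idx k (t + 1)) F} (hcG : c ∈ G) (hc : Pure c) (hc1 : c ≠ 1) (hcc : c * c = 1)
    {x : GL (Idx k (t + 1)) F} (hx : x ∈ G) (hcx : Commute c x) : x ∈ mst k (t + 1) F := by
  classical
  have hm := K.hk
  have : Nonempty (Idx k (t + 1)) := ⟨fun _ => p0 hm⟩
  choose a ha using hc
  obtain ⟨i, hi'⟩ : ∃ i, ∀ e : F, (a i).val ≠ e • 1 := by
    by_contra hall
    push Not at hall
    obtain ⟨e, he⟩ := scalar_of_com (by omega) (Φ := c.val) fun l X => by
      obtain ⟨e, he⟩ := hall l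
      have h1 : conjA (a l) X = X := by
        have hu := Units.mul_inv (a l)
        rw [he, smul_mul_assoc, one_mul] at hu
        rw [conjA_apply, he, smul_mul_assoc, one_mul, smul_mul_assoc, ← mul_smul_comm, hu, mul_one]
      have h3 := ha l X
      rw [h1, conjA_apply] at h3
      have h4 := congrArg (· * c.val) h3
      simp only [mul_assoc, Units.inv_mul, mul_one] at h4
      exact h4.symm
    refine hc1 (Units.ext ?_)
    have h5 := congrArg Units.val hcc
    rw [Units.val_mul, he, smul_mul_smul_comm, one_mul, Units.val_one] at h5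
    have h6 : e * e = 1 := smul_left_injective F one_ne_zero (h5.trans (one_smul F _).symm)
    rw [he, eq_one_of_sq h2 h6, one_smul, Units.val_one]
  obtain ⟨a', haI, ha'⟩ := C.exists_iso_acts (by omega) (K.hov.iso c hcG) (ha i)
  have hi : ∀ e : F, a'.val ≠ e • 1 := fun e he => by
    obtain ⟨d, hd⟩ := (ha i).unique (by omega) ha'
    exact hi' (d * e) (by rw [hd, he, smul_smul])
  obtain ⟨s, N, hs, hNN, hadN, haN⟩ := exists_selfadj_norm K h2 haI (comp_sq hm hcc ha')
  have hN : N ≠ 0 := fun h => hi s (by rw [haN, h, add_zero])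
  have hcomm : ∀ p : Fin k → F, ∀ hp : C.ip p p = 0, N *ᵥ p = 0 → Commute c (C.rt i p hp) := fun p hp hNp =>
    commute_fu_of_acts ha' (commute_norm haN (X := C.nr p) (by rw [tv_val, one_smul]) (commute_nr hadN hNp))
  have hcomp : ∀ (p q : Fin k → F) (hp : C.ip p p = 0) (hq : C.ip q q = 0), p ≠ 0 → q ≠ 0 →
      ∀ g ∈ G, g ∈ mst k (t + 1) F → Commute c g → g * C.rt i p hp * g⁻¹ = C.rt i q hq →
      ∃ b : GL (Fin k) F, C.Iso b.val ∧ b.val * N = N * b.val ∧ C.nr (b.val *ᵥ p) = C.nr q := by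
    intro p q hp hq hp0 hq0 g hg hgm hgc he
    obtain ⟨σ, hσ⟩ := hgm
    obtain ⟨b0, hb0⟩ := hσ i
    obtain ⟨d1, hd1⟩ := (isRoot_rt h2 i hp0 hp).isTv hm
    obtain ⟨d2, hd2⟩ := (isRoot_rt h2 i hq0 hq).isTv hm
    have hσi : σ i = i := tv_acts (b := d1) (c := d2) hb0 (by rw [← hd1, ← hd2]; exact he)
    rw [hσi] at hb0
    obtain ⟨b, hbI, hb⟩ := C.exists_iso_acts (by omega) (K.hov.iso g hg) hb0
    rw [rt, rt, fu_conj_of_acts hb] at he
    have h12 := fa_injective (by omega) i (congrArg Units.val he)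
    rw [val_conj, tv_val, tv_val, one_smul, one_smul, map_add, map_one, C.conjA_nr hbI] at h12
    refine ⟨b, hbI, ?_, add_left_cancel h12⟩
    have hg' : g * c * g⁻¹ = c := by rw [← hgc.eq, mul_inv_cancel_right]
    have h3 := (hb.mul ha').mul hb.inv
    rw [hg'] at h3
    obtain ⟨e, he'⟩ := h3.unique (by omega) ha'
    have h4 : b.val * a'.val = e • (a'.val * b.val) := by
      rw [← smul_mul_assoc, ← he', Units.val_mul, Units.val_mul, mul_assoc, mul_assoc, Units.inv_mul, mul_one]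
    rw [haN, mul_smul_comm, smul_mul_assoc, smul_comm e s] at h4
    have h5 : b.val * (1 + N) = e • ((1 + N) * b.val) := by
      have := congrArg (s⁻¹ • ·) h4
      simpa only [smul_smul, inv_mul_cancel₀ hs, one_smul, one_mul, ← mul_assoc] using this
    have hee : e * e = 1 := by
      have hU : (1 + N) * (1 + N) = 1 := by
        have : (1 + N) * (1 + N) = 1 + (2 : F) • N + N * N := by rw [two_smul]; noncomm_ring
        rw [this, h2, zero_smul, hNN, add_zero, add_zero]
      have h6 : b.val = (e * e) • b.val := by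
        conv_lhs => rw [← mul_one b.val, ← hU, ← mul_assoc, h5, smul_mul_assoc, mul_assoc, h5, mul_smul_comm,
          ← mul_assoc, hU, one_mul, smul_smul]
      have : Nonempty (Fin k) := ⟨p0 hm⟩
      exact (smul_left_injective F b.isUnit.ne_zero ((one_smul F _).trans h6)).symm
    rw [eq_one_of_sq h2 hee, one_smul, mul_add, add_mul, mul_one, one_mul] at h5
    exact add_left_cancel h5
  rcases dichotomy hadN hNN hN with ⟨u, hNu⟩ | ⟨v, w, hv0, hvv, hww⟩
  · have hu0 : u ≠ 0 := fun h => hN (by rw [hNu, h, C.nr_zero])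
    have huu : C.ip u u = 0 := by
      have h1 := hNN
      rw [hNu, nr, C.op_mul] at h1
      exact (smul_eq_zero.1 h1).resolve_right (C.op_ne_zero hu0 hu0)
    obtain ⟨w, hw0, hww, huw, hwu, hne⟩ := exists_other hm K.hex hu0 huu
    refine two_classes K h2 (isRoot_rt h2 i hu0 huu) (isRoot_rt h2 i hw0 hww)
      (hcomm u huu (by rw [hNu, nr, C.op_mulVec, huu, zero_smul]))
      (hcomm w hww (by rw [hNu, nr, C.op_mulVec, huw, zero_smul])) (fun g hg hgm hgc he => ?_) hx hcx
    obtain ⟨b, hbI, hbN, hbu⟩ := hcomp u w huu hww hu0 hw0 g hg hgm hgc he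
    refine hne ?_
    rw [← hbu, ← C.conjA_nr hbI, ← hNu, conjA_apply, hbN, mul_assoc, Units.mul_inv, mul_one]
  · have hw0 : N *ᵥ w ≠ 0 := fun h => hww (by rw [h, C.ip_zero_right])
    have hp := ip_mulVec_self hadN hNN v
    have hq := ip_mulVec_self hadN hNN w
    have hNz : ∀ z, N *ᵥ (N *ᵥ z) = 0 := fun z => by rw [Matrix.mulVec_mulVec, hNN, Matrix.zero_mulVec]
    refine two_classes K h2 (isRoot_rt h2 i hv0 hp) (isRoot_rt h2 i hw0 hq) (hcomm _ hp (hNz v))
      (hcomm _ hq (hNz w)) (fun g hg hgm hgc he => ?_) hx hcx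
    obtain ⟨b, hbI, hbN, hbu⟩ := hcomp _ _ hp hq hv0 hw0 g hg hgm hgc he
    set z := b.val *ᵥ v with hz
    have e1 : b.val *ᵥ (N *ᵥ v) = N *ᵥ z := by rw [hz, Matrix.mulVec_mulVec, hbN, ← Matrix.mulVec_mulVec]
    have hzz : C.ip z (N *ᵥ z) = 0 := by rw [← e1, hz, C.ip_iso hbI, hvv]
    rw [e1] at hbu
    have hsym : ∀ p q, C.ip (N *ᵥ p) q = C.ip p (N *ᵥ q) := fun p q => by rw [C.ip_mulVec N p q, hadN]
    have h1 := congrArg (fun M => C.ip z (M *ᵥ w)) hbu
    simp only [nr, C.op_mulVec, C.ip_smul_right, hzz, mul_zero, hsym] at h1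
    have hzw : C.ip z (N *ᵥ w) = 0 :=
      (mul_eq_zero.1 h1.symm).resolve_left hww
    have h4 := congrArg (fun M => C.ip w (M *ᵥ w)) hbu
    simp only [nr, C.op_mulVec, C.ip_smul_right, hsym, hzw, zero_mul] at h4
    exact mul_self_ne_zero.2 hww h4.symm

/-- An involution commuting with an element supported on it keeps the support. -/
theorem support {y c : GL (Idx k (t + 1)) F} (hyc : Commute c y) {σ : Equiv.Perm (Fin (t + 1))}
    (hσ : ∀ i, ∃ a, Acts c i (σ i) a) {i : Fin (t + 1)} {T T' : GL (Fin k) F} (hy : Acts y i i T)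
    (hy' : Acts y (σ i) (σ i) T') :
    ∃ (a : GL (Fin k) F) (e : F), Acts c i (σ i) a ∧ (a * T * a⁻¹).val = e • T'.val := by
  have hm := K.hk
  obtain ⟨a, ha⟩ := hσ i
  have h := (ha.mul hy).mul ha.inv
  rw [hyc.eq, mul_inv_cancel_right] at h
  obtain ⟨e, he⟩ := h.unique (by omega) hy'
  exact ⟨a, e, ha, he⟩

/-- The auxiliary involution for at least three factors. -/
theorem exists_y_three (ht : 2 ≤ t) :
    ∃ y, y * y = 1 ∧ Pure y ∧ y ∈ G ∧ ¬ C.IsRtD G y ∧
      (∀ x ∈ G, Commute y x → x ∈ mst k (t + 1) F) ∧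
      (∀ c ∈ mst k (t + 1) F, Commute c y → c * c = 1 → (∃ z, z * y * z⁻¹ = y * c) → ∃ i a, Acts c i i a) := by
  classical
  have hm := K.hk
  set i1 : Fin (t + 1) := ⟨0, by omega⟩
  set i2 : Fin (t + 1) := ⟨1, by omega⟩
  set i3 : Fin (t + 1) := ⟨2, by omega⟩
  have h12 : i1 ≠ i2 := by simp [i1, i2]
  have h13 : i1 ≠ i3 := by simp [i1, i3]
  have h23 : i2 ≠ i3 := by simp [i2, i3]
  obtain ⟨v, hv0, hvv⟩ := C.exists_isotropic (show 2 ≤ k by omega)
  set T := C.tv v 1 hvv with hT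
  have hT1 : ∀ r : Fin (t + 1), C.IsRoot (fu r T) r := fun r => isRoot_rt h2 r hv0 hvv
  obtain ⟨aT, haT⟩ : ∃ a, T = a * tv0 hm * a⁻¹ := by
    obtain ⟨a, ha⟩ := (hT1 0).isTv hm
    exact ⟨a, Units.ext (fa_injective (by omega) 0 (congrArg Units.val ha))⟩
  have hTs : ∀ e : F, T.val ≠ e • 1 := fun e => haT ▸ tv0_ne_scalar hm aT e
  have hTT : T * T = 1 := haT ▸ tv_sq hm h2 aT
  set y := fu i1 T * fu i2 T * fu i3 T with hy
  have hin : ∀ i, i = i1 ∨ i = i2 ∨ i = i3 → Acts y i i T := by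
    rintro i (rfl | rfl | rfl)
    · simpa [hy] using ((acts_fu i1 T).mul (acts_fu_ne h12 T)).mul (acts_fu_ne h13 T)
    · simpa [hy] using ((acts_fu_ne h12.symm T).mul (acts_fu i2 T)).mul (acts_fu_ne h23 T)
    · simpa [hy] using ((acts_fu_ne h13.symm T).mul (acts_fu_ne h23.symm T)).mul (acts_fu i3 T)
  have hout : ∀ i, i ≠ i1 → i ≠ i2 → i ≠ i3 → Acts y i i 1 := fun i a b c => by
    simpa [hy] using ((acts_fu_ne a T).mul (acts_fu_ne b T)).mul (acts_fu_ne c T)
  have hpure : Pure y := ((pure_fu i1 T).mul (pure_fu i2 T)).mul (pure_fu i3 T)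
  have hyy : y * y = 1 := by
    rw [hy, ((commute_fu h13.symm T T).mul_right (commute_fu h23.symm T T)).mul_mul_mul_comm,
      (commute_fu h12.symm T T).mul_mul_mul_comm, ← map_mul, ← map_mul, ← map_mul, hTT, map_one, map_one, map_one,
      one_mul, one_mul]
  have hyG : y ∈ G := by
    exact G.mul_mem (G.mul_mem ((hT1 i1).mem K.hov) ((hT1 i2).mem K.hov)) ((hT1 i3).mem K.hov)
  refine ⟨y, hyy, hpure, hyG, fun hD => ?_, fun x hx hyx => ?_, fun c hc hcy hcc _ => ?_⟩
  · obtain ⟨k, hk⟩ := K.isRoot_of_mem hD hpure.mem_mst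
    by_cases h : i1 = k
    · obtain ⟨e, he⟩ := (hk.isTv hm).acts_ne (i := i2) (h ▸ h12.symm) (hin i2 (Or.inr (Or.inl rfl)))
      exact hTs e he
    · obtain ⟨e, he⟩ := (hk.isTv hm).acts_ne h (hin i1 (Or.inl rfl))
      exact hTs e he
  · obtain ⟨w, hw0, hww, hvw, hwv, hne⟩ := exists_other hm K.hex hv0 hvv
    have h2' : C.IsRoot (C.rt i1 w hww) i1 := isRoot_rt h2 i1 hw0 hww
    refine two_classes K h2 (hT1 i1) h2' (commute_fu_of_acts (hin i1 (Or.inl rfl)) (Commute.refl T))
      (commute_fu_of_acts (hin i1 (Or.inl rfl)) (tv_tv_comm 1 1 hvv hww hvw hwv))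
      (fun g hg hgm hgy he => ?_) hx hyx
    obtain ⟨σ, hσ⟩ := hgm
    obtain ⟨b, hb⟩ := hσ i1
    obtain ⟨d, hd⟩ := h2'.isTv hm
    have hσi : σ i1 = i1 := tv_acts (b := aT) (c := d) hb (by rw [← haT, ← hd]; exact he)
    obtain ⟨a, e, ha, he'⟩ := support K h2 hgy.symm hσ (hin i1 (Or.inl rfl)) (hσi.symm ▸ hin i1 (Or.inl rfl))
    rw [hσi] at ha
    rw [fu_conj_of_acts ha, rt] at he
    rw [fa_injective (by omega) i1 (congrArg Units.val he)] at he'
    have h3 : (C.tv w 1 hww) * C.tv w 1 hww = 1 := Units.ext (by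
      rw [Units.val_mul, tv_val, one_smul, mul_add, add_mul, add_mul, C.nr_mul_self hww, one_mul, mul_one,
        one_mul, add_zero, add_assoc, ← two_smul F (C.nr w), h2, zero_smul, add_zero, Units.val_one])
    have he1 := eq_one_of_smul_sq hm h2 he' h3 hTT
    rw [he1, one_smul, hT, tv_val, tv_val, one_smul, one_smul, add_right_inj] at he'
    exact hne he'
  · obtain ⟨σ, hσ⟩ := hc
    have hinv : ∀ i, σ (σ i) = i := fun i => by
      obtain ⟨a, ha⟩ := hσ i
      obtain ⟨b, hb⟩ := hσ (σ i)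
      have := hb.mul ha
      rw [hcc] at this
      exact this.target_unique (by omega) (acts_one i)
    have hsupp : ∀ i, i = i1 ∨ i = i2 ∨ i = i3 → σ i = i1 ∨ σ i = i2 ∨ σ i = i3 := fun i hi => by
      by_contra hne
      push Not at hne
      obtain ⟨a, e, -, he⟩ := support K h2 hcy hσ (hin i hi) (hout (σ i) hne.1 hne.2.1 hne.2.2)
      exact tv0_ne_scalar hm (a * aT) e (by simpa [haT, mul_assoc] using he)
    obtain ⟨i, hi⟩ : ∃ i, σ i = i := by
      have hne : ∀ p q, p ≠ q → σ p ≠ σ q := fun p q h => σ.injective.ne h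
      rcases hsupp i1 (Or.inl rfl) with h | h | h
      · exact ⟨i1, h⟩
      · refine ⟨i3, ?_⟩
        rcases hsupp i3 (Or.inr (Or.inr rfl)) with h' | h' | h'
        · have := hinv i1
          rw [h] at this
          exact absurd (this.trans h'.symm) (hne _ _ h23)
        · exact absurd (h.trans h'.symm) (hne _ _ h13)
        · exact h'
      · refine ⟨i2, ?_⟩
        rcases hsupp i2 (Or.inr (Or.inl rfl)) with h' | h' | h'
        · have := hinv i1
          rw [h] at this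
          exact absurd (this.trans h'.symm) (hne _ _ h23.symm)
        · exact h'
        · exact absurd (h.trans h'.symm) (hne _ _ h12)
    obtain ⟨a, ha⟩ := hσ i
    rw [hi] at ha
    exact ⟨i, a, ha⟩

/-- The auxiliary involution for two factors of dimension three. -/
theorem exists_y_small (hm3 : k = 3) (ht2 : t = 1) :
    ∃ y, y * y = 1 ∧ Pure y ∧ y ∈ G ∧ ¬ C.IsRtD G y ∧
      (∀ x ∈ G, Commute y x → x ∈ mst k (t + 1) F) ∧
      (∀ c ∈ mst k (t + 1) F, Commute c y → c * c = 1 → (∃ z, z * y * z⁻¹ = y * c) → ∃ i a, Acts c i i a) := by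
  classical
  subst hm3 ht2
  have hm := K.hk
  obtain ⟨v, hv0, hvv⟩ := C.exists_isotropic (show 2 ≤ 3 by omega)
  set T := C.tv v 1 hvv with hT
  have hT1 : ∀ r : Fin (1 + 1), C.IsRoot (fu r T) r := fun r => isRoot_rt h2 r hv0 hvv
  obtain ⟨aT, haT⟩ : ∃ a, T = a * tv0 hm * a⁻¹ := by
    obtain ⟨a, ha⟩ := (hT1 0).isTv hm
    exact ⟨a, Units.ext (fa_injective (by omega) 0 (congrArg Units.val ha))⟩
  have hTs : ∀ e : F, T.val ≠ e • 1 := fun e => haT ▸ tv0_ne_scalar hm aT e
  have hTT : T * T = 1 := haT ▸ tv_sq hm h2 aT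
  have h01' : (0 : Fin 2) ≠ 1 := by decide
  set y := fu (0 : Fin 2) T * fu (1 : Fin 2) T with hy
  have hy0 : Acts y 0 0 T := by simpa [hy] using (acts_fu (0 : Fin 2) T).mul (acts_fu_ne h01' T)
  have hy1 : Acts y 1 1 T := by simpa [hy] using (acts_fu_ne h01'.symm T).mul (acts_fu (1 : Fin 2) T)
  have hpure : Pure y := (pure_fu _ T).mul (pure_fu _ T)
  have hyy : y * y = 1 := by
    rw [hy, (commute_fu h01'.symm T T).mul_mul_mul_comm, ← map_mul, ← map_mul, hTT, map_one, map_one, one_mul]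
  refine ⟨y, hyy, hpure, G.mul_mem ((hT1 0).mem K.hov) ((hT1 1).mem K.hov), fun hD => ?_, fun x hx hyx => ?_,
    fun c hc hcy hcc ⟨z, hz⟩ => ?_⟩
  · obtain ⟨k, hk⟩ := K.isRoot_of_mem hD hpure.mem_mst
    by_cases h : (0 : Fin 2) = k
    · obtain ⟨e, he⟩ := (hk.isTv hm).acts_ne (i := 1) (h ▸ h01'.symm) hy1
      exact hTs e he
    · obtain ⟨e, he⟩ := (hk.isTv hm).acts_ne h hy0
      exact hTs e he
  · exact cent_two K h2 h01' (hT1 0) (hT1 1) hx hyx.symm
  · obtain ⟨σ, hσ⟩ := hc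
    by_cases hσ0 : σ 0 = 0
    · obtain ⟨a, ha⟩ := hσ 0
      rw [hσ0] at ha
      exact ⟨0, a, ha⟩
    exfalso
    have hσ01 : σ 0 = 1 := (show ∀ p : Fin 2, p ≠ 0 → p = 1 by decide) _ hσ0
    obtain ⟨a, ha⟩ := hσ 0
    rw [hσ01] at ha
    have hyc : y * c * (y * c) = 1 := by rw [hcy.mul_mul_mul_comm, hyy, hcc, one_mul]
    have hle := sw_rank_le h2 hyc (hy1.mul ha)
    rw [← hz, rank_conj_sub_one] at hle
    have hsq : (fa (0 : Fin 2) T.val * (fu (1 : Fin 2) T).val - 1) * (fa (0 : Fin 2) T.val * (fu (1 : Fin 2) T).val - 1) = 0 := by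
      have e : ∀ M : Matrix (Idx 3 2) (Idx 3 2) F, (M - 1) * (M - 1) = M * M - (2 : F) • M + 1 := fun M => by
        simp only [sub_mul, mul_sub, one_mul, mul_one, two_smul]; abel
      rw [e, ← fu_val, ← Units.val_mul, ← hy, ← Units.val_mul, hyy, Units.val_one, h2, zero_smul, sub_zero,
        ← two_smul F (1 : Matrix (Idx 3 2) (Idx 3 2) F), h2, zero_smul]
    have hlt := two_components hm (i := (0 : Fin 2)) (A := T.val) (β := fu (1 : Fin 2) T) (com_fa h01' _) hTs
      (fun e he => hTs e (fa_injective (by omega) (1 : Fin 2) (by rw [map_smul, map_one]; exact he))) hsq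
    rw [← fu_val, ← Units.val_mul, ← hy] at hlt
    exact absurd hlt (not_lt.2 hle)

/-- The auxiliary involution for factors of dimension at least four. -/
theorem exists_y_four (h4 : 4 ≤ k) :
    ∃ y, y * y = 1 ∧ Pure y ∧ y ∈ G ∧ ¬ C.IsRtD G y ∧
      (∀ x ∈ G, Commute y x → x ∈ mst k (t + 1) F) ∧
      (∀ c ∈ mst k (t + 1) F, Commute c y → c * c = 1 → (∃ z, z * y * z⁻¹ = y * c) → ∃ i a, Acts c i i a) := by
  classical
  have hm := K.hk
  obtain ⟨v, hv0, hvv⟩ := C.exists_isotropic (show 2 ≤ k by omega)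
  obtain ⟨f, u, hvf, -, hu0, huu, hvu, huv, huf, huspan⟩ := C.exists_orth_iso h4 hv0 hvv
  set L := C.tv v 1 hvv * C.tv u 1 huu with hL
  have hLv : L.val = 1 + (C.nr v + C.nr u) := by
    rw [hL, Units.val_mul, tv_val, tv_val, one_smul, one_smul, add_mul, mul_add, mul_add, nr, nr, C.op_mul, hvu,
      zero_smul]
    simp only [one_mul, mul_one, add_zero]
    abel
  have hone : (1 : F) + C.σ 1 = 0 := add_skew_one h2
  have hLI : C.Iso L.val := by
    rw [hL, Units.val_mul]; exact Iso.mul C (C.iso_tv v hone hvv) (C.iso_tv u hone huu)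
  have hsq : ∀ (p : Fin k → F) (hp : C.ip p p = 0), C.tv p 1 hp * C.tv p 1 hp = 1 := fun p hp => Units.ext (by
    rw [Units.val_mul, tv_val, one_smul, mul_add, add_mul, add_mul, C.nr_mul_self hp, one_mul, mul_one,
      one_mul, add_zero, add_assoc, ← two_smul F (C.nr p), h2, zero_smul, add_zero, Units.val_one])
  have hLL : L * L = 1 := by
    rw [hL, (tv_tv_comm 1 1 huu hvv huv hvu).mul_mul_mul_comm, hsq, hsq, one_mul]
  obtain ⟨g, -, hug, -⟩ := C.exists_partner hu0 huu
  have hrep : ∀ w : Fin k → F, C.nr v + C.nr u = C.nr w → False := fun w h => by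
    have h1 := congrArg (· *ᵥ f) h
    have h3 := congrArg (· *ᵥ g) h
    simp only [Matrix.add_mulVec, nr, C.op_mulVec, hvf, huf, hug, one_smul, zero_smul, add_zero] at h1 h3
    have hwf : C.ip w f ≠ 0 := fun e => hv0 (by rw [h1, e, zero_smul])
    refine huspan (Submodule.mem_span_singleton.2 ⟨C.ip w g * (C.ip w f)⁻¹ - C.ip v g, ?_⟩)
    have hw : w = (C.ip w f)⁻¹ • v := by
      conv_rhs => rw [h1]
      rw [smul_smul, inv_mul_cancel₀ hwf, one_smul]
    rw [sub_smul, mul_smul, ← hw, ← h3, add_sub_cancel_left]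
  have hL1 : L ≠ 1 := fun e => by
    have h1 := congrArg Units.val e
    rw [hLv, Units.val_one] at h1
    refine hrep 0 ?_
    rw [C.nr_zero]
    exact add_left_cancel (h1.trans (add_zero _).symm)
  have hLs : ∀ e : F, L.val ≠ e • 1 := fun e he => hL1 (Units.ext (by
    rw [he, eq_one_of_smul_sq hm h2 (a := L) (b := (1 : GL (Fin k) F)) (e := e) (by rw [Units.val_one]; exact he) hLL
      (one_mul _),
      one_smul, Units.val_one]))
  set y := fu (0 : Fin (t + 1)) L with hy
  refine ⟨y, by rw [hy, ← map_mul, hLL, map_one], pure_fu _ L,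
    K.hov.su 0 L hLI (by rw [hL, Units.val_mul, Matrix.det_mul, C.det_tv, C.det_tv, one_mul]),
    fun hD => ?_, fun x hx hyx => cent_one K h2 hLI hL1 hLL hx hyx.symm, fun c hc hcy hcc _ => ?_⟩
  · obtain ⟨r, hr⟩ := K.isRoot_of_mem hD (fu_mem_mst _ L)
    rcases eq_or_ne (0 : Fin (t + 1)) r with h0 | h0
    · subst h0
      obtain ⟨w, hww, -, hw⟩ := hr.exists_rt h2
      have h1 := fa_injective (by omega) (0 : Fin (t + 1)) (congrArg Units.val hw)
      rw [hLv, tv_val, one_smul, add_right_inj] at h1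
      exact hrep w h1
    · obtain ⟨e, he⟩ := (hr.isTv hm).acts_ne h0 (acts_fu _ L)
      exact hLs e he
  · obtain ⟨σ, hσ⟩ := hc
    by_cases hσ0 : σ 0 = 0
    · obtain ⟨a, ha⟩ := hσ 0
      rw [hσ0] at ha
      exact ⟨0, a, ha⟩
    exfalso
    obtain ⟨a, e, -, he⟩ := support K h2 hcy hσ (acts_fu 0 L) (acts_fu_ne hσ0 L)
    refine hLs e ?_
    have h1 := congrArg (conjA a⁻¹) he
    rwa [Units.val_one, val_conj, conjA_inv, map_smul, map_one] at h1

/-- In characteristic two nothing is moved. -/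
theorem even_false {b : GL (Idx k (t + 1)) F} (hb : C.IsRtD G b) (hbm : b ∉ mst k (t + 1) F) : False := by
  classical
  have hm := K.hk
  have ht := K.ht
  obtain ⟨y, hyy, hpure, hyG, hyD, hcent, hfix⟩ :
      ∃ y, y * y = 1 ∧ Pure y ∧ y ∈ G ∧ ¬ C.IsRtD G y ∧
        (∀ x ∈ G, Commute y x → x ∈ mst k (t + 1) F) ∧
        (∀ c ∈ mst k (t + 1) F, Commute c y → c * c = 1 → (∃ z, z * y * z⁻¹ = y * c) → ∃ i a, Acts c i i a) := by
    rcases Nat.lt_or_ge k 4 with h' | h'
    · rcases Nat.lt_or_ge t 2 with h | h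
      · exact exists_y_small K h2 (by omega) (by have := K.ht; omega)
      · exact exists_y_three K h2 h
    · exact exists_y_four K h2 h'
  have hb2 := hb.sq hm h2
  rcases Nat.even_or_odd (orderOf (y * b)) with he | ho
  · obtain ⟨c, w, hc, hw, hc1, hcc, hcy, hcb, hrefl⟩ := Dihedral.reflection hyy hb2 he
    have hcl : Subgroup.closure ({y, b} : Set (GL (Idx k (t + 1)) F)) ≤ G :=
      (Subgroup.closure_le _).2 (Set.insert_subset hyG (Set.singleton_subset_iff.2 (hb.mem K.hov)))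
    have hcm : c ∈ mst k (t + 1) F := hcent c (hcl hc) hcy.symm
    have hpc : Pure c := by
      have key : Pure (y * c) → Pure c := fun h => by
        have := hpure.mul h
        rwa [← mul_assoc, hyy, one_mul] at this
      rcases hrefl with hz | hz
      · obtain ⟨i, a, ha⟩ := hfix c hcm hcy hcc ⟨w, hz.symm⟩
        obtain ⟨T, hT⟩ := hpure i
        have hy'' : y * c * (y * c) = 1 := by rw [hcy.mul_mul_mul_comm, hyy, hcc, one_mul]
        obtain ⟨a', haI, ha'⟩ := C.exists_iso_acts (by omega)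
          (K.hov.iso _ (G.mul_mem hyG (hcl hc))) (hT.mul ha)
        obtain ⟨M, hM, hTM⟩ := exists_root_comm K h2 haI (comp_sq hm hy'' ha') i
        have hcom : Commute (y * c) (fu i M) := commute_fu_of_acts ha' hTM
        rw [hz] at hcom
        have hs : Commute y (w⁻¹ * fu i M * w) := by
          show _ = _
          have := congrArg (fun g => w⁻¹ * g * w) hcom.eq
          simp only [← mul_assoc, inv_mul_cancel, one_mul] at this ⊢
          simp only [mul_assoc, inv_mul_cancel, mul_one] at this ⊢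
          exact this
        have hsD : C.IsRtD G (w⁻¹ * fu i M * w) := by
          simpa using hM.isRtD.conj (G.inv_mem (hcl hw))
        obtain ⟨r, hk⟩ := K.isRoot_of_mem hsD (hcent _ (hsD.mem K.hov) hs)
        have hwm : w ∈ mst k (t + 1) F := K.mem_of_tv (hcl hw) hk (j := i) (by
          have : w * (w⁻¹ * fu i M * w) * w⁻¹ = fu i M := by group
          rw [this]; exact hM)
        exact key (by rw [hz]; exact hpure.conj hwm)
      · have hD : C.IsRtD G (y * c) := by rw [hz]; exact hb.conj (hcl hw)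
        obtain ⟨r, hk⟩ := K.isRoot_of_mem hD ((mst k (t + 1) F).mul_mem hpure.mem_mst hcm)
        exact key (hk.isTv hm).pure
    exact hbm (cent_pure K h2 (hcl hc) hpc hc1 hcc (hb.mem K.hov) hcb)
  · obtain ⟨w, hw, hwb⟩ := Dihedral.conj_of_odd hyy hb2 ho
    refine hyD ?_
    have : y = w⁻¹ * b * (w⁻¹)⁻¹ := by rw [← hwb]; group
    rw [this]
    exact hb.conj (G.inv_mem ((Subgroup.closure_le _).2
      (Set.insert_subset hyG (Set.singleton_subset_iff.2 (hb.mem K.hov))) hw))

end Cfsg.Lib.Linear.UWreath.Cj
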