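import Cfsg.Agent.Lib.Linear.UTensor.Alg

/-!
# All long root elements at one factor give all transvections

An isotropic vector of a product of two Hermitian spaces is moved by long root elements of the second factor
into a hyperbolic line of that factor, one dimension at a time, and then to a pure vector.
-/

set_option autoImplicit false
set_option linter.unusedSectionVars false
set_option linter.unusedVariables false

namespace Cfsg.Lib.Linear.UWreath.Pencil

open Module
open Cfsg.Lib.Linear Cfsg.Lib.Linear.UTensor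

variable {F V U W : Type*} [Field F] [Finite F]
  [AddCommGroup V] [Module F V] [FiniteDimensional F V]
  [AddCommGroup U] [Module F U] [FiniteDimensional F U]
  [AddCommGroup W] [Module F W] [FiniteDimensional F W]
  {σ : F →+* F} {B : V →ₛₗ[σ] V →ₗ[F] F} {α : U →ₛₗ[σ] U →ₗ[F] F} {β : W →ₛₗ[σ] W →ₗ[F] F}
  {τ : U →ₗ[F] W →ₗ[F] V}

/-- A skew map with a prescribed value. -/
theorem exists_skew_map (T : Ten B α β τ) {a b : U} (ha : a ≠ 0) (h : α a b + α b a = 0) :
    ∃ ω : U →ₗ[F] U, T.adj ω = -ω ∧ ω a = b := by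
  obtain ⟨d, hd⟩ := T.cα.exists_pairing ha
  have hd1 : α d a = 1 := T.cα.swap_one hd
  refine ⟨rk α b d - rk α d b + α b a • rk α d d, T.adj_eq fun u w => ?_, ?_⟩
  · simp only [LinearMap.neg_apply, LinearMap.add_apply, LinearMap.sub_apply, LinearMap.smul_apply, rk_apply,
      map_neg, map_add, map_sub, map_smul, LinearMap.map_smulₛₗ, ← T.cα.flip_apply, smul_eq_mul]
    linear_combination (-(α u d * α d w)) * h
  · simp [rk_apply, hd1]

/-- The vector has no component outside the subspace of the second factor. -/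
def Supp (T : Ten B α β τ) (X : Submodule F W) (v : V) : Prop :=
  ∀ z, (∀ y ∈ X, β z y = 0) → T.ctr z v = 0

/-- The subspace is non-degenerate. -/
def Nd (β : W →ₛₗ[σ] W →ₗ[F] F) (X : Submodule F W) : Prop :=
  ∀ u ∈ X, (∀ y ∈ X, β u y = 0) → u = 0

theorem nd_top (T : Ten B α β τ) : Nd β ⊤ := fun u _ h => T.cβ.ndeg.1 u fun y => h y trivial

theorem supp_top (T : Ten B α β τ) (v : V) : Supp T ⊤ v := fun z h => by
  rw [T.cβ.ndeg.1 z fun y => h y trivial]
  simp

theorem exists_hyp (T : Ten B α β τ) {X : Submodule F W} (hX : Nd β X) (h2 : 2 ≤ finrank F X) :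
    ∃ x x', x ∈ X ∧ x' ∈ X ∧ β x x = 0 ∧ β x' x' = 0 ∧ β x x' = 1 := by
  obtain ⟨x, hx, hx0, hxx⟩ := Herm.exists_iso_ne_zero T.cβ.ne_id T.cβ.invol T.cβ.symm X h2
  obtain ⟨y, hy, hxy⟩ : ∃ y ∈ X, β x y ≠ 0 := by
    by_contra h
    push Not at h
    exact hx0 (hX x hx h)
  set z := (β x y)⁻¹ • y with hz
  have hzX : z ∈ X := X.smul_mem _ hy
  have hxz : β x z = 1 := by rw [hz, map_smul, smul_eq_mul, inv_mul_cancel₀ hxy]
  obtain ⟨s, hs⟩ := Herm.exists_trace_eq T.cβ.ne_id T.cβ.invol (a := -(β z z)) (by rw [map_neg, T.cβ.self_fixed])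
  refine ⟨x, z + s • x, hx, X.add_mem hzX (X.smul_mem _ hx), hxx, ?_, ?_⟩
  · simp only [map_add, LinearMap.add_apply, LinearMap.map_smulₛₗ, LinearMap.smul_apply, map_smul, smul_eq_mul,
      hxx, hxz, T.cβ.swap_one hxz]
    linear_combination hs
  · rw [map_add, hxz, map_smul, hxx, smul_zero, add_zero]

theorem cut_line (T : Ten B α β τ) {X : Submodule F W} (hX : Nd β X) {v : V} (hv : Supp T X v) {w : W}
    (hw : w ∈ X) (hww : β w w ≠ 0) (hwv : T.ctr w v = 0) :
    Nd β (X ⊓ LinearMap.ker (β w)) ∧ Supp T (X ⊓ LinearMap.ker (β w)) v ∧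
      finrank F X = finrank F (X ⊓ LinearMap.ker (β w) : Submodule F W) + 1 := by
  have hproj : ∀ y ∈ X, y - (β w y / β w w) • w ∈ X ⊓ LinearMap.ker (β w) := fun y hy =>
    ⟨X.sub_mem hy (X.smul_mem _ hw), by
      rw [SetLike.mem_coe, LinearMap.mem_ker, map_sub, map_smul, smul_eq_mul, div_mul_cancel₀ _ hww, sub_self]⟩
  refine ⟨fun u hu h => hX u hu.1 fun y hy => ?_, fun z hz => ?_, ?_⟩
  · have h1 := h _ (hproj y hy)
    rw [map_sub, map_smul, T.cβ.swap_zero (show β w u = 0 from hu.2), smul_zero, sub_zero] at h1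
    exact h1
  · set z' := z - σ (β z w / β w w) • w
    have h1 : T.ctr z' v = 0 := hv z' fun y hy => by
      have h2 := hz _ (hproj y hy)
      simp only [map_sub, map_smul, smul_eq_mul] at h2
      simp only [z', map_sub, LinearMap.sub_apply, LinearMap.map_smulₛₗ, LinearMap.smul_apply, T.cβ.invol,
        smul_eq_mul]
      linear_combination h2
    simpa [z', hwv] using h1
  · have h1 : LinearMap.range ((β w).domRestrict X) = ⊤ := LinearMap.range_eq_top.2 fun c =>
      ⟨⟨(c / β w w) • w, X.smul_mem _ hw⟩, by simp [div_mul_cancel₀ _ hww]⟩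
    have h2 := LinearMap.finrank_range_add_finrank_ker ((β w).domRestrict X)
    rw [h1, finrank_top, finrank_self] at h2
    have h3 : finrank F (LinearMap.ker ((β w).domRestrict X)) =
        finrank F (X ⊓ LinearMap.ker (β w) : Submodule F W) := by
      have e : (LinearMap.ker ((β w).domRestrict X)).map X.subtype = X ⊓ LinearMap.ker (β w) := by
        ext y
        simp [Submodule.mem_map, and_comm]
      rw [← Submodule.finrank_map_subtype_eq X, e]
    omega

variable (T : Ten B α β τ) {L : Subgroup (V ≃ₗ[F] V)}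
  (hlong : ∀ x, β x x = 0 → ∀ ω : U →ₗ[F] U, T.adj ω = -ω → InA L (T.lin x x ω))
include hlong

theorem exists_long {x : W} (hxx : β x x = 0) {v : V} {δ : U} (hc : T.ctr x v ≠ 0)
    (h : α (T.ctr x v) δ + α δ (T.ctr x v) = 0) :
    ∃ g ∈ L, ∀ z, T.ctr z (g v) = T.ctr z v + β z x • δ := by
  obtain ⟨ω, hω, hωv⟩ := exists_skew_map T hc h
  obtain ⟨g, hg, hgv⟩ := hlong x hxx ω hω
  exact ⟨g, hg, fun z => by rw [hgv, map_add, Ten.lin_apply, hωv, T.ctr_tau]⟩

theorem reduce_of {X : Submodule F W} {x x' z : W} (hx : x ∈ X) (hx' : x' ∈ X) (hz : z ∈ X) (hxx : β x x = 0)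
    (hx'' : β x' x' = 0) (hxx' : β x x' = 1) (hxz : β x z = 0) (hx'z : β x' z = 0) (hzz : β z z ≠ 0) {v : V}
    (hv : Supp T X v) (hc : T.ctr x v ≠ 0) :
    ∃ g ∈ L, Supp T X (g v) ∧ ∃ w ∈ X, β w w ≠ 0 ∧ T.ctr w (g v) = 0 := by
  have hx'x := T.cβ.swap_one hxx'
  have hzx := T.cβ.swap_zero hxz
  have hzx' := T.cβ.swap_zero hx'z
  set c := T.ctr x v with hcdef
  set b := T.ctr z v with hbdef
  by_cases hdep : ∃ l : F, b = l • c
  · obtain ⟨l, hl⟩ := hdep
    refine ⟨1, L.one_mem, hv, z + σ (-l) • x, X.add_mem hz (X.smul_mem _ hx), ?_, ?_⟩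
    · simpa [hxz, hzx, hxx] using hzz
    · show T.ctr (z + σ (-l) • x) v = 0
      rw [map_add, LinearMap.add_apply, LinearMap.map_smulₛₗ, LinearMap.smul_apply, T.invol, ← hbdef, ← hcdef, hl,
        neg_smul, add_neg_cancel]
  push Not at hdep
  obtain ⟨δ, hcδ, hδ⟩ : ∃ δ, α c δ + α δ c = 0 ∧ α b (T.ctr x' v + δ) ≠ 0 := by
    by_cases h0 : α b (T.ctr x' v) = 0
    · obtain ⟨u, hu, hu'⟩ := Herm.exists_perp_ne_zero T.cα.invol T.cα.symm T.cα.ndeg (Submodule.span F {c}) (a := b)
        (fun h => by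
          obtain ⟨l, hl⟩ := Submodule.mem_span_singleton.1 h
          exact hdep l hl.symm)
      have h1 := hu c (Submodule.mem_span_singleton_self c)
      exact ⟨u, by rw [h1, T.cα.swap_zero h1, add_zero], by rwa [map_add, h0, zero_add]⟩
    · exact ⟨0, by simp, by rwa [add_zero]⟩
  obtain ⟨g₁, hg₁, h₁⟩ := exists_long T hlong hxx hc hcδ
  set v₁ := g₁ v
  set a := T.ctr x' v₁ with ha
  have hab : α b a ≠ 0 := by rw [ha, h₁, hx'x, one_smul]; exact hδ
  have hba : α a b ≠ 0 := fun h => hab (T.cα.swap_zero h)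
  have ha0 : a ≠ 0 := fun h => hab (by rw [h, map_zero])
  obtain ⟨l, hl0, hl⟩ : ∃ l : F, l ≠ 0 ∧ l * α a b + σ (l * α a b) = α a c + α c a := by
    by_cases hr : α a c + α c a = 0
    · obtain ⟨y, hy0, hy⟩ := Herm.exists_trace_zero T.cB.ne_id T.invol
      exact ⟨y / α a b, div_ne_zero hy0 hba, by rw [div_mul_cancel₀ _ hba, hy, hr]⟩
    · obtain ⟨y, hy⟩ := Herm.exists_trace_eq T.cB.ne_id T.invol (a := α a c + α c a)
        (by rw [map_add, ← T.cα.flip_apply, ← T.cα.flip_apply, add_comm])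
      refine ⟨y / α a b, div_ne_zero (fun h => hr ?_) hba, by rw [div_mul_cancel₀ _ hba, hy]⟩
      rw [← hy, h, map_zero, add_zero]
  obtain ⟨g₂, hg₂, h₂⟩ := exists_long T hlong hx'' (v := v₁) (δ := l • b - c) ha0 (by
    rw [← ha]
    simp only [map_sub, map_smul, LinearMap.sub_apply, LinearMap.map_smulₛₗ, LinearMap.smul_apply, smul_eq_mul]
    rw [map_mul, ← T.cα.flip_apply] at hl
    linear_combination hl)
  refine ⟨g₂ * g₁, mul_mem hg₂ hg₁, fun y hy => ?_, x + σ (-l) • z, X.add_mem hx (X.smul_mem _ hz), ?_, ?_⟩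
  · rw [LinearEquiv.mul_apply, h₂, h₁, hv y hy, hy x hx, hy x' hx']
    simp
  · simpa [hxz, hzx, hxx, T.invol] using ⟨hl0, hzz⟩
  · rw [LinearEquiv.mul_apply, h₂, map_add, LinearMap.add_apply, LinearMap.map_smulₛₗ, LinearMap.smul_apply,
      T.invol, show T.ctr x v₁ = c by rw [h₁, hxx, zero_smul, add_zero],
      show T.ctr z v₁ = b by rw [h₁, hzx, zero_smul, add_zero]]
    simp only [map_add, LinearMap.add_apply, LinearMap.map_smulₛₗ, LinearMap.smul_apply, hxx', hzx', smul_eq_mul,
      mul_zero, add_zero, one_smul, neg_smul]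
    abel

theorem reduce {X : Submodule F W} (hX : Nd β X) (h3 : 3 ≤ finrank F X) {v : V} (hv : Supp T X v) :
    ∃ g ∈ L, Supp T X (g v) ∧ ∃ w ∈ X, β w w ≠ 0 ∧ T.ctr w (g v) = 0 := by
  obtain ⟨x, x', hx, hx', hxx, hx'', hxx'⟩ := exists_hyp T hX (by omega)
  have hx'x := T.cβ.swap_one hxx'
  obtain ⟨u, hu, hu0⟩ : ∃ u ∈ X ⊓ T.cβ.perp2 x x', u ≠ 0 := by
    refine Submodule.exists_mem_ne_zero_of_ne_bot fun h => ?_
    have h1 := Submodule.finrank_sup_add_finrank_inf_eq X (T.cβ.perp2 x x')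
    have h2 := Submodule.finrank_le (X ⊔ T.cβ.perp2 x x')
    have h4 : finrank F W ≤ finrank F (T.cβ.perp2 x x') + 2 := T.cβ.finrank_perp2 x x'
    rw [h, finrank_bot] at h1
    omega
  obtain ⟨hu1, hu2⟩ := T.cβ.mem_perp2.1 hu.2
  obtain ⟨y, hy, huy⟩ : ∃ y ∈ X, β u y ≠ 0 := by
    by_contra h
    push Not at h
    exact hu0 (hX u hu.1 h)
  obtain ⟨z, hz, hzz⟩ := T.cβ.exists_aniso (X ⊓ T.cβ.perp2 x x') hu (v := y - β x' y • x - β x y • x')
    ⟨X.sub_mem (X.sub_mem hy (X.smul_mem _ hx)) (X.smul_mem _ hx'), T.cβ.sub_mem_perp2 hxx hx'' hxx' y⟩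
    (by simpa [T.cβ.swap_zero hu1, T.cβ.swap_zero hu2] using huy)
  obtain ⟨hxz, hx'z⟩ := T.cβ.mem_perp2.1 hz.2
  by_cases hc : T.ctr x v = 0
  · by_cases ha : T.ctr x' v = 0
    · obtain ⟨s, hs⟩ := Herm.exists_trace_eq T.cB.ne_id T.invol (a := (1 : F)) (map_one σ)
      refine ⟨1, L.one_mem, hv, x + s • x', X.add_mem hx (X.smul_mem _ hx'), ?_, ?_⟩
      · simp [hxx, hx'', hxx', hx'x, hs]
      · show T.ctr (x + s • x') v = 0
        simp [hc, ha]
    · exact reduce_of T hlong hx' hx hz.1 hx'' hxx hx'x hx'z hxz hzz hv ha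
  · exact reduce_of T hlong hx hx' hz.1 hxx hx'' hxx' hxz hx'z hzz hv hc

variable (hiso : L ≤ Herm.iso B)
include hiso

/-- Every isotropic vector is a centre of transvections of the group. -/
theorem qrefl_mem : ∀ (r : ℕ) (X : Submodule F W), Nd β X → finrank F X = r + 2 → ∀ v : V, Supp T X v →
    B v v = 0 → ∀ (l : F) (h : l + σ l + σ l * l * B v v = 0), Herm.qrefl v l h ∈ L := by
  have hback : ∀ {g : V ≃ₗ[F] V}, g ∈ L → ∀ {v : V}, B v v = 0 →
      (∀ (l : F) (h : l + σ l + σ l * l * B (g v) (g v) = 0), Herm.qrefl (g v) l h ∈ L) →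
      ∀ (l : F) (h : l + σ l + σ l * l * B v v = 0), Herm.qrefl v l h ∈ L := by
    intro g hg v _ hgv l h
    have h1 := hgv l (by rw [hiso hg v v]; exact h)
    rw [← Herm.qrefl_conj (hiso hg) v l h] at h1
    have h2 := mul_mem (mul_mem (inv_mem hg) h1) hg
    rwa [show g⁻¹ * (g * Herm.qrefl v l h * g⁻¹) * g = Herm.qrefl v l h by group] at h2
  intro r
  induction r with
  | zero =>
    intro X hX h2 v hv hvv l h
    obtain ⟨x, x', hx, hx', hxx, hx'', hxx'⟩ := exists_hyp T hX (by omega)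
    have hx'x := T.cβ.swap_one hxx'
    have hspan : Submodule.span F {x, x'} = X := by
      refine Submodule.eq_of_le_of_finrank_le (Submodule.span_le.2 (Set.insert_subset hx
        (Set.singleton_subset_iff.2 hx'))) ?_
      have hli : LinearIndependent F ![x, x'] := LinearIndependent.pair_iff.2 fun s t hst => by
        have h3 := congrArg (β x) hst
        have h4 := congrArg (β x') hst
        simp [hxx, hx'', hxx', hx'x] at h3 h4
        exact ⟨h4, h3⟩
      have h5 := finrank_span_eq_card hli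
      rw [Matrix.range_cons_cons_empty, Fintype.card_fin] at h5
      omega
    have hdec : ∀ v, Supp T X v → v = τ (T.ctr x v) x' + τ (T.ctr x' v) x := fun v hv =>
      T.ctr_ext fun z => by
        set p := β z x
        set q := β z x'
        have hz0 : T.ctr (z - σ q • x - σ p • x') v = 0 := hv _ fun y hy => by
          rw [← hspan] at hy
          obtain ⟨s, t, rfl⟩ := Submodule.mem_span_pair.1 hy
          simp [p, q, hxx, hx'', hxx', hx'x, T.cβ.invol]
          ring
        rw [map_add, T.ctr_tau, T.ctr_tau]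
        have : T.ctr z v - q • T.ctr x v - p • T.ctr x' v = 0 := by
          rw [← hz0]
          simp [T.invol]
        linear_combination (norm := module) this
    -- a pure vector
    have pure : ∀ (a : U) (y : W), β y y = 0 → ∀ (l : F) (h : l + σ l + σ l * l * B (τ a y) (τ a y) = 0),
        Herm.qrefl (τ a y) l h ∈ L := fun a y hyy l h => by
      have hl : l + σ l = 0 := by rw [T.pair, hyy, mul_zero, mul_zero, add_zero] at h; exact h
      obtain ⟨g, hg, hgv⟩ := hlong y hyy (l • rk α a a) (T.adj_eq fun u w => by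
        simp only [LinearMap.neg_apply, LinearMap.smul_apply, rk_apply, map_neg, map_smul, LinearMap.map_smulₛₗ,
          ← T.cα.flip_apply, smul_eq_mul, eq_neg_of_add_eq_zero_right hl]
        ring)
      have e : Herm.qrefl (τ a y) l h = g := LinearEquiv.ext fun z => by
        rw [Herm.qrefl_apply, hgv, Ten.lin_apply, LinearMap.smul_apply, rk_apply, T.α_ctr, map_smul, map_smul,
          LinearMap.smul_apply, LinearMap.smul_apply, smul_smul]
      exact e ▸ hg
    revert l
    by_cases ha : T.ctr x' v = 0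
    · intro l h
      have e : v = τ (T.ctr x v) x' := by
        have := hdec v hv
        rwa [ha, map_zero, LinearMap.zero_apply, add_zero] at this
      revert h
      rw [e]
      exact fun h => pure _ _ hx'' l h
    · have hiso' : α (T.ctr x' v) (-(T.ctr x v)) + α (-(T.ctr x v)) (T.ctr x' v) = 0 := by
        have h3 := hvv
        rw [hdec v hv] at h3
        simp only [map_add, LinearMap.add_apply, T.pair, hxx, hx'', hxx', hx'x, mul_one, mul_zero] at h3
        rw [map_neg, map_neg, LinearMap.neg_apply]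
        linear_combination -h3
      obtain ⟨g, hg, hgv⟩ := exists_long T hlong hx'' (v := v) ha hiso'
      refine hback hg hvv ?_
      intro l h
      have hs : Supp T X (g v) := fun y hy => by rw [hgv, hv y hy, hy x' hx', zero_smul, add_zero]
      have e : g v = τ (T.ctr x' (g v)) x := by
        have := hdec _ hs
        rwa [show T.ctr x (g v) = 0 by rw [hgv, hxx', one_smul, add_neg_cancel], map_zero, LinearMap.zero_apply,
          zero_add] at this
      revert h
      rw [e]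
      exact fun h => pure _ _ hxx l h
  | succ r ih =>
    intro X hX hr v hv hvv
    obtain ⟨g, hg, hgs, w, hw, hww, hwv⟩ := reduce T hlong hX (by omega) hv
    obtain ⟨h1, h2, h3⟩ := cut_line T hX hgs hw hww hwv
    exact hback hg hvv (ih _ h1 (by omega) _ h2 (by rw [hiso hg v v, hvv]))

/-- The group contains all transvections. -/
theorem tvGroup_le : Herm.tvGroup B ≤ L := by
  rw [Herm.tvGroup, Subgroup.closure_le]
  rintro _ ⟨w, l, h, hw, rfl⟩
  obtain ⟨r, hr⟩ : ∃ r, finrank F W = r + 2 := ⟨finrank F W - 2, by have := T.hW; omega⟩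
  exact qrefl_mem T hlong hiso r ⊤ (nd_top T) (by rw [finrank_top, hr]) w (supp_top T w) hw l h

end Cfsg.Lib.Linear.UWreath.Pencil
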