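import Cfsg.Agent.Lib.Linear.UWreath.Slot
import Cfsg.Agent.Lib.Linear.UWreath.Pencil

/-!
# A coefficient which is not a scalar gives all transvections

The roots at pure vectors span all coefficients at one factor.
-/

set_option autoImplicit false
set_option linter.unusedSectionVars false
set_option linter.unusedVariables false
set_option linter.unusedSimpArgs false

namespace Cfsg.Lib.Linear.UWreath.Cj

open Cfsg.Geo Cfsg.Lib.Linear.AschGen Cfsg.Lib.Linear.TWreath
open scoped Matrix MatrixGroups

variable {F : Type*} [Field F] [Finite F] {C : Cj F} {k t : ℕ} {G : Subgroup (GL (Idx k t) F)}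

theorem span_nr : Submodule.span F (Set.range (C.nr : (Fin k → F) → Matrix (Fin k) (Fin k) F)) = ⊤ := by
  set N := Submodule.span F (Set.range (C.nr : (Fin k → F) → Matrix (Fin k) (Fin k) F))
  have hn : ∀ w, C.nr w ∈ N := fun w => Submodule.subset_span ⟨w, rfl⟩
  obtain ⟨d, hd⟩ := (C.cform (Fin k)).exists_not_fixed
  have hop : ∀ u v, C.op u v ∈ N := fun u v => by
    have h1 := N.sub_mem (N.sub_mem (hn (u + d • v)) (hn u)) (hn (d • v))
    have h2 := N.smul_mem d (N.sub_mem (N.sub_mem (hn (u + v)) (hn u)) (hn v))
    have h3 := N.smul_mem (C.σ d - d)⁻¹ (N.sub_mem h1 h2)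
    simp only [nr, op_add_left, op_add_right, op_smul_left, op_smul_right] at h3
    convert h3 using 1
    conv_lhs => rw [← inv_smul_smul₀ (sub_ne_zero.2 hd) (C.op u v)]
    congr 1
    module
  refine eq_top_iff.2 fun M _ => ?_
  rw [Matrix.matrix_eq_sum_single M]
  refine N.sum_mem fun a _ => N.sum_mem fun b _ => ?_
  have e : Matrix.single a b (M a b) = M a b • C.op (Pi.single a 1) (Pi.single b 1) := by
    ext x y
    simp only [op_apply, Matrix.smul_apply, smul_eq_mul, Matrix.single_apply, Pi.single_apply]
    by_cases hx : a = x <;> by_cases hy : b = y <;> simp [hx, hy, Ne.symm]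
  rw [e]
  exact N.smul_mem _ (hop _ _)

theorem inJ_of_skew (hG : C.Over G) (hk : 3 ≤ k) (hL : ¬ C.Losing G) (i : Fin t)
    {ω : Matrix (Idx k t) (Idx k t) F} (hω : Com i ω) (hsk : C.ad ω = -ω) : C.InJ G i ω := by
  classical
  obtain ⟨x, hx0, hx⟩ := C.exists_isotropic (k := k) (by omega)
  obtain ⟨c, hc0, hc⟩ := C.exists_skew
  set O := Finset.univ.erase i with hO
  have hpure : ∀ w : Fin t → Fin k → F, C.InJ G i (c • pts O fun l => C.nr (w l)) := fun w => by
    refine inJ_of_one hG hk ((com_pts (Finset.notMem_erase i _) _).smul c) hx0 hx ?_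
    have h1 := q_erase hG hk hL i (Function.update w i x) (fun l hl => by
      obtain rfl : l = i := by simpa using hl
      rwa [Function.update_self]) c hc
    rw [pts_erase (Finset.mem_univ i), Function.update_self, pts_congr (Y := fun l => C.nr (w l))
      fun j hj => by rw [Function.update_of_ne (Finset.ne_of_mem_erase hj)]] at h1
    rw [mul_smul_comm]
    exact h1
  let W : Submodule F (Matrix (Idx k t) (Idx k t) F) :=
    { carrier := {Φ | ∀ d : F, C.InJ G i (c • (d • Φ + C.σ d • C.ad Φ))}
      zero_mem' := fun d => by simp [C.ad_zero, InJ.zero]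
      add_mem' := fun {a b} ha hb d => by
        have := (ha d).add (hb d)
        rw [← smul_add] at this
        convert this using 2
        rw [C.ad_add, smul_add, smul_add]; abel
      smul_mem' := fun e a ha d => by
        have := ha (d * e)
        rwa [smul_smul, C.ad_smul, smul_smul, ← map_mul] }
  have key : ∀ D, D ⊆ O → ∀ (X : Fin t → Matrix (Fin k) (Fin k) F) (w : Fin t → Fin k → F),
      pts O (fun l => if l ∈ D then X l else C.nr (w l)) ∈ W := by
    intro D
    induction D using Finset.induction_on with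
    | empty =>
      intro _ X w
      simp only [Finset.notMem_empty, if_false]
      intro d
      rw [C.ad_pts_nr, ← add_smul, smul_comm]
      exact (hpure w).smul_norm (by rw [map_add, C.invol, add_comm])
    | insert j D hj ih =>
      intro hsub X w
      have hjO := hsub (Finset.mem_insert_self j D)
      let Λ : Matrix (Fin k) (Fin k) F →ₗ[F] Matrix (Idx k t) (Idx k t) F :=
        (LinearMap.mulRight F (pts (O.erase j) fun l => if l ∈ D then X l else C.nr (w l))) ∘ₗ
          (fa (F := F) (m := k) j).toLinearMap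
      have hΛ : (⊤ : Submodule F (Matrix (Fin k) (Fin k) F)) ≤ W.comap Λ := by
        rw [← span_nr (C := C), Submodule.span_le]
        rintro _ ⟨v, rfl⟩
        have h1 := ih (fun m hm => hsub (Finset.mem_insert_of_mem hm)) X (Function.update w j v)
        rw [pts_erase hjO, if_neg hj, Function.update_self,
          pts_congr (Y := fun m => if m ∈ D then X m else C.nr (w m))
            fun m hm => by rw [Function.update_of_ne (Finset.ne_of_mem_erase hm)]] at h1
        exact h1
      rw [pts_erase hjO, if_pos (Finset.mem_insert_self j D),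
        pts_congr (Y := fun m => if m ∈ D then X m else C.nr (w m))
          fun m hm => by simp [Finset.ne_of_mem_erase hm]]
      exact hΛ (show X j ∈ (⊤ : Submodule F (Matrix (Fin k) (Fin k) F)) from trivial)
  have hW : ω ∈ W := by
    set z : Fin k := ⟨0, by omega⟩
    have hfix : comp i ω z z = ω := by
      simp only [comp, (hω _).eq, mul_assoc, ← map_mul, sg_mul, ← Finset.mul_sum, ← map_sum, sum_sg,
        map_one, mul_one]
    rw [← hfix]
    have hlin : ∀ M : Matrix (Idx k t) (Idx k t) F, comp i M z z ∈ W := fun M => by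
      rw [Matrix.matrix_eq_sum_single M]
      simp only [comp, Finset.mul_sum, Finset.sum_mul]
      rw [Finset.sum_comm]
      refine W.sum_mem fun a _ => ?_
      rw [Finset.sum_comm]
      refine W.sum_mem fun b _ => ?_
      set X : Fin t → Matrix (Fin k) (Fin k) F := fun l => sg (a l) (b l)
      have e : Matrix.single a b (M a b) = M a b • (fa i (X i) * pts O X) := by
        rw [← pts_erase (Finset.mem_univ i), pts_univ, ← single_eq_pureTens]
        simp
      rw [e]
      have hc1 : Com i (pts O X) := com_pts (Finset.notMem_erase i _) X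
      simp only [mul_smul_comm, smul_mul_assoc, ← Finset.smul_sum, mul_assoc, ← (hc1 _).eq]
      simp only [← mul_assoc, ← map_mul, sg_mul_mul, map_smul, ← Finset.sum_mul, ← Finset.smul_sum, ← map_sum,
        sum_sg, map_one, smul_mul_assoc, one_mul]
      refine W.smul_mem _ (W.smul_mem _ ?_)
      have h1 := key O subset_rfl X fun _ => 0
      rwa [pts_congr (Y := X) fun m hm => if_pos hm] at h1
    exact hlin ω
  obtain ⟨a, ha⟩ := C.exists_trace 1 (map_one _)
  have hcσ : C.σ c = -c := eq_neg_of_add_eq_zero_right hc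
  have h1 := W.smul_mem c⁻¹ hW a
  rw [C.ad_smul, hsk, map_inv₀, hcσ, inv_neg, smul_neg, neg_smul, neg_neg, ← add_smul, ha, one_smul, smul_smul,
    mul_inv_cancel₀ hc0, one_smul] at h1
  exact h1

/-- A coefficient which is not a scalar gives all transvections. -/
theorem tvGroup_le {G : Subgroup (GL (Idx k (t + 1)) F)} (hG : C.Over G) (hk : 3 ≤ k) (ht : 1 ≤ t)
    (hL : ¬ C.Losing G) :
    Herm.tvGroup (C.form (Idx k (t + 1))) ≤ G.map (Symp.glEquiv (Idx k (t + 1)) F).toMonoidHom := by
  refine Pencil.tvGroup_le (ten (C := C) hk ht 0) (fun x hx ω hω => ?_) ?_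
  · obtain ⟨Y, rfl⟩ := Matrix.toLin'.surjective ω
    rw [adj_eq hk ht, ← map_neg] at hω
    have hY : C.ad Y = -Y := Matrix.toLin'.injective hω
    rw [lin_eq hk ht, inA_iff]
    have h1 := inJ_of_skew hG hk hL 0 (com_psi 0 Y) (by rw [C.ad_psi, hY, map_neg])
    exact h1.2 x hx
  · rintro _ ⟨g, hg, rfl⟩
    exact C.mem_of_iso (hG.iso g hg)

end Cfsg.Lib.Linear.UWreath.Cj
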