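import Cfsg.Agent.Lib.Linear.UWreath.Rich

/-!
# Roots at all pure vectors

A root with an isotropic component at one factor is conjugated by a product of such roots to one with an
arbitrary component there.
-/

set_option autoImplicit false
set_option linter.unusedSectionVars false
set_option linter.unusedVariables false
set_option linter.unusedSimpArgs false

namespace Cfsg.Lib.Linear.UWreath.Cj

open Cfsg.Geo Cfsg.Lib.Linear.AschGen Cfsg.Lib.Linear.TWreath
open scoped Matrix MatrixGroups

variable {F : Type*} [Field F] [Finite F] {C : Cj F} {k t : ℕ} {G : Subgroup (GL (Idx k t) F)}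

/-- A vector is the sum of two isotropic ones, not orthogonal if the vector is anisotropic. -/
theorem exists_two_iso (hk : 2 ≤ k) {u : Fin k → F} (hu : C.ip u u ≠ 0) :
    ∃ e g : Fin k → F, C.ip e e = 0 ∧ C.ip g g = 0 ∧ u = e + g ∧ C.ip g e ≠ 0 := by
  have K := C.cform (Fin k)
  obtain ⟨v, hv, hv0⟩ : ∃ v ∈ LinearMap.ker (C.form (Fin k) u), v ≠ 0 := by
    refine Submodule.exists_mem_ne_zero_of_ne_bot fun h => ?_
    have h4 := LinearMap.finrank_range_add_finrank_ker (C.form (Fin k) u)
    have h5 := Submodule.finrank_le (LinearMap.range (C.form (Fin k) u))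
    rw [Module.finrank_self] at h5
    rw [h, finrank_bot, Module.finrank_fin_fun] at h4
    omega
  obtain ⟨w', hw'⟩ := K.exists_pairing hv0
  have huv : C.ip u v = 0 := hv
  have hvu : C.ip v u = 0 := K.swap_zero hv
  obtain ⟨w, hw, hww⟩ := K.exists_aniso (LinearMap.ker (C.form (Fin k) u)) hv
    (v := w' - (C.ip u w' / C.ip u u) • u)
    (by rw [LinearMap.mem_ker, map_sub, map_smul, smul_eq_mul, form_apply, form_apply, div_mul_cancel₀ _ hu,
      sub_self])
    (by rw [map_sub, map_smul, form_apply C v u, hvu, smul_zero, sub_zero, hw']; exact one_ne_zero)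
  replace hw : C.ip u w = 0 := hw
  have hwu : C.ip w u = 0 := K.swap_zero hw
  rw [form_apply] at hww
  obtain ⟨a, ha⟩ := C.exists_trace 1 (map_one _)
  have ha0 : a ≠ 0 := fun e => by rw [e, map_zero, add_zero] at ha; exact zero_ne_one ha
  obtain ⟨b, hb⟩ := C.exists_norm (a := -(C.σ a * a * C.ip u u) / C.ip w w)
    (div_ne_zero (neg_ne_zero.2 (mul_ne_zero (mul_ne_zero (C.σ_ne_zero ha0) ha0) hu)) hww)
    (by rw [map_div₀, map_neg, map_mul, map_mul, C.invol, C.ip_swap, C.ip_swap, mul_comm a])
  have hb' : C.σ b * b * C.ip w w = -(C.σ a * a * C.ip u u) := by rw [hb, div_mul_cancel₀ _ hww]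
  set e := a • u + b • w with he
  have hee : C.ip e e = 0 := by
    simp only [he, ip_add_left, ip_add_right, ip_smul_left, ip_smul_right, hw, hwu]
    linear_combination hb'
  have hgg : C.ip (u - e) (u - e) = 0 := by
    have e1 : u - e = (1 - a) • u + (-b) • w := by rw [he]; module
    simp only [e1, ip_add_left, ip_add_right, ip_smul_left, ip_smul_right, hw, hwu, map_sub, map_one, map_neg]
    linear_combination hb' - C.ip u u * ha
  refine ⟨e, u - e, hee, hgg, by abel, fun h => hu ?_⟩
  have h1 : C.ip e (u - e) = 0 := K.swap_zero h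
  rw [show u = e + (u - e) by abel]
  simp only [ip_add_left, ip_add_right, hee, hgg, h, h1, add_zero]

/-- A Hermitian map in the span of isotropic rank one maps with any eigenvalue at an isotropic vector. -/
theorem exists_eigen (hk : 3 ≤ k) {u : Fin k → F} (hu0 : u ≠ 0) (hu : C.ip u u = 0) (η : F) :
    ∃ H ∈ AddSubgroup.closure (C.nr '' {w | C.ip w w = 0}), H *ᵥ u = η • u := by
  obtain ⟨f, z, hf, huf, hfu, huz, hzu, hfz, hzf, hzz⟩ := exists_frame (C := C) hk hu0 hu
  obtain ⟨m, hm⟩ := C.exists_trace ((η + C.σ η) / C.ip z z) (by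
    rw [map_div₀, map_add, C.invol, C.ip_swap, add_comm])
  obtain ⟨ν₁, h1⟩ := C.exists_trace (-(C.σ 1 * 1 * C.ip z z)) (by simp [C.ip_swap])
  obtain ⟨ν₂, h2⟩ := C.exists_trace (-(C.σ m * m * C.ip z z)) (by simp [C.ip_swap, C.invol, mul_comm m])
  have hm' : (m + C.σ m) * C.ip z z = η + C.σ η := by rw [hm, div_mul_cancel₀ _ hzz]
  have h3 : (ν₁ + ν₂ - η) + C.σ (ν₁ + ν₂ - η) = -(C.σ (1 + m) * (1 + m) * C.ip z z) := by
    simp only [map_sub, map_add, map_one] at h1 h2 hm' ⊢
    linear_combination h1 + h2 + hm'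
  have hiso : ∀ μ ν : F, ν + C.σ ν = -(C.σ μ * μ * C.ip z z) →
      C.ip (f + ν • u + μ • z) (f + ν • u + μ • z) = 0 := fun μ ν h => by
    simp only [ip_add_left, ip_add_right, ip_smul_left, ip_smul_right, hf, hu, huf, hfu, huz, hzu, hfz, hzf]
    linear_combination h
  have hmem : ∀ w : Fin k → F, C.ip w w = 0 → C.nr w ∈ AddSubgroup.closure (C.nr '' {w : Fin k → F | C.ip w w = 0}) := fun w hw =>
    AddSubgroup.subset_closure ⟨w, hw, rfl⟩
  refine ⟨C.nr (f + ν₁ • u + (1 : F) • z) + C.nr (f + ν₂ • u + m • z) -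
    C.nr (f + (ν₁ + ν₂ - η) • u + (1 + m) • z) - C.nr f,
    sub_mem (sub_mem (add_mem (hmem _ (hiso _ _ h1)) (hmem _ (hiso _ _ h2))) (hmem _ (hiso _ _ h3))) (hmem f hf), ?_⟩
  simp only [Matrix.sub_mulVec, Matrix.add_mulVec, nr, C.op_mulVec, ip_add_left, ip_smul_left, hu, hfu, hzu]
  simp only [mul_zero, add_zero, one_smul]
  module

theorem ad_closure {V : Set (Fin k → F)} {H : Matrix (Fin k) (Fin k) F}
    (h : H ∈ AddSubgroup.closure (C.nr '' V)) : C.ad H = H := by
  induction h using AddSubgroup.closure_induction with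
  | mem x hx => obtain ⟨w, -, rfl⟩ := hx; exact C.ad_nr w
  | zero => exact C.ad_zero
  | add x y _ _ hx hy => rw [C.ad_add, hx, hy]
  | neg x _ hx => rw [C.ad_neg, hx]

variable (C) in
/-- All roots at pure vectors isotropic outside the given factors. -/
def Q (G : Subgroup (GL (Idx k t) F)) (A : Finset (Fin t)) : Prop :=
  ∀ u : Fin t → Fin k → F, (∀ l, l ∉ A → C.ip (u l) (u l) = 0) → ∀ c : F, c + C.σ c = 0 →
    InM G (1 + c • pts Finset.univ fun l => C.nr (u l))

theorem q_insert (hG : C.Over G) (hk : 3 ≤ k) {A : Finset (Fin t)} (hQ : C.Q G A) {i l : Fin t} (hil : i ≠ l)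
    (hi : i ∉ A) (hl : l ∉ A) : C.Q G (insert l A) := by
  classical
  intro u hu c hc
  by_cases h0 : ∃ m, u m = 0
  · obtain ⟨m, hm⟩ := h0
    rw [pts_eq_zero (Finset.mem_univ m) (by rw [hm, C.nr_zero]), smul_zero, add_zero]
    exact ⟨1, G.one_mem, rfl⟩
  push Not at h0
  by_cases hul : C.ip (u l) (u l) = 0
  · exact hQ u (fun m hm => by
      rcases eq_or_ne m l with rfl | h
      · exact hul
      · exact hu m (by simp [h, hm])) c hc
  obtain ⟨e, g, hee, hgg, hue, hge⟩ := exists_two_iso (C := C) (by omega) hul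
  obtain ⟨ε, hε0, hε⟩ := C.exists_skew
  set O := Finset.univ.erase l with hO
  set R := O.erase i
  set s : Fin t → F := fun m => if C.ip (u m) (u m) = 0 then 1 else C.ip (u m) (u m) with hs
  have hs0 : ∀ m, s m ≠ 0 := fun m => by
    simp only [hs]; split_ifs with h; exacts [one_ne_zero, h]
  set η₀ : F := 1 / (ε * C.ip g e * ∏ m ∈ R, s m) with hη₀
  have hui : C.ip (u i) (u i) = 0 := hu i (by simp [hil, hi])
  set V : Fin t → Set (Fin k → F) := fun m => {w | m ∉ A → C.ip w w = 0} with hV
  have hHex : ∀ m, ∃ H ∈ AddSubgroup.closure (C.nr '' V m),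
      m ≠ l → H *ᵥ u m = (if m = i then η₀ else s m) • u m := fun m => by
    by_cases hml : m = l
    · exact ⟨0, zero_mem _, fun h => absurd hml h⟩
    by_cases hum : C.ip (u m) (u m) = 0
    · obtain ⟨H, hH, hHu⟩ := exists_eigen hk (h0 m) hum (if m = i then η₀ else s m)
      exact ⟨H, AddSubgroup.closure_mono (Set.image_mono fun w (hw : C.ip w w = 0) => fun _ => hw) hH,
        fun _ => hHu⟩
    · have hmi : m ≠ i := fun e => hum (e ▸ hui)
      refine ⟨C.nr (u m), AddSubgroup.subset_closure ⟨u m, fun hm => hu m (by simp [hml, hm]), rfl⟩, fun _ => ?_⟩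
      rw [nr, C.op_mulVec, if_neg hmi]
      simp [hs, hum]
  choose H hH hHu using hHex
  let Z : AddSubgroup (Matrix (Idx k t) (Idx k t) F) :=
    { carrier := {Φ | Com l Φ ∧ InM G (1 + fa l (C.nr g) * Φ)}
      zero_mem' := ⟨fun _ => Commute.zero_right _, by rw [mul_zero, add_zero]; exact ⟨1, G.one_mem, rfl⟩⟩
      add_mem' := fun {a b} ha hb => ⟨ha.1.add hb.1, by
        have h1 := ha.2.mul hb.2
        rw [add_mul, one_mul, mul_add, mul_one, fa_nr_mul ha.1 hgg, add_zero] at h1
        rw [mul_add]
        convert h1 using 1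
        abel⟩
      neg_mem' := fun {a} ha => ⟨by simpa using ha.1.smul (-1 : F), by
        have := ha.2.neg (fa_nr_mul ha.1 hgg _)
        rwa [mul_neg, ← sub_eq_add_neg]⟩ }
  have hZ : ε • pts O H ∈ Z := by
    have key : ∀ D, D ⊆ O → ∀ w : Fin t → Fin k → F, (∀ m, m ∉ A → C.ip (w m) (w m) = 0) →
        ε • pts O (fun m => if m ∈ D then H m else C.nr (w m)) ∈ Z := by
      intro D
      induction D using Finset.induction_on with
      | empty =>
        intro _ w hw
        refine ⟨(com_pts (Finset.notMem_erase l _) _).smul ε, ?_⟩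
        have h1 := hQ (Function.update w l g) (fun m hm => by
          rcases eq_or_ne m l with rfl | h
          · rwa [Function.update_self]
          · rw [Function.update_of_ne h]; exact hw m hm) ε hε
        rw [pts_erase (Finset.mem_univ l), Function.update_self, pts_congr (Y := fun m => C.nr (w m))
          fun j hj => by rw [Function.update_of_ne (Finset.ne_of_mem_erase hj)]] at h1
        rw [mul_smul_comm]
        simpa using h1
      | insert j D hj ih =>
        intro hsub w hw
        have hjO := hsub (Finset.mem_insert_self j D)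
        have hmain : ∀ M ∈ AddSubgroup.closure (C.nr '' V j),
            ε • (fa j M * pts (O.erase j) fun m => if m ∈ D then H m else C.nr (w m)) ∈ Z := by
          intro M hM
          induction hM using AddSubgroup.closure_induction with
          | mem x hx =>
            obtain ⟨v, hv, rfl⟩ := hx
            have h1 := ih (fun m hm => hsub (Finset.mem_insert_of_mem hm)) (Function.update w j v) (fun m hm => by
              rcases eq_or_ne m j with rfl | h
              · rw [Function.update_self]; exact hv hm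
              · rw [Function.update_of_ne h]; exact hw m hm)
            rw [pts_erase hjO, if_neg hj, Function.update_self,
              pts_congr (Y := fun m => if m ∈ D then H m else C.nr (w m))
                fun m hm => by rw [Function.update_of_ne (Finset.ne_of_mem_erase hm)]] at h1
            exact h1
          | zero => rw [map_zero, zero_mul, smul_zero]; exact Z.zero_mem
          | add x y _ _ hx hy => rw [map_add, add_mul, smul_add]; exact Z.add_mem hx hy
          | neg x _ hx => rw [map_neg, neg_mul, smul_neg]; exact Z.neg_mem hx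
        have h1 := hmain (H j) (hH j)
        rw [pts_erase hjO, if_pos (Finset.mem_insert_self j D),
          pts_congr (Y := fun m => if m ∈ D then H m else C.nr (w m))
            fun m hm => by simp [Finset.ne_of_mem_erase hm]]
        exact h1
    have h1 := key O subset_rfl (fun _ => 0) (fun _ _ => C.ip_zero_left 0)
    rwa [pts_congr (Y := H) fun m hm => if_pos hm] at h1
  obtain ⟨-, x, hx, hxv⟩ := hZ
  set U := fun m => C.nr (u m) with hU
  have hTmem : InM G (1 + c • (fa l (C.nr e) * pts O U)) := by
    have h1 := hQ (Function.update u l e) (fun m hm => by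
      rcases eq_or_ne m l with rfl | h
      · rwa [Function.update_self]
      · rw [Function.update_of_ne h]; exact hu m (by simp [h, hm])) c hc
    rw [pts_erase (Finset.mem_univ l), Function.update_self, pts_congr (Y := U)
      fun j hj => by rw [Function.update_of_ne (Finset.ne_of_mem_erase hj)]] at h1
    exact h1
  set η : F := ∏ m ∈ O, (if m = i then η₀ else s m) with hη
  have hηv : ε * C.ip g e * η = 1 := by
    have hiO : i ∈ O := by simp [hO, hil]
    rw [hη, ← Finset.mul_prod_erase O _ hiO, if_pos rfl,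
      Finset.prod_congr rfl (fun m hm => if_neg (Finset.ne_of_mem_erase hm) : ∀ m ∈ O.erase i, _ = s m), hη₀]
    have hp : ∏ m ∈ R, s m ≠ 0 := Finset.prod_ne_zero_iff.2 fun m _ => hs0 m
    field_simp
    rfl
  have hml : ∀ m ∈ O, m ≠ l := fun m hm => Finset.ne_of_mem_erase hm
  have hHU : pts O H * pts O U = η • pts O U := by
    rw [pts_mul, pts_congr (Y := fun m => (if m = i then η₀ else s m) • U m) fun m hm => by
      simp only [hU, nr, C.mul_op]; rw [hHu m (hml m hm), C.op_smul_left], pts_smul]
  have hadH : C.ad (pts O H) = pts O H := by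
    rw [C.ad_pts]; exact pts_congr fun m _ => ad_closure (hH m)
  have hUH : pts O U * pts O H = C.σ η • pts O U := by
    have h1 := congrArg C.ad hHU
    rwa [C.ad_mul, C.ad_smul, hadH, hU, C.ad_pts_nr] at h1
  have hcl : ∀ X : Fin t → Matrix (Fin k) (Fin k) F, Com l (pts O X) := fun X => com_pts (Finset.notMem_erase l _) X
  have hmul : ∀ (a b : Matrix (Fin k) (Fin k) F) (X Y : Fin t → Matrix (Fin k) (Fin k) F),
      fa l a * pts O X * (fa l b * pts O Y) = fa l (a * b) * (pts O X * pts O Y) := fun a b X Y => by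
    rw [mul_assoc, ← mul_assoc (pts O X), ← (hcl X b).eq, mul_assoc (fa l b), ← mul_assoc, ← map_mul]
  set W := fa l (C.nr g) * (ε • pts O H) with hW
  set T := c • (fa l (C.nr e) * pts O U) with hT
  have hσε : C.σ ε = -ε := eq_neg_of_add_eq_zero_right hε
  have hση : -ε * C.ip e g * C.σ η = 1 := by
    have h1 := congrArg C.σ hηv
    rwa [map_mul, map_mul, C.ip_swap, map_one, hσε] at h1
  have hWW : W * W = 0 := fa_nr_mul ((hcl H).smul ε) hgg _
  have hxi : (x⁻¹).val = 1 - W := left_inv_eq_right_inv (Units.inv_mul x) (by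
    rw [hxv, (show ∀ Z : Matrix (Idx k t) (Idx k t) F, (1 + Z) * (1 - Z) = 1 - Z * Z from
      fun Z => by noncomm_ring) W, hWW, sub_zero])
  have hfin := hTmem.conj hx
  rw [map_add, map_one, conjA_apply, hxv, hxi] at hfin
  convert hfin using 2
  have e1 : W * T = (c * (ε * C.ip g e * η)) • (fa l (C.op g e) * pts O U) := by
    rw [hW, hT, mul_smul_comm (ε), smul_mul_smul_comm, hmul, hHU, nr, nr, C.op_mul, map_smul, smul_mul_smul_comm,
      smul_smul]
    congr 1; ring
  have e2 : T * W = -(c * (-ε * C.ip e g * C.σ η)) • (fa l (C.op e g) * pts O U) := by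
    rw [hW, hT, mul_smul_comm (ε), smul_mul_smul_comm, hmul, hUH, nr, nr, C.op_mul, map_smul, smul_mul_smul_comm,
      smul_smul]
    congr 1; ring
  have e3 : W * T * W = -(c * (ε * C.ip g e * η) * (-ε * C.ip e g * C.σ η)) • (fa l (C.nr g) * pts O U) := by
    rw [e1, hW, mul_smul_comm (ε), smul_mul_smul_comm, hmul, hUH, nr, C.op_mul, map_smul, smul_mul_smul_comm,
      smul_smul]
    congr 1; ring
  simp only [add_mul, mul_sub, one_mul, mul_one]
  rw [e2, e3, e1, hηv, hση, hT, pts_erase (Finset.mem_univ l)]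
  show c • (fa l (C.nr (u l)) * pts O U) = _
  rw [hue, nr, C.op_add_left, C.op_add_right, C.op_add_right, map_add, map_add, map_add, add_mul, add_mul, add_mul]
  simp only [nr]
  module

/-- All roots at pure vectors isotropic at one factor. -/
theorem q_erase (hG : C.Over G) (hk : 3 ≤ k) (hL : ¬ C.Losing G) (i : Fin t) :
    C.Q G (Finset.univ.erase i) := by
  classical
  have h0 := pow_univ hG hk hL
  suffices key : ∀ A : Finset (Fin t), i ∉ A → C.Q G A from key _ (Finset.notMem_erase i _)
  intro A
  induction A using Finset.induction_on with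
  | empty => exact fun _ u hu c hc => h0 u (fun l _ => hu l (Finset.notMem_empty l)) c hc
  | insert l A hl ih =>
    intro hi
    rw [Finset.mem_insert, not_or] at hi
    exact q_insert hG hk (ih hi.2) hi.1 hi.2 hl

end Cfsg.Lib.Linear.UWreath.Cj
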