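import Cfsg.Agent.Lib.Linear.UWreath.Classify
import Cfsg.Agent.Lib.Linear.UWreath.Slot
import Cfsg.Agent.Lib.Linear.TWreath.Pair

/-!
# Odd characteristic

A root and a conjugate outside the stabiliser give a central involution in one factor; then the
conjugate fixes a slab of some isotropic vector.
-/

set_option autoImplicit false
set_option linter.unusedSectionVars false
set_option linter.unusedVariables false

namespace Cfsg.Lib.Linear.UWreath.Cj

open Cfsg.Geo Cfsg.Lib.Linear.AschGen Cfsg.Lib.Linear.TWreath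
open Cfsg.Lib.Linear.OOTensor (opHom opHom_apply)
open scoped Matrix MatrixGroups

variable {F : Type*} [Field F] [Finite F] {C : Cj F} {k t : ℕ}

theorem exists_orth (C : Cj F) (hk : 3 ≤ k) (x : Fin k → F) :
    ∃ r : Fin k → F, C.ip x r = 0 ∧ r ∉ Submodule.span F {x} := by
  have h4 := LinearMap.finrank_range_add_finrank_ker (C.form (Fin k) x)
  have h5 := Submodule.finrank_le (LinearMap.range (C.form (Fin k) x))
  rw [Module.finrank_self] at h5
  rw [Module.finrank_fin_fun] at h4
  have h6 : Module.finrank F (Submodule.span F ({x} : Set (Fin k → F))) ≤ 1 := by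
    simpa using finrank_span_le_card ({x} : Set (Fin k → F))
  by_contra h
  push Not at h
  have := Submodule.finrank_mono (s := LinearMap.ker (C.form (Fin k) x)) (t := Submodule.span F {x})
    fun r hr => h r hr
  omega

variable {G : Subgroup (GL (Idx k (t + 1)) F)}

theorem IsRtD.skew (K : C.Ctx G) {x : GL (Idx k (t + 1)) F} (h : C.IsRtD G x) :
    C.ad (x.val - 1) = -(x.val - 1) :=
  K.hov.inM_skew ⟨x, h.mem K.hov, by abel⟩ (h.sq_zero K.hk)

/-- Every isotropic vector is orthogonal to a vector whose slab the moved element fixes. -/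
theorem Ctx.odd_key (K : C.Ctx G) (h2 : (2 : F) ≠ 0) {b : GL (Idx k (t + 1)) F} (hb : C.IsRtD G b)
    (hbm : b ∉ mst k (t + 1) F) {x : Fin k → F} (hx0 : x ≠ 0) (hx : C.ip x x = 0) :
    ∃ w : Fin k → F, w ≠ 0 ∧ C.ip x w = 0 ∧ ∀ y, (b.val - 1) * fa (0 : Fin (t + 1)) (C.op w y) = 0 := by
  classical
  have hm := K.hk
  have hk0 : 0 < k := by omega
  obtain ⟨p, hp⟩ := CharP.exists F
  have : Fact p.Prime := ⟨CharP.char_is_prime F p⟩
  set i : Fin (t + 1) := 0
  obtain ⟨c, hc0, hc⟩ := C.exists_skew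
  set s := fu i (C.tv x c hx) with hs
  have hsval : s.val = 1 + c • fa i (C.nr x) := by rw [hs, fu_val, tv_val, map_add, map_one, map_smul]
  have hsR : C.IsRoot s i := ⟨x, c, hx0, hx, hc, hc0, hsval⟩
  have hnp : ¬ IsPGroup p (Subgroup.closure {s, b} : Subgroup (GL (Idx k (t + 1)) F)) :=
    fun h => hbm (K.not_pgroup p hsR hb h)
  set N0 : Matrix (Idx k (t + 1)) (Idx k (t + 1)) F := fa i (c • C.nr x) with hN0
  have hsN : s.val - 1 = N0 := by rw [hsval, hN0, map_smul, add_sub_cancel_left]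
  obtain ⟨hbsq, hbrk⟩ := isD_facts hm (hb.isD hm)
  set n := b.val - 1 with hn
  have hrk : n.rank = N0.rank := by
    rw [← hsN, hbrk i (p0 hm), ((isD_facts hm ((hsR.isRtD (G := G)).isD hm)).2 i (p0 hm))]
  let e := (Matrix.toLinAlgEquiv' : Matrix (Idx k (t + 1)) (Idx k (t + 1)) F ≃ₐ[F] _)
  have hopM : opHom s - 1 = e N0 := by rw [opHom_eq, ← hsN, map_sub, map_one]
  have hopN : opHom b - 1 = e n := by rw [opHom_eq, hn, map_sub, map_one]
  have hN00 : N0 * N0 = 0 := by
    rw [hN0, ← map_mul, smul_mul_smul_comm, C.nr_mul_self hx, smul_zero, map_zero]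
  obtain ⟨zz, hzH, hzz, hz1, hzs, hzb, R, hRs, hRb, hzR⟩ := Pair.exists_central_involution h2 p
    (a := s) (b := b) (by rw [hopM, ← map_mul, hN00, map_zero]) (by rw [hopN, ← map_mul, hbsq, map_zero]) hnp
  set Rm := e.symm R with hRm
  rw [hopM] at hRs hzR
  rw [hopN] at hRb hzR
  have hRN0 : Rm * N0 = N0 * Rm := e.injective (by rw [map_mul, map_mul, hRm, e.apply_symm_apply]; exact hRs.eq)
  have hzT : zz.val - 1 = Rm * (N0 * n + n * N0) := e.injective (by
    rw [map_sub, map_one, ← opHom_eq, hzR]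
    simp only [map_mul, map_add, hRm, e.apply_symm_apply])
  have hzG : zz ∈ G := (Subgroup.closure_le _).2 (Set.insert_subset (hsR.mem K.hov)
    (Set.singleton_subset_iff.2 (hb.mem K.hov))) hzH
  have hzN : zz.val * N0 = N0 * zz.val := by
    have := congrArg Units.val hzs
    rw [Units.val_mul, Units.val_mul] at this
    rw [← hsN, mul_sub, sub_mul, this, one_mul, mul_one]
  have hzn : zz.val * n = n * zz.val := by
    have := congrArg Units.val hzb
    rw [Units.val_mul, Units.val_mul] at this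
    rw [hn, mul_sub, sub_mul, this, one_mul, mul_one]
  -- the component at the slot
  obtain ⟨σ, hσ⟩ := K.cent_tv hzG hsR hzs
  obtain ⟨a, ha⟩ := hσ i
  have ha1 := ha (c • C.nr x)
  rw [conjA_apply, ← hN0, hzN, mul_assoc, Units.mul_inv, mul_one] at ha1
  have hcnr : c • C.nr x ≠ 0 := smul_ne_zero hc0 (C.nr_ne_zero hx0)
  have hσi : σ i = i := by
    by_contra hne
    obtain ⟨d, hd⟩ := eq_of_fa_eq hk0 (Ne.symm hne) ha1
    have h1 := congrArg (fun M => M * M) hd
    simp only [smul_mul_smul_comm, C.nr_mul_self hx, smul_zero, one_mul] at h1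
    have : Nonempty (Fin k) := ⟨p0 hm⟩
    rw [mul_self_eq_zero.1 ((smul_eq_zero.1 h1.symm).resolve_right one_ne_zero), zero_smul] at hd
    exact hcnr hd
  rw [hσi] at ha
  obtain ⟨a', haI, ha'⟩ := C.exists_iso_acts hk0 (K.hov.iso zz hzG) ha
  have hfix : C.nr (a'.val *ᵥ x) = C.nr x := by
    have h1 := ha' (c • C.nr x)
    rw [conjA_apply, ← hN0, hzN, mul_assoc, Units.mul_inv, mul_one] at h1
    have h3 := fa_injective hk0 i h1
    rw [map_smul, C.conjA_nr haI] at h3
    exact (smul_right_injective _ hc0 h3).symm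
  obtain ⟨y, -, hxy, hyx⟩ := C.exists_partner hx0 hx
  set α := C.ip (a'.val *ᵥ x) y with hαdef
  have hxα : α • (a'.val *ᵥ x) = x := by
    have h1 := congrArg (· *ᵥ y) hfix
    simpa only [Cj.nr, C.op_mulVec, hxy, one_smul] using h1
  have hα0 : α ≠ 0 := fun e => hx0 (by rw [← hxα, e, zero_smul])
  have hαN : C.σ α * α = 1 := by
    have h1 : C.nr x = (C.σ α * α) • C.nr x := by
      conv_lhs => rw [← hxα, C.nr_smul, hfix]
    by_contra hne
    have h3 : (C.σ α * α - 1) • C.nr x = 0 := by rw [sub_smul, one_smul, ← h1, sub_self]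
    exact C.nr_ne_zero hx0 ((smul_eq_zero.1 h3).resolve_left (sub_ne_zero.2 hne))
  let A : GL (Fin k) F := ⟨α • a'.val, α⁻¹ • (a'⁻¹).val,
    by rw [smul_mul_smul_comm, mul_inv_cancel₀ hα0, one_smul, Units.mul_inv],
    by rw [smul_mul_smul_comm, inv_mul_cancel₀ hα0, one_smul, Units.inv_mul]⟩
  have hAI : C.Iso A.val := by
    show C.ad (α • a'.val) * (α • a'.val) = 1
    rw [C.ad_smul, smul_mul_smul_comm, hαN, one_smul]
    exact haI
  have hA : Acts zz i i A := fun X => by
    rw [ha' X]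
    congr 1
    show a'.val * X * (a'⁻¹).val = (α • a'.val) * X * (α⁻¹ • (a'⁻¹).val)
    rw [smul_mul_assoc, smul_mul_smul_comm, mul_inv_cancel₀ hα0, one_smul]
  have hAx : A.val *ᵥ x = x := by
    show (α • a'.val) *ᵥ x = x
    rw [Matrix.smul_mulVec, hxα]
  obtain ⟨P, hP⟩ := exists_split hk0 hA
  clear_value A
  set W := psi i P.val with hW
  have hWc : Com i W := com_psi i _
  have hzval : zz.val = fa i A.val * W := by rw [hP, Units.val_mul, fu_val, psiU_val]
  have hsq : fa i (A.val * A.val) * (W * W) = 1 := by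
    have h1 := congrArg Units.val hzz
    rw [Units.val_mul, Units.val_one, hzval, mul_assoc, ← mul_assoc W, ← (hWc A.val).eq, mul_assoc,
      ← mul_assoc, ← map_mul] at h1
    exact h1
  have hWW : W * W = 1 := by
    refine (sub_eq_zero.1 (eq_zero_of_fa_mul (i := i) (C.nr_ne_zero hx0) ((com_one i).sub (hWc.mul hWc)) ?_)).symm
    have h1 := congrArg (· * fa i (C.nr x)) hsq
    simp only [one_mul, mul_assoc] at h1
    rw [← mul_assoc W W, ← ((hWc.mul hWc) _).eq, ← mul_assoc, ← map_mul, Cj.nr, mul_assoc A.val, C.mul_op, C.mul_op,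
      hAx, hAx] at h1
    rw [mul_sub, mul_one, Cj.nr, h1, sub_self]
  have hAA : A.val * A.val = 1 := fa_injective hk0 i (by rw [map_one, ← hsq, hWW, mul_one])
  -- eigenvectors for `-1` killed by the root lie in its line
  have hkey : ∀ X, zz.val * X = -X → N0 * X = 0 → fa i (C.op x y) * X = X := by
    intro X h1 h3
    have h4 : (zz.val - 1) * X = Rm * (N0 * n + n * N0) * X := by rw [hzT]
    rw [sub_mul, h1, one_mul, mul_add, add_mul, mul_assoc Rm (n * N0), mul_assoc n, h3, mul_zero, mul_zero,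
      add_zero, ← mul_assoc Rm, hRN0, mul_assoc N0, mul_assoc N0] at h4
    have h5 : X = (-(2 : F)⁻¹) • (N0 * (Rm * n * X)) := by
      rw [← h4, show -X - X = -((2 : F) • X) by rw [two_smul]; abel, smul_neg, neg_smul, neg_neg, smul_smul,
        inv_mul_cancel₀ h2, one_smul]
    rw [h5, mul_smul_comm, hN0, ← mul_assoc, ← map_mul, mul_smul_comm, Cj.nr, C.op_mul, hyx, one_smul]
  have hline : ∀ (u : Fin k → F) (Φ : Matrix (Idx k (t + 1)) (Idx k (t + 1)) F), Com i Φ →
      C.ip x u = 0 → zz.val * (fa i (C.op u y) * Φ) = -(fa i (C.op u y) * Φ) →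
      u ∉ Submodule.span F {x} → Φ = 0 := by
    intro u Φ hΦ hxu h1 hu
    have h3 : N0 * (fa i (C.op u y) * Φ) = 0 := by
      rw [hN0, ← mul_assoc, ← map_mul, smul_mul_assoc, Cj.nr, C.op_mul, hxu, zero_smul, smul_zero, map_zero, zero_mul]
    have h4 := hkey _ h1 h3
    rw [← mul_assoc, ← map_mul, C.op_mul, ← C.op_smul_left] at h4
    refine eq_zero_of_fa_mul (i := i) (X := C.op (u - C.ip y u • x) y)
      (C.op_ne_zero (sub_ne_zero.2 fun e => hu (e ▸ Submodule.smul_mem _ _ (Submodule.mem_span_singleton_self x)))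
        fun e => zero_ne_one (α := F) (by rw [← hxy, e, C.ip_zero_right])) hΦ ?_
    rw [sub_eq_add_neg, C.op_add_left, ← neg_one_smul F (C.ip y u • x), C.op_smul_left, map_add, map_smul, add_mul,
      smul_mul_assoc, h4, neg_one_smul, add_neg_cancel]
  have hAip : ∀ u, C.ip x (A.val *ᵥ u) = C.ip x u := fun u => by
    conv_lhs => rw [← hAx]
    exact C.ip_iso hAI x u
  obtain ⟨r, hxr, hrx⟩ := exists_orth C hm x
  obtain ⟨ε, hεε, hWε⟩ : ∃ ε : F, ε * ε = 1 ∧ W = ε • 1 := by
    have hsigned : ∀ ε : F, ε * ε = 1 → r + ε • A.val *ᵥ r ∉ Submodule.span F {x} → W = ε • 1 := by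
      intro ε hε hu
      set u := r + ε • A.val *ᵥ r with hud
      have hAu : A.val *ᵥ u = ε • u := by
        rw [hud, Matrix.mulVec_add, Matrix.mulVec_smul, Matrix.mulVec_mulVec _ A.val, hAA, Matrix.one_mulVec,
          smul_add, smul_smul, hε, one_smul, add_comm]
      have h1 := hline u (1 - ε • W) ((com_one i).sub (hWc.smul ε))
        (by rw [hud, C.ip_add_right, C.ip_smul_right, hAip, hxr, mul_zero, add_zero]) (by
          have hzY : zz.val * fa i (C.op u y) = ε • (fa i (C.op u y) * W) := by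
            rw [hzval, mul_assoc, ← (hWc _).eq, ← mul_assoc, ← map_mul, C.mul_op, hAu, C.op_smul_left,
              map_smul, smul_mul_assoc]
          rw [← mul_assoc, hzY, smul_mul_assoc, mul_assoc, mul_sub W, mul_one, mul_smul_comm, hWW, ← mul_smul_comm,
            ← mul_neg, smul_sub, smul_smul ε ε, hε, one_smul, neg_sub]) hu
      rw [sub_eq_zero] at h1
      rw [h1, smul_smul, hε, one_smul]
    by_cases h : r + (1 : F) • A.val *ᵥ r ∈ Submodule.span F {x}
    · refine ⟨-1, by ring, hsigned (-1) (by ring) fun h' => hrx ?_⟩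
      have h3 := Submodule.smul_mem (Submodule.span F {x}) (2 : F)⁻¹ (add_mem h h')
      rwa [show (2 : F)⁻¹ • ((r + (1 : F) • A.val *ᵥ r) + (r + (-1 : F) • A.val *ᵥ r)) = r by
        rw [show r + (1 : F) • A.val *ᵥ r + (r + (-1 : F) • A.val *ᵥ r) = (2 : F) • r by module, smul_smul,
          inv_mul_cancel₀ h2, one_smul]] at h3
    · exact ⟨1, by ring, hsigned 1 (by ring) h⟩
  set A' := ε • A.val with hA'
  have hzA : zz.val = fa i A' := by rw [hzval, hWε, hA', map_smul, mul_smul_comm, mul_one]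
  have hA'A : A' * A' = 1 := by rw [hA', smul_mul_smul_comm, hεε, one_smul, hAA]
  have hA'x : A' *ᵥ x = ε • x := by rw [hA', Matrix.smul_mulVec, hAx]
  have hA'ip : ∀ u, C.ip x (A' *ᵥ u) = ε * C.ip x u := fun u => by
    rw [hA', Matrix.smul_mulVec, C.ip_smul_right, hAip]
  have hline' : ∀ u, A' *ᵥ u = -u → C.ip x u = 0 → u ∈ Submodule.span F {x} := by
    intro u hu hxu
    by_contra hux
    have : Nonempty (Fin k) := ⟨p0 hm⟩
    exact one_ne_zero (α := Matrix (Idx k (t + 1)) (Idx k (t + 1)) F) (hline u 1 (com_one i) hxu (by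
      rw [mul_one, hzA, ← map_mul, C.mul_op, hu, ← neg_one_smul F u, C.op_smul_left, map_smul, neg_one_smul]) hux)
  have hε : ε = -1 := by
    rcases mul_self_eq_one_iff.1 hεε with h | h
    swap
    · exact h
    exfalso
    refine hz1 (Units.ext ?_)
    rw [hzA, Units.val_one, ← map_one (fa i)]
    congr 1
    refine Matrix.toLin'.injective (LinearMap.ext fun q => ?_)
    simp only [Matrix.toLin'_apply, Matrix.one_mulVec]
    set v := q - A' *ᵥ q with hv
    have hAv : A' *ᵥ v = -v := by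
      rw [hv, Matrix.mulVec_sub, Matrix.mulVec_mulVec _ A', hA'A, Matrix.one_mulVec, neg_sub]
    obtain ⟨d, hd⟩ := Submodule.mem_span_singleton.1 (hline' v hAv
      (by rw [hv, sub_eq_add_neg, C.ip_add_right, ← neg_one_smul F (A' *ᵥ q), C.ip_smul_right, hA'ip, h]; ring))
    have h3 : A' *ᵥ v = v := by rw [← hd, Matrix.mulVec_smul, hA'x, h, one_smul]
    have h4 : (2 : F) • v = 0 := by
      rw [two_smul]
      exact eq_neg_iff_add_eq_zero.1 (h3.symm.trans hAv)
    exact (sub_eq_zero.1 ((smul_eq_zero.1 h4).resolve_left h2)).symm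
  set w := r + A' *ᵥ r with hw
  have hxw : C.ip x w = 0 := by rw [hw, C.ip_add_right, hA'ip, hxr, mul_zero, add_zero]
  have hw0 : w ≠ 0 := fun h => hrx (hline' r (eq_neg_of_add_eq_zero_right h) hxr)
  have hAw : A' *ᵥ w = w := by
    rw [hw, Matrix.mulVec_add, Matrix.mulVec_mulVec _ A', hA'A, Matrix.one_mulVec, add_comm]
  have hzz' : zz.val * zz.val = 1 := by rw [← Units.val_mul, hzz, Units.val_one]
  set Pm := 1 - zz.val with hPm
  have hN0P : N0 * Pm = (2 : F) • N0 := by
    have h1 : zz.val * N0 = -N0 := by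
      rw [hzA, hN0, ← map_mul, mul_smul_comm, Cj.nr, C.mul_op, hA'x, hε, C.op_smul_left, smul_comm, neg_one_smul,
        map_neg]
    rw [hPm, mul_sub, mul_one, ← hzN, h1, sub_neg_eq_add, two_smul]
  have hzP : (zz.val - 1) * Pm = (-(2 : F)) • Pm := by
    rw [neg_smul, two_smul, hPm]
    simp only [sub_mul, mul_sub, mul_one, one_mul, hzz']
    abel
  have hrk' : N0.rank ≤ (n * Pm).rank := by
    have h1 : Rm * N0 * (n * Pm) * N0 = (-(2 : F)) • (N0 * Pm) := by
      rw [← mul_smul_comm, ← hzP, hzT]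
      have hPN : Pm * N0 = N0 * Pm := by rw [hPm, sub_mul, mul_sub, one_mul, mul_one, hzN]
      simp only [mul_add, add_mul, mul_assoc, hPN]
      rw [← mul_assoc N0 Rm, ← hRN0, mul_assoc, ← mul_assoc N0 Rm, ← hRN0, mul_assoc, ← mul_assoc N0 N0 (n * Pm),
        hN00, zero_mul, mul_zero, zero_add]
    rw [hN0P, smul_smul] at h1
    have h3 : N0 = (-(2 : F) * 2)⁻¹ • (Rm * N0 * (n * Pm) * N0) := by
      rw [h1, smul_smul, inv_mul_cancel₀ (mul_ne_zero (neg_ne_zero.2 h2) h2), one_smul]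
    conv_lhs => rw [h3]
    rw [← Matrix.mul_smul]
    exact (Matrix.rank_mul_le_left _ _).trans (Matrix.rank_mul_le_right _ _)
  have hPn : (1 + zz.val) * n = 0 := by
    by_contra hne
    have h0 : (1 + zz.val) * (n * Pm) = 0 := by
      rw [← mul_assoc, show (1 + zz.val) * n = n * (1 + zz.val) by rw [add_mul, mul_add, one_mul, mul_one, hzn],
        mul_assoc, hPm, show (1 + zz.val) * (1 - zz.val) = 1 - zz.val * zz.val by noncomm_ring, hzz', sub_self,
        mul_zero]
    have := rank_lt h0 hne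
    omega
  refine ⟨w, hw0, hxw, fun z => ?_⟩
  have h3 : (1 + zz.val) * fa i (C.op w z) = (2 : F) • fa i (C.op w z) := by
    rw [add_mul, one_mul, hzA, ← map_mul, C.mul_op, hAw, two_smul]
  have h4 := congrArg (n * ·) h3
  simp only [← mul_assoc, mul_smul_comm] at h4
  rw [show n * (1 + zz.val) = (1 + zz.val) * n by rw [add_mul, mul_add, one_mul, mul_one, hzn], hPn, zero_mul] at h4
  exact (smul_eq_zero.1 h4.symm).resolve_left h2

/-- The vectors whose slab the element fixes. -/
def fixed (C : Cj F) (n : Matrix (Idx k (t + 1)) (Idx k (t + 1)) F) : Submodule F (Fin k → F) where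
  carrier := {w | ∀ y, n * fa (0 : Fin (t + 1)) (C.op w y) = 0}
  add_mem' {v w} hv hw y := by rw [C.op_add_left, map_add, mul_add, hv, hw, add_zero]
  zero_mem' y := by rw [C.op_zero_left, map_zero, mul_zero]
  smul_mem' c v hv y := by rw [C.op_smul_left, map_smul, mul_smul_comm, hv, smul_zero]

/-- In odd characteristic nothing is moved. -/
theorem Ctx.odd_false (K : C.Ctx G) (h2 : (2 : F) ≠ 0) {b : GL (Idx k (t + 1)) F} (hb : C.IsRtD G b)
    (hbm : b ∉ mst k (t + 1) F) : False := by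
  classical
  have hk2 : 2 ≤ k := le_trans (by omega) K.hk
  set n := b.val - 1 with hn
  have hiso : ∀ u : Fin k → F, u ≠ 0 → C.ip u u = 0 → u ∈ C.fixed n → False := fun u hu0 hu huK => by
    obtain ⟨c, hc0, hc⟩ := C.exists_skew
    set r := fu (0 : Fin (t + 1)) (C.tv u c hu) with hr
    have hrR : C.IsRoot r 0 := ⟨u, c, hu0, hu, hc, hc0, by rw [hr, fu_val, tv_val, map_add, map_one, map_smul]⟩
    have h1 : n * fa (0 : Fin (t + 1)) (C.nr u) = 0 := huK u
    have h3 : fa (0 : Fin (t + 1)) (C.nr u) * n = 0 := by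
      have h4 := congrArg C.ad h1
      rw [C.ad_mul, C.ad_fa, C.ad_nr, C.ad_zero, hn, hb.skew K, ← hn, mul_neg, neg_eq_zero] at h4
      exact h4
    refine hbm (K.cent_tv (hb.mem K.hov) hrR (commute_val ?_))
    rw [show b.val = 1 + n by rw [hn]; abel, hr, fu_val, tv_val, map_add, map_one, map_smul]
    exact (Commute.one_left _).add_left ((Commute.one_right _).add_right
      (by show _ = _; rw [mul_smul_comm, smul_mul_assoc, h1, h3]))
  have hdim : ∀ w₀ ∈ C.fixed n, w₀ ≠ 0 → ∀ w ∈ C.fixed n, ∃ c : F, c • w₀ = w := by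
    intro w₀ hw₀ hw₀0 w hw
    refine Submodule.mem_span_singleton.1 ?_
    by_contra hnot
    have h2le : 2 ≤ Module.finrank F (C.fixed n) := by
      by_contra hlt
      have hle : Submodule.span F {w₀} ≤ C.fixed n := (Submodule.span_singleton_le_iff_mem _ _).2 hw₀
      exact hnot ((Submodule.eq_of_le_of_finrank_le hle (by rw [finrank_span_singleton hw₀0]; omega)).symm ▸ hw)
    obtain ⟨u, huK, hu0, hu⟩ := Herm.exists_iso_ne_zero C.ne_id C.invol C.form_symm _ h2le
    exact hiso u hu0 hu huK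
  obtain ⟨x, hx0, hx⟩ := C.exists_isotropic hk2
  obtain ⟨w₀, hw₀0, -, hw₀⟩ := K.odd_key h2 hb hbm hx0 hx
  by_cases hww : C.ip w₀ w₀ = 0
  · exact hiso w₀ hw₀0 hww hw₀
  obtain ⟨e, g, he, hg, hwe, hge⟩ := exists_two_iso hk2 hww
  have he0 : e ≠ 0 := fun h => hge (by rw [h, C.ip_zero_right])
  obtain ⟨w, hw0, hew, hwK⟩ := K.odd_key h2 hb hbm he0 he
  obtain ⟨c, rfl⟩ := hdim w₀ hw₀ hw₀0 w hwK
  have hc : c ≠ 0 := fun h => hw0 (by rw [h, zero_smul])
  rw [C.ip_smul_right, hwe, C.ip_add_right, he, zero_add, mul_eq_zero] at hew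
  exact hge (by rw [← C.ip_swap, hew.resolve_left hc, map_zero])

end Cfsg.Lib.Linear.UWreath.Cj
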