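import Cfsg.Agent.Lib.Linear.UWreath.Cut
import Cfsg.Agent.Lib.Linear.UWreath.Odd
import Cfsg.Agent.Lib.Linear.UWreath.EvenMain
import Cfsg.Agent.Lib.Linear.UWreath.Gen
import Cfsg.Agent.Lib.Linear.AschSp.TensorPow
import Cfsg.Agent.Lib.Linear.HermStandard
import Cfsg.Agent.Lib.Linear.UnitaryGen
import Cfsg.Agent.Lib.Spec.UnitaryThreeSinger

/-!
# The stabiliser of a unitary tensor power decomposition is maximal in the special unitary group
-/

set_option autoImplicit false
set_option linter.unusedSectionVars false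
set_option linter.unusedVariables false

namespace Cfsg.Lib.Linear.UWreath.Cj

open Cfsg.Geo Cfsg.Lib.Linear.AschGen Cfsg.Lib.Linear.TWreath
open scoped Matrix MatrixGroups

theorem mem_mst_one {F : Type*} [Field F] {k : ℕ} (hk : 0 < k) (g : GL (Idx k 1) F) : g ∈ mst k 1 F := by
  have htop : (fa (F := F) (m := k) (0 : Fin 1)).range = ⊤ := eq_top_of_fa_mem fun l X => by
    rw [Subsingleton.elim l 0]; exact ⟨X, rfl⟩
  refine ⟨1, fun l => ?_⟩
  obtain rfl : l = 0 := Subsingleton.elim l 0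
  refine exists_acts hk fun X => ?_
  obtain ⟨Y, hY⟩ : conjA g (fa 0 X) ∈ (fa (F := F) (m := k) (0 : Fin 1)).range := htop ▸ Algebra.mem_top
  exact ⟨Y, hY.symm⟩

/-- Without non-scalar coefficients every element permutes the factors. -/
theorem le_mst {F : Type*} [Field F] [Finite F] {C : Cj F} {k : ℕ} (hk : 3 ≤ k)
    (hex : (∃ a : F, a ≠ 0 ∧ C.σ a * a ≠ 1) ∨ 4 ≤ k) :
    ∀ (t : ℕ) (G : Subgroup (GL (Idx k (t + 1)) F)), C.Over G → C.Losing G → G ≤ mst k (t + 1) F := by
  intro t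
  induction t with
  | zero => exact fun G _ _ x _ => mem_mst_one (by omega) x
  | succ t ih =>
    intro G hG hR x hx
    have K : C.Ctx G := ⟨hk, Nat.succ_pos t, hex, hG, hR, fun _ y hy i a ha =>
      mem_mst_of_icut hG (by omega)
        (ih _ (icut_over hG (by omega) i) (icut_losing hk (Nat.succ_pos t) hex hG hR i)) hy ha⟩
    by_contra hxm
    obtain ⟨b, hb, hbm⟩ := K.exists_moved hx hxm
    by_cases h2 : (2 : F) = 0
    · exact even_false K h2 hb hbm
    · exact K.odd_false h2 hb hbm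

/-- An isometry of determinant one not permuting the factors. -/
theorem exists_not_mem {F : Type*} [Field F] [Finite F] (C : Cj F) {k t : ℕ} (hk : 3 ≤ k) (ht : 2 ≤ t) :
    ∃ u : GL (Idx k t) F, C.Iso u.val ∧ u.val.det = 1 ∧ u ∉ mst k t F := by
  classical
  obtain ⟨μ, hμ⟩ := C.exists_norm (a := (-1 : F)) (by simp) (by simp)
  have hμ0 : μ ≠ 0 := fun e => by rw [e, mul_zero] at hμ; exact one_ne_zero (neg_eq_zero.1 hμ.symm)
  obtain ⟨c, hc0, hc⟩ := C.exists_skew
  set z0 := p0 hk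
  set z1 := p1 hk
  set z2 : Fin k := ⟨2, by omega⟩ with hz2
  have h01' : z0 ≠ z1 := h01 hk
  have h02 : z0 ≠ z2 := by simp [z0, p0, hz2]
  have h12 : z1 ≠ z2 := by simp [z1, p1, hz2]
  set i0 : Fin t := ⟨0, by omega⟩ with hi0
  set i1 : Fin t := ⟨1, by omega⟩ with hi1
  have hii : i0 ≠ i1 := by simp [hi0, hi1]
  set x : Idx k t := fun _ => z0 with hx
  set y : Idx k t := fun _ => z1 with hy
  have hxy : x ≠ y := fun h => h01' (congrFun h i0)
  set w : Idx k t → F := Pi.single x 1 + Pi.single y μ with hw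
  have hwx : w x = 1 := by simp [hw, hxy]
  have hwy : w y = μ := by simp [hw, Ne.symm hxy]
  have hww : C.ip w w = 0 := by
    have h1 : ∀ (a : Idx k t) (r : F) (v : Idx k t → F), C.ip (Pi.single a r) v = C.σ r * v a := fun a r v => by
      rw [show (Pi.single a r : Idx k t → F) = r • Pi.single a 1 by rw [← Pi.single_smul, smul_eq_mul, mul_one],
        C.ip_smul_left, C.ip_single]
    rw [show C.ip w w = C.ip (Pi.single x 1) w + C.ip (Pi.single y μ) w by rw [← C.ip_add_left, ← hw], h1, h1,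
      hwx, hwy, map_one]
    linear_combination hμ
  set u := C.tv w c hww with hu
  have hdet : u.val.det = 1 := by
    rw [hu, tv_val, nr, op, ← Matrix.smul_vecMulVec, Matrix.vecMulVec_eq Unit,
      Matrix.det_one_add_replicateCol_mul_replicateRow, dotProduct_smul]
    show 1 + c • (C.ip w w) = 1
    rw [hww, smul_zero, add_zero]
  refine ⟨u, C.iso_tv w hc hww, hdet, fun ⟨s, hs⟩ => ?_⟩
  obtain ⟨a, ha⟩ := hs i0
  set l := s i0
  set D : Matrix (Idx k t) (Idx k t) F := Matrix.diagonal fun z => if z i0 = z0 then (1 : F) else 0 with hD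
  set Y := conjA a (sg z0 z0) with hY
  have hYu : u.val * D = fa l Y * u.val := by
    have h1 := ha (sg z0 z0)
    rw [fa_sg_diag, conjA_apply, ← hD, ← hY] at h1
    rw [← h1, mul_assoc, Units.inv_mul, mul_one]
  have hR : ∀ p q, (fa l Y * u.val) p q = fa l Y p q + c * ((fa l Y *ᵥ w) p * C.σ (w q)) := fun p q => by
    rw [hu, tv_val, mul_add, mul_one, Matrix.mul_smul, nr, C.mul_op]
    rfl
  have hLft : ∀ p q, (u.val * D) p q = ((1 : Matrix (Idx k t) (Idx k t) F) p q + c * (w p * C.σ (w q))) *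
      (if q i0 = z0 then (1 : F) else 0) := fun p q => by
    rw [hD, Matrix.mul_diagonal]
    rfl
  obtain ⟨i', hi'⟩ : ∃ i', i' ≠ l := by
    rcases eq_or_ne i0 l with e | e
    · exact ⟨i1, by rw [← e]; exact hii.symm⟩
    · exact ⟨i0, e⟩
  have hoff : ∀ (M : Matrix (Fin k) (Fin k) F) (p q : Idx k t), p i' ≠ q i' → fa l M p q = 0 := fun M p q h => by
    rw [fa_apply, powStd_apply, if_neg fun h' => h (h' i' hi')]
  have hdiag : ∀ (M : Matrix (Fin k) (Fin k) F) (p : Idx k t), fa l M p p = M (p l) (p l) := fun M p => by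
    rw [fa_apply, powStd_apply, if_pos fun _ _ => rfl]
  have hYw : ∀ p : Idx k t, (fa l Y *ᵥ w) p = fa l Y p x + fa l Y p y * μ := fun p => by
    rw [hw, Matrix.mulVec_add, Pi.add_apply]
    simp
  have hxy0 : fa l Y x y = 0 := hoff Y x y h01'
  have hyx0 : fa l Y y x = 0 := hoff Y y x h01'.symm
  have h00 : Y z0 z0 = 0 := by
    have h1 := congrFun (congrFun hYu x) y
    rw [hLft, hR, if_neg (show ¬ y i0 = z0 from h01'.symm), mul_zero, hYw, hxy0, hwy, hdiag] at h1
    simpa [hc0, hμ0, C.σ_ne_zero hμ0] using h1.symm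
  have h11 : Y z1 z1 = 1 := by
    have h1 := congrFun (congrFun hYu y) x
    rw [hLft, hR, if_pos (show x i0 = z0 from rfl), mul_one, hYw, hyx0, hwx, hwy, hdiag,
      Matrix.one_apply_ne (Ne.symm hxy), map_one, zero_add, mul_one, zero_add, zero_add, mul_one] at h1
    exact (mul_right_cancel₀ hμ0 ((mul_left_cancel₀ hc0 h1).symm.trans (one_mul μ).symm))
  set z : Idx k t := Function.update y i0 (if l = i0 then z0 else z2) with hz
  have hzi : z i0 = if l = i0 then z0 else z2 := Function.update_self ..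
  have hzx : z ≠ x := fun e => by
    have := congrFun e i1
    rw [hz, Function.update_of_ne hii.symm] at this
    exact h01' this.symm
  have hzy : z ≠ y := fun e => by
    have := congrFun e i0
    rw [hzi] at this
    split_ifs at this
    · exact h01' this
    · exact h12 this.symm
  have hwz : w z = 0 := by simp [hw, hzx, hzy]
  have h1 := congrFun (congrFun hYu z) z
  simp only [hLft, hR, hwz, map_zero, mul_zero, add_zero, Matrix.one_apply_eq, one_mul, hzi, hdiag] at h1
  rcases eq_or_ne l i0 with hl | hl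
  · rw [hl, if_pos rfl, if_pos rfl, hzi, if_pos hl, h00] at h1
    exact one_ne_zero h1
  · rw [if_neg hl, if_neg h02.symm, show z l = z1 by rw [hz, Function.update_of_ne hl], h11] at h1
    exact zero_ne_one h1

/-- Isometries of determinant one inducing every permutation of at least three factors. -/
theorem exists_iso_lift {F : Type*} [Field F] [Finite F] (C : Cj F) {k t : ℕ} (hk : 3 ≤ k) (ht : 3 ≤ t)
    (s : Equiv.Perm (Fin t)) :
    ∃ g : GL (Idx k t) F, C.Iso g.val ∧ g.val.det = 1 ∧ ∀ i, ∃ a, Acts g i (s i) a := by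
  induction s using Equiv.Perm.swap_induction_on with
  | one => exact ⟨1, by rw [Units.val_one]; exact Iso.one C, Matrix.det_one, fun i => ⟨1, acts_one i⟩⟩
  | swap_mul τ x y hxy ih =>
    obtain ⟨g, hgI, hg, hga⟩ := ih
    suffices ∃ h : GL (Idx k t) F, C.Iso h.val ∧ h.val.det = 1 ∧ ∀ i, ∃ a, Acts h i (Equiv.swap x y i) a by
      obtain ⟨h, hhI, hh, hha⟩ := this
      refine ⟨h * g, by rw [Units.val_mul]; exact Iso.mul C hhI hgI,
        by rw [Units.val_mul, Matrix.det_mul, hh, hg, mul_one], fun i => ?_⟩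
      obtain ⟨a, ha⟩ := hga i
      obtain ⟨b, hb⟩ := hha (τ i)
      exact ⟨b * a, hb.mul ha⟩
    set p : GL (Idx k t) F := permGL (Equiv.swap x y) with hp
    rcases Nat.even_or_odd k with he | ho
    · exact ⟨p, C.iso_permGL _, det_swap_even hxy ht (by omega) he, fun i => ⟨1, acts_permGL _ i⟩⟩
    · set d := p.val.det with hd
      have hdd : d * d = 1 := by
        rw [hd, ← Matrix.det_mul, ← Units.val_mul, hp, ← map_mul, Equiv.swap_mul_self, map_one, Units.val_one,
          Matrix.det_one]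
      set z : Fin k := p0 hk
      let v : Fin k → F := Function.update (fun _ => 1) z d
      have hv : (Matrix.diagonal v).det = d := by
        rw [Matrix.det_diagonal]; simp [v, Finset.prod_update_of_mem]
      let D := Matrix.GeneralLinearGroup.mkOfDetNeZero (Matrix.diagonal v)
        (by rw [hv]; exact fun h => by rw [h, mul_zero] at hdd; exact zero_ne_one hdd)
      have hσd : C.σ d = d := by
        rcases mul_self_eq_one_iff.1 hdd with h | h <;> simp [h]
      have hDI : C.Iso D.val := by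
        show C.ad (Matrix.diagonal v) * Matrix.diagonal v = 1
        rw [show C.ad (Matrix.diagonal v) = Matrix.diagonal fun a => C.σ (v a) by
          ext a b
          rw [ad_apply, Matrix.diagonal_apply, Matrix.diagonal_apply]
          by_cases h : a = b
          · subst h; simp
          · simp [h, Ne.symm h], Matrix.diagonal_mul_diagonal, ← Matrix.diagonal_one]
        congr 1
        funext a
        rcases eq_or_ne a z with rfl | ha
        · simp [v, hσd, hdd]
        · simp [v, ha]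
      refine ⟨p * fu x D, by rw [Units.val_mul]; exact Iso.mul C (C.iso_permGL _) (C.iso_fu hDI x), ?_, fun i => ?_⟩
      · rw [Units.val_mul, Matrix.det_mul, fu_val, det_fa']
        show d * (Matrix.diagonal v).det ^ k ^ (t - 1) = 1
        obtain ⟨r, hr⟩ := ho.pow (n := t - 1)
        rw [hv, hr, pow_succ, pow_mul, sq, hdd, one_pow, one_mul, hdd]
      · rcases eq_or_ne i x with rfl | hix
        · exact ⟨_, (acts_permGL _ i).mul (acts_fu i D)⟩
        · exact ⟨_, (acts_permGL _ i).mul (acts_fu_ne hix D)⟩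

/-- Beyond four elements some element has norm different from one. -/
theorem exists_norm_ne_one {F : Type*} [Field F] [Fintype F] {q : ℕ} (hF : Fintype.card F = q ^ 2) (hq : q ≠ 2) :
    ∃ a : F, a ≠ 0 ∧ Herm.frob hF a * a ≠ 1 := by
  by_contra h
  push Not at h
  have h2 := Herm.two_le_q hF
  have h1 : Nat.card Fˣ ≤ Nat.card {x : F // x ^ (q + 1) = 1} :=
    Nat.card_le_card_of_injective
      (fun u : Fˣ => ⟨(u : F), by rw [pow_succ, ← Herm.frob_apply hF]; exact h _ u.ne_zero⟩)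
      fun u v e => Units.ext (congrArg (fun z : {x : F // x ^ (q + 1) = 1} => (z : F)) e)
  rw [Herm.card_units_sq hF, Herm.card_norm_eq hF one_ne_zero (one_pow _)] at h1
  have h3 := Nat.le_of_mul_le_mul_left (h1.trans (mul_one _).ge) (Nat.succ_pos q)
  omega

/-- The stabiliser of a unitary tensor power decomposition is maximal. -/
theorem isMaximalIn {F : Type*} [Field F] [Fintype F] (n q : ℕ) (hF : Fintype.card F = q ^ 2)
    (k t : ℕ) (hk : 3 ≤ k) (ht : 2 ≤ t) (hex : ¬ (q = 2 ∧ k = 3)) (e : Fin n ≃ (Fin t → Fin k))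
    (P : GL (Fin n) F) (f₁ : (Fin k → F) → (Fin k → F) → F) (hf₁ : IsUnitaryFormPow q f₁)
    (hT : IsTensorPowerFormStructure (fun x : F => x ^ q) (Cfsg.hermForm n F q) f₁ e P) :
    IsMaximalIn (Cfsg.GU n F q ⊓ specialLinear (Fin n) F)
      (tensorWreathSubgroup k t e P ⊓ (Cfsg.GU n F q ⊓ specialLinear (Fin n) F)) := by
  classical
  obtain ⟨t, rfl⟩ : ∃ s, t = s + 1 := ⟨t - 1, by omega⟩
  let C : Cj F := ⟨Herm.frob hF, Herm.frob_ne_id hF, Herm.frob_frob hF⟩
  obtain ⟨c, hc0, hc⟩ := hT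
  have hσq : ∀ a : F, a ^ q = C.σ a := fun a => (Herm.frob_apply hF a).symm
  have hherm : ∀ v w, f₁ v w = C.σ (f₁ w v) := fun v w => by rw [← hσq]; exact hf₁.herm v w
  have haddR : ∀ v x y, f₁ v (x + y) = f₁ v x + f₁ v y := fun v x y => by
    rw [hherm, hf₁.add_left, map_add, ← hherm, ← hherm]
  have hsmulR : ∀ (a : F) v x, f₁ v (a • x) = C.σ a * f₁ v x := fun a v x => by
    rw [hherm, hf₁.smul_left, map_mul, ← hherm]
  let B1 : (Fin k → F) →ₛₗ[Herm.frob hF] (Fin k → F) →ₗ[F] F :=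
    LinearMap.mk₂'ₛₗ (Herm.frob hF) (RingHom.id F) (fun u v => f₁ v u)
      (fun u u' v => haddR v u u') (fun a u v => hsmulR a v u)
      (fun u v v' => hf₁.add_left v v' u) (fun a u v => hf₁.smul_left a v u)
  have hS : B1.IsSymm := ⟨fun u v => (hherm u v).symm⟩
  have hnd : B1.Nondegenerate := by
    have hr : ∀ v, (∀ u, B1 u v = 0) → v = 0 := fun v h => by
      by_contra hv
      obtain ⟨x, hx⟩ := (hf₁.nondegenerate v hv).2
      exact hx (h x)
    exact ⟨fun u h => hr u fun v => hS.isRefl _ _ (h v), hr⟩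
  obtain ⟨b, hb⟩ := Spec.UThree.exists_orthonormal_basis_herm hF (Module.finrank_fin_fun (n := k) F) B1 hS hnd
  -- an orthonormal basis of the factor
  let ψ : (Fin k → F) ≃ₗ[F] (Fin k → F) := b.equivFun.symm
  set Q : GL (Fin k) F := (Symp.glEquiv (Fin k) F).symm ψ with hQ
  have hQs : ∀ a, Q.val *ᵥ Pi.single a 1 = b a := fun a => by
    rw [← Symp.glEquiv_apply, hQ, MulEquiv.apply_symm_apply]
    show b.equivFun.symm (Pi.single a 1) = _
    simp [Module.Basis.equivFun_symm_apply, Pi.single_apply]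
  set G1 := gramMatrix f₁ with hG1
  have hB1 : ∀ u v, f₁ u v = u ⬝ᵥ G1 *ᵥ (C.σ ∘ v) := fun u v => by
    show B1 v u = _
    conv_lhs => rw [pi_eq_sum_univ' u, pi_eq_sum_univ' v]
    simp only [map_sum, map_smul, LinearMap.map_smulₛₗ, LinearMap.sum_apply, LinearMap.smul_apply, smul_eq_mul,
      dotProduct, Matrix.mulVec, Finset.mul_sum]
    refine Finset.sum_congr rfl fun i _ => Finset.sum_congr rfl fun j _ => ?_
    show u i * (Herm.frob hF (v j) * f₁ _ _) = u i * (f₁ _ _ * Herm.frob hF (v j))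
    ring
  have hgram : Q.valᵀ * G1 * Q.val.map C.σ = 1 := by
    ext p r
    have h1 : f₁ (b p) (b r) = if r = p then 1 else 0 := hb r p
    rw [← hQs, ← hQs, hB1, show C.σ ∘ (Q.val *ᵥ Pi.single r 1) = Q.val.map C.σ *ᵥ Pi.single r 1 by
      simp [funext_iff]] at h1
    rw [Matrix.one_apply, show (if p = r then (1 : F) else 0) = if r = p then 1 else 0 by simp [eq_comm], ← h1]
    rw [Matrix.mulVec_mulVec, Matrix.mulVec_single_one, Matrix.mulVec_single_one, Matrix.mul_assoc, Matrix.mul_apply]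
    rfl
  let pt : GL (Idx k (t + 1)) F := ⟨pureTens fun _ => Q.val, pureTens fun _ => (Q⁻¹).val,
    by rw [pureTens_mul]; simp [pureTens_one], by rw [pureTens_mul]; simp [pureTens_one]⟩
  set P' := P * glReindex e.symm pt with hP'
  have hsame : tensorWreathSubgroup k (t + 1) e P' = tensorWreathSubgroup k (t + 1) e P := by
    have hpt : pt ∈ tensorWreathStandard k (t + 1) F :=
      Subgroup.subset_closure (Or.inl ⟨fun _ => Q, fun x y => rfl⟩)
    have hmem : glReindex e.symm pt ∈ (tensorWreathStandard k (t + 1) F).map (glReindex e.symm).toMonoidHom :=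
      ⟨pt, hpt, rfl⟩
    unfold tensorWreathSubgroup
    rw [hP', map_mul]
    refine le_antisymm ?_ ?_
    · rintro _ ⟨x, hx, rfl⟩
      exact ⟨_, mul_mem (mul_mem hmem hx) (inv_mem hmem), by simp [mul_assoc]⟩
    · rintro _ ⟨x, hx, rfl⟩
      exact ⟨_, mul_mem (mul_mem (inv_mem hmem) hx) hmem, by simp [mul_assoc]⟩
  rw [← hsame]
  have hptσ : pt.val.map C.σ = pureTens fun _ : Fin (t + 1) => Q.val.map C.σ := by
    ext x y
    simp [pt, pureTens]
  have hform : ∀ x y : Idx k (t + 1) → F,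
      Cfsg.hermForm n F q (P'.val *ᵥ (x ∘ e)) (P'.val *ᵥ (y ∘ e)) = c * C.ip y x := by
    intro x y
    have hmv : ∀ x : Idx k (t + 1) → F, P'.val *ᵥ (x ∘ e) = P.val *ᵥ ((pt.val *ᵥ x) ∘ e) := fun x => by
      rw [hP', Units.val_mul, ← Matrix.mulVec_mulVec, show (glReindex e.symm pt).val = pt.val.submatrix e e from rfl,
        Matrix.submatrix_mulVec_equiv]
      congr 2
      exact congrArg (fun z => pt.val *ᵥ z) (funext fun i => by simp)
    rw [hmv, hmv, hc]
    congr 1
    have h1 : ∀ u v : Idx k (t + 1) → F,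
        (∑ a, ∑ b, (u a * ∏ i, G1 (a i) (b i)) * (fun x : F => x ^ q) (v b)) =
          u ⬝ᵥ (pureTens fun _ : Fin (t + 1) => G1) *ᵥ (C.σ ∘ v) := fun u v => by
      simp only [dotProduct, Matrix.mulVec, Finset.mul_sum, Function.comp_apply, hσq, pureTens, Matrix.of_apply,
        mul_assoc]
    rw [h1, show C.σ ∘ (pt.val *ᵥ y) = pt.val.map C.σ *ᵥ (C.σ ∘ y) from funext fun i => RingHom.map_mulVec C.σ _ _ i,
      hptσ, show pt.val = pureTens fun _ : Fin (t + 1) => Q.val from rfl, Matrix.mulVec_mulVec,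
      ← Matrix.vecMul_transpose, ← Matrix.dotProduct_mulVec, Matrix.mulVec_mulVec, AschSp.pureTens_transpose,
      ← Matrix.mul_assoc, pureTens_mul, pureTens_mul, hgram, pureTens_one, Matrix.one_mulVec, dotProduct_comm]
    rfl
  let Θ : GL (Idx k (t + 1)) F ≃* GL (Fin n) F := (glReindex e.symm).trans (MulAut.conj P')
  have hΘ : ∀ (g : GL (Idx k (t + 1)) F) (x : Idx k (t + 1) → F),
      (Θ g).val *ᵥ (P'.val *ᵥ (x ∘ e)) = P'.val *ᵥ ((g.val *ᵥ x) ∘ e) := fun g x => by
    show (P' * glReindex e.symm g * P'⁻¹).val *ᵥ _ = _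
    rw [Units.val_mul, ← Matrix.mulVec_mulVec, Matrix.mulVec_mulVec _ (P'⁻¹).val, Units.inv_mul, Matrix.one_mulVec,
      Units.val_mul, ← Matrix.mulVec_mulVec, show (glReindex e.symm g).val = g.val.submatrix e e from rfl,
      Matrix.submatrix_mulVec_equiv]
    congr 2
    exact congrArg (fun z => g.val *ᵥ z) (funext fun i => by simp)
  have hgu : ∀ g : GL (Idx k (t + 1)) F, Θ g ∈ Cfsg.GU n F q ↔ C.Iso g.val := by
    intro g
    constructor
    · intro h
      refine C.iso_of_mem fun u v => ?_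
      have h1 := h (P'.val *ᵥ (v ∘ e)) (P'.val *ᵥ (u ∘ e))
      change Cfsg.hermForm n F q ((Θ g).val *ᵥ _) ((Θ g).val *ᵥ _) = _ at h1
      rw [hΘ, hΘ, hform, hform] at h1
      rw [Symp.glEquiv_apply, Symp.glEquiv_apply]
      exact mul_left_cancel₀ hc0 h1
    · intro h u v
      have hsur : ∀ u : Fin n → F, ∃ x : Idx k (t + 1) → F, P'.val *ᵥ (x ∘ e) = u := fun u =>
        ⟨((P'⁻¹).val *ᵥ u) ∘ e.symm, by
          rw [Function.comp_assoc, Equiv.symm_comp_self, Function.comp_id, Matrix.mulVec_mulVec, Units.mul_inv,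
            Matrix.one_mulVec]⟩
      obtain ⟨x, rfl⟩ := hsur u
      obtain ⟨y, rfl⟩ := hsur v
      show Cfsg.hermForm n F q ((Θ g).val *ᵥ _) ((Θ g).val *ᵥ _) = _
      rw [hΘ, hΘ, hform, hform, C.ip_iso h]
  have hsl : ∀ g : GL (Idx k (t + 1)) F, Θ g ∈ specialLinear (Fin n) F ↔ g.val.det = 1 := fun g => by
    show Matrix.GeneralLinearGroup.det (P' * glReindex e.symm g * P'⁻¹) = 1 ↔ _
    rw [map_mul, map_mul, map_inv, mul_inv_cancel_comm, Units.ext_iff]
    show (Matrix.reindexAlgEquiv F F e.symm g.val).det = 1 ↔ _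
    rw [Matrix.det_reindexAlgEquiv]
  have hTw : ∀ g : GL (Idx k (t + 1)) F, Θ g ∈ tensorWreathSubgroup k (t + 1) e P' ↔ g ∈ mst k (t + 1) F := fun g => by
    rw [mst_eq_standard (by omega) (by omega)]
    constructor
    · rintro ⟨_, ⟨x, hx, rfl⟩, hxg⟩
      have : x = g := Θ.injective hxg
      exact this ▸ hx
    · intro hg
      exact ⟨_, ⟨g, hg, rfl⟩, rfl⟩
  refine ⟨lt_of_le_of_ne inf_le_right fun h => ?_, fun L hL hLS => ?_⟩
  · obtain ⟨u, huI, hud, hum⟩ := exists_not_mem C hk (t := t + 1) ht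
    exact hum ((hTw u).1 (h.symm.le ⟨(hgu u).2 huI, (hsl u).2 hud⟩ :
      Θ u ∈ tensorWreathSubgroup k (t + 1) e P' ⊓ (Cfsg.GU n F q ⊓ specialLinear (Fin n) F)).1)
  set G := L.comap Θ.toMonoidHom with hG
  have hmemG : ∀ g : GL (Idx k (t + 1)) F, g ∈ mst k (t + 1) F → C.Iso g.val → g.val.det = 1 → g ∈ G :=
    fun g h1 h2 h3 => hL ⟨(hTw g).2 h1, (hgu g).2 h2, (hsl g).2 h3⟩
  have hlift : 3 ≤ t + 1 → ∀ s : Equiv.Perm (Fin (t + 1)),
      ∃ g : GL (Idx k (t + 1)) F, C.Iso g.val ∧ g.val.det = 1 ∧ ∀ i, ∃ a, Acts g i (s i) a :=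
    fun h3 s => exists_iso_lift C hk h3 s
  have hOver : C.Over G := by
    refine ⟨fun g hg => (hgu g).1 (hLS hg).1, fun i a ha had => hmemG _ (fu_mem_mst i a) (C.iso_fu ha i) ?_,
      fun h3 s => ?_⟩
    · rw [fu_val, det_fa, had, one_pow]
    · obtain ⟨g, hgI, hgd, hga⟩ := hlift h3 s
      exact ⟨g, hmemG g ⟨s, hga⟩ hgI hgd, hga⟩
  by_cases hR : C.Losing G
  · refine Or.inl (le_antisymm (le_inf (fun x hx => ?_) hLS) hL)
    obtain ⟨g, rfl⟩ := Θ.surjective x
    refine (hTw g).2 (le_mst hk ?_ t G hOver hR hx)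
    rcases Nat.lt_or_ge k 4 with h4 | h4
    · exact Or.inl (exists_norm_ne_one hF fun h => hex ⟨h, by omega⟩)
    · exact Or.inr h4
  · refine Or.inr (le_antisymm hLS fun x hx => ?_)
    obtain ⟨g, rfl⟩ := Θ.surjective x
    have h4 : 4 ≤ Module.finrank F (Idx k (t + 1) → F) := by
      rw [Module.finrank_fintype_fun_eq_card, Fintype.card_fun, Fintype.card_fin, Fintype.card_fin]
      calc 4 ≤ 3 ^ 2 := by norm_num
        _ ≤ k ^ 2 := Nat.pow_le_pow_left hk 2
        _ ≤ k ^ (t + 1) := Nat.pow_le_pow_right (by omega) ht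
    have hK := C.cform (Idx k (t + 1))
    obtain ⟨g', hg', hgg⟩ := tvGroup_le hOver hk (by omega) hR
      ((Herm.mem_tvGroup_iff C.ne_id C.invol C.form_symm hK.ndeg (Or.inl h4) (Symp.glEquiv _ F g)).2
        ⟨C.mem_of_iso ((hgu g).1 hx.1), Units.ext (by rw [det_glEquiv, (hsl g).1 hx.2, Units.val_one])⟩)
    obtain rfl : g' = g := (Symp.glEquiv _ F).injective hgg
    exact hg'

end Cfsg.Lib.Linear.UWreath.Cj
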