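import Cfsg.Agent.Lib.Linear.UTensor.Gen
import Cfsg.Agent.Lib.Linear.UWreath.Bridge

/-!
# Compressing coefficients to an isotropic vector of a factor

In an additive group of skew matrices invariant under the isometries of a factor, second differences along the
unipotent radical of an isotropic vector `e` of that factor turn `ω` into `X ω X` for the rank one map `X` of `e`.
This works for every field and every dimension at least three.
-/

set_option autoImplicit false
set_option linter.unusedSectionVars false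
set_option linter.unusedVariables false
set_option linter.unusedSimpArgs false

namespace Cfsg.Lib.Linear.UWreath.Cj

open Cfsg.Geo Cfsg.Lib.Linear.AschGen Cfsg.Lib.Linear.TWreath
open scoped Matrix MatrixGroups

variable {F : Type*} [Field F] [Finite F] {C : Cj F} {k t : ℕ}

theorem det_one_add_of_nilpotent {ι : Type} [Fintype ι] [DecidableEq ι] {g : GL ι F}
    (h : IsNilpotent (g.val - 1)) : g.val.det = 1 := by
  have h1 : IsNilpotent (Matrix.toLinAlgEquiv' (g.val - 1)) := h.map _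
  have h2 : LinearEquiv.det (Symp.glEquiv ι F g) = 1 := by
    refine UTensor.det_eq_one_of_nilpotent _ ?_
    have e : ((Symp.glEquiv ι F g : (ι → F) ≃ₗ[F] (ι → F)) : (ι → F) →ₗ[F] (ι → F)) =
        Matrix.toLinAlgEquiv' g.val := LinearMap.ext fun v => Symp.glEquiv_apply g v
    rw [e, ← map_one (Matrix.toLinAlgEquiv' (R := F) (n := ι)), ← map_sub]
    exact h1
  rw [← det_glEquiv, h2, Units.val_one]

/-- An orthogonal anisotropic vector and a partner. -/
theorem exists_frame (hk : 3 ≤ k) {e : Fin k → F} (he0 : e ≠ 0) (he : C.ip e e = 0) :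
    ∃ f z : Fin k → F, C.ip f f = 0 ∧ C.ip e f = 1 ∧ C.ip f e = 1 ∧ C.ip e z = 0 ∧ C.ip z e = 0 ∧
      C.ip f z = 0 ∧ C.ip z f = 0 ∧ C.ip z z ≠ 0 := by
  have K := C.cform (Fin k)
  obtain ⟨f, hf, hef, hfe⟩ := C.exists_partner he0 he
  obtain ⟨u, hu, hu0⟩ : ∃ u ∈ K.perp2 e f, u ≠ 0 := by
    refine Submodule.exists_mem_ne_zero_of_ne_bot fun h => ?_
    have h1 : Module.finrank F (Fin k → F) ≤ Module.finrank F (K.perp2 e f) + 2 := K.finrank_perp2 e f
    rw [h, finrank_bot, Module.finrank_fin_fun] at h1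
    omega
  obtain ⟨v, hv, huv⟩ : ∃ v ∈ K.perp2 e f, C.ip u v ≠ 0 := by
    by_contra h
    push Not at h
    exact hu0 (K.perp2_nondeg he hf hef hu h)
  obtain ⟨z, hz, hzz⟩ := K.exists_aniso _ hu hv huv
  obtain ⟨h1, h2⟩ := K.mem_perp2.1 hz
  exact ⟨f, z, hf, hef, hfe, h1, K.swap_zero h1, h2, K.swap_zero h2, hzz⟩

/-- The displacement of an element of the unipotent radical of an isotropic vector. -/
def eA (C : Cj F) (e z : Fin k → F) (m ν : F) : Matrix (Fin k) (Fin k) F :=
  m • C.op z e - C.σ m • C.op e z + ν • C.nr e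

theorem exists_eA {e z : Fin k → F} (he : C.ip e e = 0) (hez : C.ip e z = 0) (hze : C.ip z e = 0) {m ν : F}
    (h : ν + C.σ ν = -(C.σ m * m * C.ip z z)) :
    ∃ u : GL (Fin k) F, C.Iso u.val ∧ u.val.det = 1 ∧ u.val = 1 + C.eA e z m ν := by
  set A := C.eA e z m ν with hA
  have had : C.ad A = C.σ m • C.op e z - m • C.op z e + C.σ ν • C.nr e := by
    simp only [hA, eA, C.ad_add, C.ad_sub, C.ad_smul, C.ad_op, C.ad_nr, C.invol]
  have hiso : C.Iso (1 + A) := by
    show C.ad (1 + A) * (1 + A) = 1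
    rw [C.ad_add, C.ad_one, had]
    simp only [hA, eA, nr, add_mul, mul_add, sub_mul, mul_sub, one_mul, mul_one, smul_mul_smul_comm, op_mul, he,
      hez, hze, zero_smul, smul_zero, add_zero, zero_add, sub_zero, zero_sub, neg_zero, smul_smul]
    have h' := congrArg (fun r : F => r • C.op e e) h
    simp only [add_smul, neg_smul] at h'
    linear_combination (norm := module) h'
  let u : GL (Fin k) F := ⟨1 + A, C.ad (1 + A), mul_eq_one_comm.1 hiso, hiso⟩
  refine ⟨u, hiso, det_one_add_of_nilpotent ⟨3, ?_⟩, rfl⟩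
  show (1 + A - 1) ^ 3 = 0
  simp only [add_sub_cancel_left, pow_succ, pow_zero, one_mul, hA, eA, nr, add_mul, mul_add, sub_mul, mul_sub,
    smul_mul_smul_comm, op_mul, he, hez, hze, zero_smul, smul_zero, add_zero, zero_add, sub_zero, zero_sub,
    neg_zero, mul_smul_comm, smul_mul_assoc, mul_zero, zero_mul, neg_mul, mul_neg, neg_neg]

/-- Second differences along the unipotent radical. -/
theorem straighten (hk : 3 ≤ k) {p : Fin t} (S : AddSubgroup (Matrix (Idx k t) (Idx k t) F))
    (hS : ∀ a : GL (Fin k) F, C.Iso a.val → a.val.det = 1 → ∀ M ∈ S, conjA (fu p a) M ∈ S)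
    {e : Fin k → F} (he0 : e ≠ 0) (he : C.ip e e = 0) (P : Matrix (Idx k t) (Idx k t) F)
    (hM : P * fa p (C.nr e) - C.ad (P * fa p (C.nr e)) ∈ S) (η : F) :
    η • (fa p (C.nr e) * P * fa p (C.nr e)) - C.ad (η • (fa p (C.nr e) * P * fa p (C.nr e))) ∈ S := by
  obtain ⟨f, z, -, -, -, hez, hze, -, -, hzz⟩ := exists_frame (C := C) hk he0 he
  set X := fa p (C.nr e) with hX
  set M := P * X - C.ad (P * X) with hMdef
  let D : Matrix (Fin k) (Fin k) F → Matrix (Idx k t) (Idx k t) F :=
    fun A => fa p A * (P * X) - C.ad (fa p A * (P * X))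
  have hD : ∀ m ν : F, ν + C.σ ν = -(C.σ m * m * C.ip z z) → D (C.eA e z m ν) ∈ S := by
    intro m ν h
    obtain ⟨u, hu, hdet, huv⟩ := exists_eA he hez hze h
    set A := C.eA e z m ν with hA
    have hXA : X * fa p (C.ad A) = 0 := by
      rw [hX, ← map_mul, hA]
      simp [eA, nr, C.ad_add, C.ad_sub, C.ad_smul, C.ad_op, C.invol, mul_add, mul_sub, op_mul, he, hez]
    have hAX : fa p A * X = 0 := by
      have h1 := congrArg C.ad hXA
      rwa [C.ad_mul, C.ad_fa, C.ad_ad, hX, C.ad_fa, C.ad_nr, C.ad_zero] at h1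
    have hconj : conjA (fu p u) M - M = D A := by
      rw [C.conjA_iso (C.iso_fu hu p), fu_val, huv, C.ad_fa, C.ad_add, C.ad_one, map_add, map_add, map_one, hMdef]
      have e1 : ∀ N : Matrix (Idx k t) (Idx k t) F, C.ad (N * (P * X)) = C.ad (P * X) * C.ad N :=
        fun N => C.ad_mul _ _
      simp only [D, e1, C.ad_fa]
      have e2 : P * X * fa p (C.ad A) = 0 := by rw [mul_assoc, hXA, mul_zero]
      have e3 : fa p A * C.ad (P * X) = 0 := by rw [C.ad_mul, hX, C.ad_fa, C.ad_nr, ← hX, ← mul_assoc, hAX, zero_mul]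
      have e4 : fa p A * (P * X) * fa p (C.ad A) = 0 := by rw [mul_assoc, e2, mul_zero]
      simp only [add_mul, mul_add, sub_mul, mul_sub, one_mul, mul_one, e2, e3, e4, zero_mul, sub_zero]
      abel
    rw [← hconj]
    exact S.sub_mem (hS u hu hdet M hM) hM
  obtain ⟨m, hm⟩ := C.exists_trace ((η + C.σ η) / C.ip z z) (by
    rw [map_div₀, map_add, C.invol, C.ip_swap, add_comm])
  obtain ⟨ν₁, h1⟩ := C.exists_trace (-(C.σ 1 * 1 * C.ip z z)) (by simp [C.ip_swap])
  obtain ⟨ν₂, h2⟩ := C.exists_trace (-(C.σ m * m * C.ip z z)) (by simp [C.ip_swap, C.invol, mul_comm m])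
  have hm' : (m + C.σ m) * C.ip z z = η + C.σ η := by rw [hm, div_mul_cancel₀ _ hzz]
  have h3 : (ν₁ + ν₂ - η) + C.σ (ν₁ + ν₂ - η) = -(C.σ (1 + m) * (1 + m) * C.ip z z) := by
    simp only [map_sub, map_add, map_one] at h1 h2 hm' ⊢
    linear_combination h1 + h2 + hm'
  have hfin := S.sub_mem (S.add_mem (hD _ _ h1) (hD _ _ h2)) (hD _ _ h3)
  have hsum : C.eA e z 1 ν₁ + C.eA e z m ν₂ - C.eA e z (1 + m) (ν₁ + ν₂ - η) = η • C.nr e := by
    simp only [eA, map_add, map_one]
    module
  have e : D (C.eA e z 1 ν₁) + D (C.eA e z m ν₂) - D (C.eA e z (1 + m) (ν₁ + ν₂ - η)) =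
      η • (X * P * X) - C.ad (η • (X * P * X)) := by
    have : η • (X * P * X) = fa p (C.eA e z 1 ν₁ + C.eA e z m ν₂ - C.eA e z (1 + m) (ν₁ + ν₂ - η)) * (P * X) := by
      rw [hsum, map_smul, smul_mul_assoc, mul_assoc]
    rw [this]
    simp only [D, map_add, map_sub, add_mul, sub_mul, C.ad_add, C.ad_sub]
    abel
  rwa [e] at hfin

/-- A coefficient can be compressed to an isotropic vector of a factor. -/
theorem sandwich (hk : 3 ≤ k) {p : Fin t} (S : AddSubgroup (Matrix (Idx k t) (Idx k t) F))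
    (hS : ∀ a : GL (Fin k) F, C.Iso a.val → a.val.det = 1 → ∀ M ∈ S, conjA (fu p a) M ∈ S)
    {ω : Matrix (Idx k t) (Idx k t) F} (hω : ω ∈ S) (hsk : C.ad ω = -ω) {e : Fin k → F} (he : C.ip e e = 0) :
    fa p (C.nr e) * ω * fa p (C.nr e) ∈ S := by
  rcases eq_or_ne e 0 with rfl | he0
  · rw [C.nr_zero, map_zero, zero_mul, zero_mul]; exact S.zero_mem
  set X := fa p (C.nr e) with hX
  obtain ⟨c, hc0, hc⟩ := C.exists_skew
  have hσc : C.σ c = -c := eq_neg_of_add_eq_zero_right hc
  obtain ⟨a, ha⟩ := C.exists_trace 1 (map_one _)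
  set P := (-c) • ω + (-(a * (c * c))) • (X * ω) with hP
  have hXX : X * X = 0 := by rw [hX, ← map_mul, C.nr_mul_self he, map_zero]
  have hXad : C.ad X = X := by rw [hX, C.ad_fa, C.ad_nr]
  have hM : P * X - C.ad (P * X) ∈ S := by
    have e1 : conjA (fu p (C.tv e c he)) ω - ω = P * X - C.ad (P * X) := by
      rw [C.conjA_iso (C.iso_fu (C.iso_tv e hc he) p), fu_val, C.tv_val, C.ad_fa, C.ad_add, C.ad_one, C.ad_smul,
        C.ad_nr, hσc, map_add, map_add, map_one, map_smul, map_smul, ← hX, hP]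
      simp only [C.ad_mul, C.ad_add, C.ad_smul, hXad, hsk, map_neg, map_mul, hσc]
      simp only [add_mul, mul_add, smul_mul_assoc, mul_smul_comm, one_mul, mul_one, neg_mul, mul_neg, smul_neg,
        mul_assoc]
      have h' : (a + C.σ a) * (c * c) = c * c := by rw [ha, one_mul]
      match_scalars <;> first | ring1 | linear_combination h' | linear_combination (-1 : F) * h'
    rw [← e1]
    exact S.sub_mem (hS _ (C.iso_tv e hc he) (C.det_tv e c he) ω hω) hω
  have h := straighten hk S hS he0 he P hM (-a / c)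
  rw [← hX] at h
  have e2 : X * P * X = (-c) • (X * ω * X) := by
    simp only [hP, mul_add, add_mul, mul_smul_comm, smul_mul_assoc, ← mul_assoc, hXX, zero_mul, smul_zero, add_zero]
  rw [e2, smul_smul, show -a / c * -c = a by field_simp, C.ad_smul, C.ad_mul, C.ad_mul, hXad, hsk, neg_mul,
    mul_neg, smul_neg, sub_neg_eq_add, ← mul_assoc, ← add_smul, ha, one_smul] at h
  exact h

end Cfsg.Lib.Linear.UWreath.Cj
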