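import Cfsg.Agent.Lib.Linear.UTensor.Alg
import Cfsg.Agent.Lib.Linear.UWreath.Sandwich

/-!
# A coefficient which is not a scalar gives the roots at all the factors

Compressing gives a product of isotropic rank one maps at some factors; with the permutations of the factors the
number of factors grows one at a time.
-/

set_option autoImplicit false
set_option linter.unusedSectionVars false
set_option linter.unusedVariables false
set_option linter.unusedSimpArgs false

namespace Cfsg.Lib.Linear.UWreath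

open Cfsg.Geo Cfsg.Lib.Linear.AschGen Cfsg.Lib.Linear.TWreath
open scoped Matrix MatrixGroups

section Pts

variable {F : Type*} [Field F] {k t : ℕ}

/-- The pure tensor supported on a set of factors. -/
def pts (S : Finset (Fin t)) (X : Fin t → Matrix (Fin k) (Fin k) F) : Matrix (Idx k t) (Idx k t) F :=
  pureTens fun l => if l ∈ S then X l else 1

theorem pts_congr {S : Finset (Fin t)} {X Y : Fin t → Matrix (Fin k) (Fin k) F} (h : ∀ l ∈ S, X l = Y l) :
    pts S X = pts S Y := by
  unfold pts
  congr 1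
  funext l
  by_cases hl : l ∈ S <;> simp [hl, h]

theorem pts_empty (X : Fin t → Matrix (Fin k) (Fin k) F) : pts ∅ X = 1 := by simp [pts, pureTens_one]

theorem pts_univ (X : Fin t → Matrix (Fin k) (Fin k) F) : pts Finset.univ X = pureTens X := by simp [pts]

theorem pts_mul (S : Finset (Fin t)) (X Y : Fin t → Matrix (Fin k) (Fin k) F) :
    pts S X * pts S Y = pts S (fun l => X l * Y l) := by
  rw [pts, pts, pts, pureTens_mul]
  congr 1
  funext l
  by_cases hl : l ∈ S <;> simp [hl]

theorem pts_insert {S : Finset (Fin t)} {l : Fin t} (hl : l ∉ S) (X : Fin t → Matrix (Fin k) (Fin k) F) :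
    pts (insert l S) X = fa l (X l) * pts S X := by
  rw [pts, pts, fa_apply, powStd, pureTens_mul]
  congr 1
  funext j
  rcases eq_or_ne j l with rfl | hj
  · simp [hl]
  · simp [hj]

theorem pts_erase {S : Finset (Fin t)} {l : Fin t} (hl : l ∈ S) (X : Fin t → Matrix (Fin k) (Fin k) F) :
    pts S X = fa l (X l) * pts (S.erase l) X := by
  conv_lhs => rw [← Finset.insert_erase hl]
  exact pts_insert (S.notMem_erase l) X

theorem com_pts {S : Finset (Fin t)} {l : Fin t} (hl : l ∉ S) (X : Fin t → Matrix (Fin k) (Fin k) F) :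
    Com l (pts S X) := by
  induction S using Finset.induction_on with
  | empty => rw [pts_empty]; exact com_one l
  | insert j S hj ih =>
    rw [Finset.mem_insert, not_or] at hl
    rw [pts_insert hj]
    exact (com_fa hl.1 _).mul (ih hl.2)

theorem pts_smul (S : Finset (Fin t)) (s : Fin t → F) (X : Fin t → Matrix (Fin k) (Fin k) F) :
    pts S (fun l => s l • X l) = (∏ l ∈ S, s l) • pts S X := by
  induction S using Finset.induction_on with
  | empty => simp [pts_empty]
  | insert j S hj ih =>
    rw [pts_insert hj, pts_insert hj, ih, map_smul, smul_mul_smul_comm, Finset.prod_insert hj]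

theorem pts_eq_zero {S : Finset (Fin t)} {l : Fin t} (hl : l ∈ S) {X : Fin t → Matrix (Fin k) (Fin k) F}
    (h : X l = 0) : pts S X = 0 := by rw [pts_erase hl, h, map_zero, zero_mul]

theorem pts_ne_zero (hk : 0 < k) {S : Finset (Fin t)} {X : Fin t → Matrix (Fin k) (Fin k) F}
    (h : ∀ l ∈ S, X l ≠ 0) : pts S X ≠ 0 := by
  have hne : ∀ l, ∃ a b, (if l ∈ S then X l else (1 : Matrix (Fin k) (Fin k) F)) a b ≠ 0 := fun l => by
    by_cases hl : l ∈ S
    · rw [if_pos hl]
      by_contra hc
      push Not at hc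
      exact h l hl (Matrix.ext hc)
    · rw [if_neg hl]; exact ⟨⟨0, hk⟩, ⟨0, hk⟩, by simp⟩
  choose x y hxy using hne
  intro e
  have h1 := congrFun (congrFun e x) y
  simp only [pts, pureTens, Matrix.of_apply, Matrix.zero_apply] at h1
  exact Finset.prod_ne_zero_iff.2 (fun l _ => hxy l) h1

theorem conjA_fu_pts {S : Finset (Fin t)} {l : Fin t} (hl : l ∈ S) (a : GL (Fin k) F)
    (X : Fin t → Matrix (Fin k) (Fin k) F) :
    conjA (fu l a) (pts S X) = pts S (Function.update X l (conjA a (X l))) := by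
  rw [pts_erase hl, pts_erase hl, map_mul, acts_fu l a, conjA_fu_com (com_pts (S.notMem_erase l) _),
    Function.update_self]
  congr 1
  exact pts_congr fun j hj => (Function.update_of_ne (Finset.ne_of_mem_erase hj) _ _).symm

/-- An element permuting the factors moves a pure tensor to a pure tensor. -/
theorem conjA_pts {g : GL (Idx k t) F} (s : Equiv.Perm (Fin t)) {a : Fin t → GL (Fin k) F}
    (ha : ∀ l, Acts g l (s l) (a l)) (S : Finset (Fin t)) (X : Fin t → Matrix (Fin k) (Fin k) F) :
    conjA g (pts S X) = pts (S.map s.toEmbedding) (fun l => conjA (a (s.symm l)) (X (s.symm l))) := by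
  induction S using Finset.induction_on with
  | empty => rw [Finset.map_empty, pts_empty, pts_empty, map_one]
  | insert j S hj ih =>
    rw [pts_insert hj, map_mul, ha, ih, Finset.map_insert, pts_insert (by simpa using hj)]
    simp

end Pts

namespace Cj

variable {F : Type*} [Field F] {C : Cj F} {k t : ℕ} {G : Subgroup (GL (Idx k t) F)}

theorem ad_pts (S : Finset (Fin t)) (X : Fin t → Matrix (Fin k) (Fin k) F) :
    C.ad (pts S X) = pts S (fun l => C.ad (X l)) := by
  rw [pts, pts, C.ad_pureTens]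
  congr 1
  funext l
  by_cases hl : l ∈ S <;> simp [hl, C.ad_one]

theorem ad_pts_nr (S : Finset (Fin t)) (e : Fin t → Fin k → F) :
    C.ad (pts S fun l => C.nr (e l)) = pts S fun l => C.nr (e l) := by
  rw [ad_pts]; simp only [C.ad_nr]

theorem skew_coeff {c : F} (hk : 0 < k) {S : Finset (Fin t)} {e : Fin t → Fin k → F} (he : ∀ l ∈ S, e l ≠ 0)
    (h : C.ad (c • pts S fun l => C.nr (e l)) = -(c • pts S fun l => C.nr (e l))) : c + C.σ c = 0 := by
  rw [C.ad_smul, C.ad_pts_nr, ← neg_smul, ← sub_eq_zero, ← sub_smul, smul_eq_zero] at h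
  have := h.resolve_right (pts_ne_zero hk fun l hl => C.nr_ne_zero (he l hl))
  linear_combination this

variable (C) in
/-- The additive group of coefficients. -/
def jGrp (G : Subgroup (GL (Idx k t) F)) (i : Fin t) : AddSubgroup (Matrix (Idx k t) (Idx k t) F) where
  carrier := {ω | C.InJ G i ω}
  zero_mem' := InJ.zero
  add_mem' := InJ.add
  neg_mem' := InJ.neg

variable [Finite F]

theorem InJ.sand (hG : C.Over G) (hk : 3 ≤ k) {i l : Fin t} (hl : l ≠ i)
    {ω : Matrix (Idx k t) (Idx k t) F} (h : C.InJ G i ω) {e : Fin k → F} (he : C.ip e e = 0) :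
    C.InJ G i (fa l (C.nr e) * ω * fa l (C.nr e)) :=
  sandwich hk (C.jGrp G i) (fun a ha had M hM => InJ.conj hG hM (hG.su l a ha had) (acts_fu_ne hl.symm a))
    h (h.skew hG (by omega)) he

/-- Compressing at several factors. -/
theorem InJ.sand_all (hG : C.Over G) (hk : 3 ≤ k) {i : Fin t} {O : Finset (Fin t)} (hi : i ∉ O)
    {ω : Matrix (Idx k t) (Idx k t) F} (h : C.InJ G i ω) {x : Fin t → Fin k → F}
    (hx : ∀ l ∈ O, C.ip (x l) (x l) = 0) :
    C.InJ G i (pts O (fun l => C.nr (x l)) * ω * pts O fun l => C.nr (x l)) := by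
  induction O using Finset.induction_on with
  | empty => rwa [pts_empty, one_mul, mul_one]
  | insert l O hl ih =>
    rw [Finset.mem_insert, not_or] at hi
    have h1 := (ih hi.2 fun j hj => hx j (Finset.mem_insert_of_mem hj)).sand hG hk (Ne.symm hi.1)
      (hx l (Finset.mem_insert_self l O))
    have hc := (com_pts hl (fun j => C.nr (x j))) (C.nr (x l))
    convert h1 using 1
    rw [pts_insert hl]
    conv_lhs => rhs; rw [hc.eq]
    simp only [mul_assoc]

theorem exists_compressed (hk : 3 ≤ k) {l : Fin t} {Φ : Matrix (Idx k t) (Idx k t) F} (hn : ¬ Com l Φ) :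
    ∃ (e : Fin k → F) (Ψ : Matrix (Idx k t) (Idx k t) F), e ≠ 0 ∧ C.ip e e = 0 ∧ Ψ ≠ 0 ∧ Com l Ψ ∧
      (∀ l', l' ≠ l → Com l' Φ → Com l' Ψ) ∧ fa l (C.nr e) * Φ * fa l (C.nr e) = fa l (C.nr e) * Ψ := by
  obtain ⟨x, y, hN⟩ : ∃ x y, ∀ c : F, Matrix.toLin' (Matrix.of fun p q => comp l Φ p q x y) ≠ c • LinearMap.id := by
    by_contra hc
    push Not at hc
    apply hn
    set p0 : Fin k := ⟨0, by omega⟩
    have hd : ∀ p q, comp l Φ p q = if p = q then comp l Φ p0 p0 else 0 := fun p q => by
      ext x y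
      obtain ⟨c, hc'⟩ := hc x y
      have e : (Matrix.of fun p q => comp l Φ p q x y) = c • (1 : Matrix (Fin k) (Fin k) F) :=
        Matrix.toLin'.injective (by rw [map_smul, Matrix.toLin'_one, hc'])
      have h1 : comp l Φ p q x y = (c • (1 : Matrix (Fin k) (Fin k) F)) p q := congrFun (congrFun e p) q
      have h2 : comp l Φ p0 p0 x y = (c • (1 : Matrix (Fin k) (Fin k) F)) p0 p0 := congrFun (congrFun e p0) p0
      split_ifs with h
      · subst h; rw [h1, h2]; simp
      · rw [h1]; simp [h]
    have e : comp l Φ p0 p0 = Φ := by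
      conv_rhs => rw [← sum_comp l Φ]
      rw [Finset.sum_congr rfl fun p _ => Finset.sum_congr rfl fun q _ => by rw [hd p q]]
      generalize comp l Φ p0 p0 = D
      simp only [mul_ite, mul_zero, Finset.sum_ite_eq, Finset.mem_univ, if_true, ← Finset.sum_mul, ← map_sum,
        sum_sg, map_one, one_mul]
    exact e ▸ comp_com l Φ p0 p0
  obtain ⟨e, he0, he, hd⟩ := (C.cform (Fin k)).exists_iso_moved (by rw [Module.finrank_fin_fun]; omega) hN
  refine ⟨e, ∑ p, ∑ q, (C.σ (e p) * e q) • comp l Φ p q, he0, he, fun h0 => hd ?_, ?_, ?_, ?_⟩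
  · have h1 := congrFun (congrFun h0 x) y
    simp only [Matrix.sum_apply, Matrix.smul_apply, smul_eq_mul, Matrix.zero_apply] at h1
    rw [form_apply, Matrix.toLin'_apply, ip]
    simp only [dotProduct, Matrix.mulVec, Function.comp_apply, Matrix.of_apply, Finset.mul_sum]
    rw [← h1]
    exact Finset.sum_congr rfl fun p _ => Finset.sum_congr rfl fun q _ => by ring
  · exact fun X => Commute.sum_right _ _ _ fun p _ => Commute.sum_right _ _ _ fun q _ =>
      (comp_com l Φ p q X).smul_right _
  · exact fun l' hl' h X => Commute.sum_right _ _ _ fun p _ => Commute.sum_right _ _ _ fun q _ =>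
      (comp_com_other l Φ hl' h p q X).smul_right _
  · conv_lhs => rw [← sum_comp l Φ]
    simp only [Finset.mul_sum, Finset.sum_mul]
    refine Finset.sum_congr rfl fun p _ => Finset.sum_congr rfl fun q _ => ?_
    rw [mul_assoc, mul_assoc (fa l (sg p q)), ← (comp_com l Φ p q _).eq, ← mul_assoc (fa l (sg p q)),
      ← mul_assoc, ← map_mul, ← map_mul, ← mul_assoc, mul_smul_comm, ← smul_mul_assoc, ← map_smul]
    congr 2
    rw [nr, C.op_mul', C.op_mul, ← ip_mulVec]
    congr 1
    rw [ip, dotProduct, Finset.sum_eq_single p (fun b _ hb => by simp [Matrix.single_mulVec, Function.update_apply, hb])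
      (fun h => absurd (Finset.mem_univ _) h)]
    simp [Matrix.single_mulVec]

/-- A coefficient which is not a scalar gives a product of isotropic rank one maps. -/
theorem extract (hG : C.Over G) (hk : 3 ≤ k) {i : Fin t} {ω : Matrix (Idx k t) (Idx k t) F} (h : C.InJ G i ω)
    (hns : ∀ c : F, ω ≠ c • 1) : ∃ (R : Finset (Fin t)) (e : Fin t → Fin k → F) (c : F), i ∉ R ∧ R.Nonempty ∧
      (∀ l ∈ R, e l ≠ 0 ∧ C.ip (e l) (e l) = 0) ∧ c ≠ 0 ∧ C.InJ G i (c • pts R fun l => C.nr (e l)) := by
  classical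
  suffices key : ∀ (A R : Finset (Fin t)) (e : Fin t → Fin k → F) (Φ : Matrix (Idx k t) (Idx k t) F),
      i ∉ A → i ∉ R → (∀ l ∈ A, l ∉ R) → (∀ l ∈ R, e l ≠ 0 ∧ C.ip (e l) (e l) = 0) → (∀ l, l ∉ A → Com l Φ) →
      Φ ≠ 0 → (R = ∅ → ∀ c : F, Φ ≠ c • 1) → C.InJ G i ((pts R fun l => C.nr (e l)) * Φ) →
      ∃ (R : Finset (Fin t)) (e : Fin t → Fin k → F) (c : F), i ∉ R ∧ R.Nonempty ∧
        (∀ l ∈ R, e l ≠ 0 ∧ C.ip (e l) (e l) = 0) ∧ c ≠ 0 ∧ C.InJ G i (c • pts R fun l => C.nr (e l)) by
    refine key (Finset.univ.erase i) ∅ (fun _ => 0) ω (by simp) (by simp) (by simp) (by simp) (fun l hl => ?_)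
      (by simpa using hns 0) (fun _ => hns) (by rwa [pts_empty, one_mul])
    obtain rfl : l = i := by simpa using hl
    exact h.1
  intro A
  induction A using Finset.induction_on with
  | empty =>
    intro R e Φ _ hiR _ he hcom hΦ0 hns' hJ
    obtain ⟨c, rfl⟩ := scalar_of_com (by omega) (fun l => hcom l (Finset.notMem_empty l))
    refine ⟨R, e, c, hiR, Finset.nonempty_iff_ne_empty.2 fun hR => hns' hR c rfl, he,
      fun e0 => hΦ0 (by rw [e0, zero_smul]), ?_⟩
    rwa [mul_smul_comm, mul_one] at hJ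
  | insert l A hl ih =>
    intro R e Φ hiA hiR hdis he hcom hΦ0 hns' hJ
    rw [Finset.mem_insert, not_or] at hiA
    have hlR : l ∉ R := hdis l (Finset.mem_insert_self l A)
    by_cases hc : Com l Φ
    · exact ih R e Φ hiA.2 hiR (fun j hj => hdis j (Finset.mem_insert_of_mem hj)) he (fun j hj => by
        rcases eq_or_ne j l with rfl | hjl
        · exact hc
        · exact hcom j (by simp [hjl, hj])) hΦ0 hns' hJ
    obtain ⟨x, Ψ, hx0, hx, hΨ0, hΨl, hΨo, hXΦ⟩ := exists_compressed (C := C) hk hc
    have hins : ∀ j ∈ R, Function.update e l x j = e j := fun j hj =>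
      Function.update_of_ne (fun h => hlR (by subst h; exact hj)) _ _
    refine ih (insert l R) (Function.update e l x) Ψ hiA.2 (by simp [hiA.1, hiR]) (fun j hj => ?_) (fun j hj => ?_)
      (fun j hj => ?_) hΨ0 (fun h => absurd h (Finset.insert_ne_empty l R)) ?_
    · simp only [Finset.mem_insert, not_or]
      exact ⟨fun h => hl (by subst h; exact hj), hdis j (Finset.mem_insert_of_mem hj)⟩
    · rcases Finset.mem_insert.1 hj with rfl | hj'
      · rw [Function.update_self]; exact ⟨hx0, hx⟩
      · rw [hins j hj']; exact he j hj'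
    · rcases eq_or_ne j l with rfl | hjl
      · exact hΨl
      · exact hΨo j hjl (hcom j (by simp [hjl, hj]))
    · have h1 := hJ.sand hG hk (Ne.symm hiA.1) hx
      convert h1 using 1
      rw [← mul_assoc, (com_pts hlR (fun j => C.nr (e j)) (C.nr x)).eq, mul_assoc, mul_assoc,
        ← mul_assoc (fa l (C.nr x)) Φ, hXΦ, ← mul_assoc, pts_insert hlR, Function.update_self,
        ← (com_pts hlR (fun j => C.nr (e j)) (C.nr x)).eq]
      congr 1
      congr 1
      exact pts_congr fun j hj => by rw [hins j hj]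

variable (C) in
/-- All products of isotropic rank one maps at the factors are available. -/
def Pow (G : Subgroup (GL (Idx k t) F)) (S : Finset (Fin t)) : Prop :=
  ∀ e : Fin t → Fin k → F, (∀ l ∈ S, C.ip (e l) (e l) = 0) → ∀ c : F, c + C.σ c = 0 →
    InM G (1 + c • pts S fun l => C.nr (e l))

theorem pow_of_inJ (hG : C.Over G) (hk : 3 ≤ k) {i : Fin t} {R : Finset (Fin t)} (hi : i ∉ R)
    {e : Fin t → Fin k → F} (he : ∀ l ∈ R, e l ≠ 0 ∧ C.ip (e l) (e l) = 0) {c : F} (hc0 : c ≠ 0)
    (h : C.InJ G i (c • pts R fun l => C.nr (e l))) : C.Pow G (insert i R) := by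
  classical
  have hc := skew_coeff (by omega) (fun l hl => (he l hl).1) (h.skew hG (by omega))
  intro f hf d hd
  by_cases h0 : ∃ l ∈ R, f l = 0
  · obtain ⟨l, hl, hl0⟩ := h0
    rw [pts_eq_zero (Finset.mem_insert_of_mem hl) (by rw [hl0, C.nr_zero]), smul_zero, add_zero]
    exact ⟨1, G.one_mem, rfl⟩
  push Not at h0
  have key : ∀ R', R' ⊆ R → C.InJ G i (c • pts R fun l => C.nr (if l ∈ R' then f l else e l)) := by
    intro R'
    induction R' using Finset.induction_on with
    | empty => simpa using h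
    | insert l R' hl ih =>
      intro hsub
      have hlR := hsub (Finset.mem_insert_self l R')
      obtain ⟨a, ha, had, hax⟩ := C.exists_su_move hk (he l hlR).1 (h0 l hlR) (he l hlR).2
        (hf l (Finset.mem_insert_of_mem hlR))
      have hli : l ≠ i := fun e => hi (by subst e; exact hlR)
      have h1 := InJ.conj hG (ih fun j hj => hsub (Finset.mem_insert_of_mem hj)) (hG.su l a ha had)
        (acts_fu_ne hli.symm a)
      rw [map_smul, conjA_fu_pts hlR, if_neg hl, C.conjA_nr ha, hax] at h1
      convert h1 using 2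
      refine pts_congr fun j hj => ?_
      rcases eq_or_ne j l with rfl | hjl
      · simp
      · simp [hjl]
  have hr : C.σ (d / c) = d / c := by
    rw [map_div₀, eq_neg_of_add_eq_zero_right hd, eq_neg_of_add_eq_zero_right hc, neg_div_neg_eq]
  have h2 := ((key R subset_rfl).smul_norm hr).2 (f i) (hf i (Finset.mem_insert_self i R))
  rw [smul_smul, div_mul_cancel₀ _ hc0, mul_smul_comm] at h2
  convert h2 using 3
  rw [pts_insert hi]
  congr 1
  exact pts_congr fun j hj => by rw [if_pos hj]

theorem Pow.inJ {S : Finset (Fin t)} (h : C.Pow G S) {i : Fin t} (hi : i ∈ S) {e : Fin t → Fin k → F}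
    (he : ∀ l ∈ S, l ≠ i → C.ip (e l) (e l) = 0) {c : F} (hc : c + C.σ c = 0) :
    C.InJ G i (c • pts (S.erase i) fun l => C.nr (e l)) := by
  refine ⟨(com_pts (S.notMem_erase i) _).smul c, fun x hx => ?_⟩
  have h1 := h (Function.update e i x) (fun l hl => by
    rcases eq_or_ne l i with rfl | hli
    · rwa [Function.update_self]
    · rw [Function.update_of_ne hli]; exact he l hl hli) c hc
  rw [pts_erase hi, Function.update_self, pts_congr (Y := fun l => C.nr (e l))
    fun j hj => by rw [Function.update_of_ne (Finset.ne_of_mem_erase hj)]] at h1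
  rw [mul_smul_comm]
  exact h1

theorem Pow.perm (hG : C.Over G) (hk : 3 ≤ k) (ht : 3 ≤ t) {S : Finset (Fin t)} (h : C.Pow G S)
    (s : Equiv.Perm (Fin t)) : C.Pow G (S.map s.toEmbedding) := by
  intro f hf c hc
  obtain ⟨g, hg, hga⟩ := hG.perm ht s
  have hga' : ∀ l, ∃ a, C.Iso a.val ∧ Acts g l (s l) a := fun l =>
    C.exists_iso_acts (by omega) (hG.iso g hg) (hga l).choose_spec
  choose a ha hact using hga'
  have hval : ∀ l, (a l).val *ᵥ (((a l)⁻¹).val *ᵥ f (s l)) = f (s l) := fun l => by
    rw [Matrix.mulVec_mulVec, Units.mul_inv, Matrix.one_mulVec]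
  have h1 := (h (fun l => ((a l)⁻¹).val *ᵥ f (s l)) (fun l hl => by
    rw [C.ip_iso (Iso.inv C (ha l))]; exact hf _ (Finset.mem_map_of_mem _ hl)) c hc).conj hg
  rw [map_add, map_one, map_smul, conjA_pts s hact] at h1
  rw [pts_congr (Y := fun l => C.nr (f l))
    fun l hl => by rw [C.conjA_nr (ha _), hval, Equiv.apply_symm_apply]] at h1
  exact h1

/-- An isotropic triangle with any product of the three values. -/
theorem exists_triangle (hk : 3 ≤ k) (ν : F) :
    ∃ x e f : Fin k → F, C.ip x x = 0 ∧ C.ip e e = 0 ∧ C.ip f f = 0 ∧ C.ip x f * C.ip f e * C.ip e x = ν := by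
  obtain ⟨e, he0, he⟩ := C.exists_isotropic (k := k) (by omega)
  obtain ⟨f, z, hf, hef, hfe, hez, hze, hfz, hzf, hzz⟩ := exists_frame (C := C) hk he0 he
  obtain ⟨m, hm⟩ : ∃ m, C.σ m * m * C.ip z z = -(ν + C.σ ν) := by
    by_cases h0 : ν + C.σ ν = 0
    · exact ⟨0, by rw [h0]; simp⟩
    · obtain ⟨m, hm⟩ := C.exists_norm (a := -(ν + C.σ ν) / C.ip z z) (div_ne_zero (neg_ne_zero.2 h0) hzz)
        (by rw [map_div₀, map_neg, map_add, C.invol, C.ip_swap, add_comm])
      exact ⟨m, by rw [hm, div_mul_cancel₀ _ hzz]⟩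
  refine ⟨C.σ ν • e + f + m • z, e, f, ?_, he, hf, ?_⟩
  · simp only [ip_add_left, ip_add_right, ip_smul_left, ip_smul_right, he, hf, hef, hfe, hez, hze, hfz, hzf,
      C.invol]
    linear_combination hm
  · simp only [ip_add_left, ip_add_right, ip_smul_left, ip_smul_right, he, hf, hef, hfe, hez, hze, hfz, hzf,
      C.invol]
    ring

theorem Pow.grow (hG : C.Over G) (hk : 3 ≤ k) {S : Finset (Fin t)} (h : C.Pow G S) (h2 : 2 ≤ S.card) {b : Fin t}
    (hb : b ∉ S) : C.Pow G (insert b S) := by
  classical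
  have ht : 3 ≤ t := by
    have := (insert b S).card_le_univ
    rw [Finset.card_insert_of_notMem hb, Fintype.card_fin] at this
    omega
  obtain ⟨a, ha⟩ := Finset.card_pos.1 (by omega : 0 < S.card)
  set O := S.erase a with hO
  have hbO : b ∉ O := fun e => hb (Finset.mem_of_mem_erase e)
  have haO : a ∉ O := S.notMem_erase a
  have hab : a ≠ b := fun e => hb (e ▸ ha)
  obtain ⟨l0, hl0⟩ : O.Nonempty := Finset.card_pos.1 (by rw [hO, Finset.card_erase_of_mem ha]; omega)
  have hS' : C.Pow G (insert b O) := by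
    have h1 := h.perm hG hk ht (Equiv.swap a b)
    convert h1 using 1
    ext j
    simp only [Finset.mem_map_equiv, Equiv.symm_swap, Finset.mem_insert, hO, Finset.mem_erase]
    rcases eq_or_ne j a with rfl | hja
    · simp [Equiv.swap_apply_left, hb, hab]
    rcases eq_or_ne j b with rfl | hjb
    · simp [Equiv.swap_apply_right, ha]
    simp [Equiv.swap_apply_of_ne_of_ne hja hjb, hja, hjb]
  obtain ⟨ν, hν⟩ := (C.cform (Fin k)).exists_not_fixed
  have hchoose : ∀ l, ∃ x e f : Fin k → F, C.ip x x = 0 ∧ C.ip e e = 0 ∧ C.ip f f = 0 ∧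
      C.ip x f * C.ip f e * C.ip e x = if l = l0 then ν else 1 := fun l => exists_triangle hk _
  choose x e f hx he hf hval using hchoose
  obtain ⟨c, hc0, hc⟩ := C.exists_skew
  obtain ⟨y, hy0, hy⟩ := C.exists_isotropic (k := k) (by omega)
  have hω : C.InJ G a (c • pts O fun l => C.nr (e l)) := h.inJ ha (fun l _ _ => he l) hc
  set Y := c • pts (insert b O) fun l => C.nr (if l = b then y else f l) with hY
  set ω := c • pts O fun l => C.nr (e l) with hωdef
  obtain ⟨g, hg, hgv⟩ : InM G (1 + Y) := hS' _ (fun l _ => by split_ifs; exacts [hy, hf l]) c hc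
  have hYcom : Com a Y := (com_pts (by simp [hab, haO]) _).smul c
  have hYY : Y * Y = 0 := by
    rw [hY, smul_mul_smul_comm, pts_mul, pts_eq_zero (Finset.mem_insert_self b O) (by simp [C.nr_mul_self hy]),
      smul_zero]
  have hgi : (g⁻¹).val = 1 - Y := left_inv_eq_right_inv (Units.inv_mul g) (by
    rw [hgv, (show ∀ Z : Matrix (Idx k t) (Idx k t) F, (1 + Z) * (1 - Z) = 1 - Z * Z from
      fun Z => by noncomm_ring) Y, hYY, sub_zero])
  have hact : Acts g a a 1 := fun X => by
    rw [conjA_one, conjA_apply, hgv, (((com_one a).add hYcom) X).eq.symm, mul_assoc, ← hgv, Units.mul_inv, mul_one]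
  have hYb : Y = fa b (C.nr y) * (c • pts O fun l => C.nr (f l)) := by
    rw [hY, pts_insert hbO, if_pos rfl, mul_smul_comm]
    congr 2
    exact pts_congr fun l hl => by rw [if_neg (fun e => hbO (by subst e; exact hl))]
  set Z := c • pts O fun l => C.nr (f l) with hZ
  have hZb : Com b Z := (com_pts hbO _).smul c
  have hωb : Com b ω := (com_pts hbO _).smul c
  have hYωY : Y * ω * Y = 0 := by
    rw [hYb, mul_assoc, mul_assoc, ← mul_assoc ω, ← ((hωb (C.nr y))).eq, mul_assoc, ← mul_assoc Z,
      ← (hZb (C.nr y)).eq, mul_assoc (fa b _) Z, ← mul_assoc, ← map_mul, C.nr_mul_self hy, map_zero, zero_mul]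
  have h1 : C.InJ G a (Y * ω - ω * Y) := by
    have h2 := (InJ.conj hG hω hg hact).sub hω
    rw [conjA_apply, hgv, hgi] at h2
    convert h2 using 1
    simp only [add_mul, mul_sub, one_mul, mul_one, hYωY]
    abel
  have h3 := h1.sand_all hG hk haO (x := x) fun l _ => hx l
  set P := pts O fun l => C.nr (x l) with hP
  have hbP : Com b P := com_pts hbO _
  set π := ∏ l ∈ O, C.ip (x l) (f l) * C.ip (f l) (e l) * C.ip (e l) (x l) with hπ
  have hπv : π = ν := by
    rw [hπ, Finset.prod_congr rfl fun l _ => hval l, Finset.prod_ite_eq' O l0 (fun _ => ν), if_pos hl0]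
  have e1 : P * (Z * ω) * P = (c * c * π) • pts O fun l => C.nr (x l) := by
    rw [hP, hZ, hωdef, smul_mul_smul_comm, mul_smul_comm, smul_mul_assoc, pts_mul, pts_mul, pts_mul,
      show (fun l => C.nr (x l) * (C.nr (f l) * C.nr (e l)) * C.nr (x l)) =
        fun l => (C.ip (x l) (f l) * C.ip (f l) (e l) * C.ip (e l) (x l)) • C.nr (x l) from funext fun l => by
          simp only [nr, C.op_mul, mul_smul_comm, smul_mul_assoc, smul_smul]
          congr 1; ring,
      pts_smul, smul_smul]
  have e2 : P * (ω * Z) * P = (c * c * C.σ π) • pts O fun l => C.nr (x l) := by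
    rw [hP, hZ, hωdef, smul_mul_smul_comm, mul_smul_comm, smul_mul_assoc, pts_mul, pts_mul, pts_mul,
      show (fun l => C.nr (x l) * (C.nr (e l) * C.nr (f l)) * C.nr (x l)) =
        fun l => C.σ (C.ip (x l) (f l) * C.ip (f l) (e l) * C.ip (e l) (x l)) • C.nr (x l) from funext fun l => by
          simp only [nr, C.op_mul, mul_smul_comm, smul_mul_assoc, smul_smul, map_mul, C.ip_swap]
          congr 1; ring,
      pts_smul, smul_smul, ← map_prod]
  have e3 : P * (Y * ω - ω * Y) * P =
      (c * c * (π - C.σ π)) • pts (insert b O) fun l => C.nr (if l = b then y else x l) := by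
    rw [hYb, ← mul_assoc ω, ← (hωb (C.nr y)).eq, mul_assoc (fa b _) ω, mul_assoc (fa b _) Z, ← mul_sub,
      ← mul_assoc P, ← (hbP (C.nr y)).eq, mul_assoc (fa b _) P, mul_assoc (fa b _), mul_sub, sub_mul, e1, e2,
      ← sub_smul, ← mul_sub, mul_smul_comm, pts_insert hbO, if_pos rfl]
    congr 2
    exact pts_congr fun l hl => by rw [if_neg (fun e => hbO (by subst e; exact hl))]
  rw [e3] at h3
  have h4 := pow_of_inJ hG hk (show a ∉ insert b O by simp [hab, haO]) (fun l hl => ?_)
    (mul_ne_zero (mul_ne_zero hc0 hc0) (sub_ne_zero.2 (Ne.symm (by rw [hπv]; exact hν)))) h3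
  · convert h4 using 1
    rw [Finset.insert_comm, hO, Finset.insert_erase ha]
  · split_ifs with hlb
    · exact ⟨hy0, hy⟩
    · refine ⟨fun h0 => ?_, hx l⟩
      have := hval l
      rw [h0, C.ip_zero_left, zero_mul, zero_mul] at this
      split_ifs at this
      · exact hν (by rw [← this, map_zero])
      · exact zero_ne_one this

/-- All products of isotropic rank one maps at all factors. -/
theorem pow_univ (hG : C.Over G) (hk : 3 ≤ k) (hL : ¬ C.Losing G) : C.Pow G Finset.univ := by
  classical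
  simp only [Losing, not_forall, not_exists] at hL
  obtain ⟨i, ω, hω, hns⟩ := hL
  obtain ⟨R, e, c, hiR, hR, he, hc0, hJ⟩ := extract hG hk hω hns
  have h0 := pow_of_inJ hG hk hiR he hc0 hJ
  suffices key : ∀ U : Finset (Fin t), C.Pow G (U ∪ insert i R) by
    have h1 := key Finset.univ
    rwa [Finset.union_eq_left.2 (Finset.subset_univ _)] at h1
  intro U
  induction U using Finset.induction_on with
  | empty => rwa [Finset.empty_union]
  | insert b U _ ih =>
    rw [Finset.insert_union]
    by_cases hb : b ∈ U ∪ insert i R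
    · rwa [Finset.insert_eq_of_mem hb]
    refine ih.grow hG hk ?_ hb
    refine le_trans ?_ (Finset.card_le_card Finset.subset_union_right)
    rw [Finset.card_insert_of_notMem hiR]
    have := hR.card_pos
    omega

end Cj

end Cfsg.Lib.Linear.UWreath
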