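import Cfsg.Agent.Lib.Linear.UTensor.Stab

/-!
# The stabiliser of a pure slab, for a group containing one factor only

The group need only contain the isometries of determinant one of the second factor; the element need only be an
isometry conjugating them into the group.
-/

set_option autoImplicit false
set_option linter.unusedSectionVars false
set_option linter.unusedVariables false

namespace Cfsg.Lib.Linear.UWreath.Stab

open Module
open Cfsg.Lib.Linear Cfsg.Lib.Linear.UTensor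

variable {F V U W : Type*} [Field F] [Finite F]
  [AddCommGroup V] [Module F V] [FiniteDimensional F V]
  [AddCommGroup U] [Module F U] [FiniteDimensional F U]
  [AddCommGroup W] [Module F W] [FiniteDimensional F W]
  {σ : F →+* F} {B : V →ₛₗ[σ] V →ₗ[F] F} {α : U →ₛₗ[σ] U →ₗ[F] F} {β : W →ₛₗ[σ] W →ₗ[F] F}
  {τ : U →ₗ[F] W →ₗ[F] V}

/-- The element acts by an isometry of determinant one of the second factor alone. -/
def IsRight (β : W →ₛₗ[σ] W →ₗ[F] F) (τ : U →ₗ[F] W →ₗ[F] V) (g : V ≃ₗ[F] V) : Prop :=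
  ∃ q ∈ Herm.iso β, LinearEquiv.det q = 1 ∧ ∀ a x, g (τ a x) = τ a (q x)

/-- A group of isometries containing the right elements. -/
structure RightOver (B : V →ₛₗ[σ] V →ₗ[F] F) (β : W →ₛₗ[σ] W →ₗ[F] F) (τ : U →ₗ[F] W →ₗ[F] V)
    (L : Subgroup (V ≃ₗ[F] V)) : Prop where
  iso : L ≤ Herm.iso B
  right : ∀ g, IsRight β τ g → g ∈ L

/-- The element conjugates the right elements into the group. -/
def Nice (β : W →ₛₗ[σ] W →ₗ[F] F) (τ : U →ₗ[F] W →ₗ[F] V) (L : Subgroup (V ≃ₗ[F] V)) (h : V ≃ₗ[F] V) : Prop :=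
  ∀ g, IsRight β τ g → h * g * h⁻¹ ∈ L

variable (T : Ten B α β τ) {L : Subgroup (V ≃ₗ[F] V)}
include T

theorem exists_eichR {x y : W} (hx : β x x = 0) (hyx : β y x = 0) {c : F} (hc : c + σ c = -β y y) :
    ∃ g : V ≃ₗ[F] V, IsRight β τ g ∧ ∀ v, g v = v + T.eich x y c v := by
  have hxy := T.cβ.swap_zero hyx
  let D : W →ₗ[F] W := (β x).smulRight y + (c • β x - β y).smulRight x
  have hD : ∀ z, D z = β x z • y + (c * β x z - β y z) • x := fun z => rfl
  obtain ⟨q, hq, hqz⟩ := T.cβ.exists_equiv (1 + D) fun z w => by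
    simp only [LinearMap.add_apply, Module.End.one_apply, hD, map_add, map_smul, LinearMap.map_smulₛₗ,
      LinearMap.smul_apply, smul_eq_mul, map_sub, map_mul, hx, hxy, hyx, ← T.cβ.flip_apply]
    linear_combination (β z x * β x w) * hc
  have hnil : IsNilpotent ((q : W →ₗ[F] W) - 1) := by
    refine ⟨3, LinearMap.ext fun z => ?_⟩
    have e : (q : W →ₗ[F] W) - 1 = D := LinearMap.ext fun z => by
      rw [LinearMap.sub_apply, LinearEquiv.coe_coe, hqz, LinearMap.add_apply, Module.End.one_apply,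
        add_sub_cancel_left]
    rw [e, pow_succ, pow_two]
    simp [Module.End.mul_apply, hD, hx, hxy, hyx]
  have hdet := det_eq_one_of_nilpotent q hnil
  obtain ⟨g, -, -, hgv⟩ := T.exists_right hq hdet
  refine ⟨g, ⟨q, hq, hdet, hgv⟩, LinearMap.congr_fun (T.hom_ext (f := (g : V →ₗ[F] V))
    (g := LinearMap.id + T.eich x y c) fun a z => ?_)⟩
  rw [LinearEquiv.coe_coe, hgv, hqz, LinearMap.add_apply, Module.End.one_apply, hD, LinearMap.add_apply,
    LinearMap.id_apply, Ten.eich_apply, T.ctr_tau, T.ctr_tau]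
  simp only [map_add, map_smul, LinearMap.smul_apply]
  module

theorem iso_ctrR {g : V ≃ₗ[F] V} (hg : g ∈ Herm.iso B) {x y : W} {p : U →ₗ[F] U}
    (hgx : ∀ a, g (τ a x) = τ (p a) y) (v : V) : T.adj p (T.ctr y (g v)) = T.ctr x v :=
  T.cα.ext_right fun c => by rw [T.α_adj', T.α_ctr, T.α_ctr, ← hgx, hg]

theorem ctr_fixR {u : V ≃ₗ[F] V} (hu : u ∈ Herm.iso B) {x : W} (h : ∀ a, u (τ a x) = τ a x) (v : V) :
    T.ctr x (u v) = T.ctr x v := by
  have := iso_ctrR T hu (p := LinearMap.id) h v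
  rwa [T.adj_id] at this

variable {T} (hL : RightOver B β τ L) (hR : T.Losing L)
  (hex : (∃ a : F, a ≠ 0 ∧ σ a * a ≠ 1) ∨ 4 ≤ finrank F W)
include hL hR hex

/-- An element `1 + x x ω` conjugating the right elements into the group has scalar coefficient. -/
theorem scalar_of_comm {w : V ≃ₗ[F] V} (hw : w ∈ Herm.iso B) (hn : Nice β τ L w) {x : W} (hx : x ≠ 0)
    (hxx : β x x = 0) {ω : U →ₗ[F] U} (hwv : ∀ a z, w (τ a z) = τ a z + β x z • τ (ω a) x) :
    ∃ d : F, ω = d • LinearMap.id := by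
  have hwx : ∀ a, w (τ a x) = τ a x := fun a => by rw [hwv, hxx, zero_smul, add_zero]
  have hwi : ∀ a z, w⁻¹ (τ a z) = τ a z - β x z • τ (ω a) x := fun a z => w.injective (by
    rw [equiv_apply_inv, map_sub, map_smul, hwx, hwv, add_sub_cancel_right])
  have hwix : ∀ a, w⁻¹ (τ a x) = τ a x := fun a => by rw [hwi, hxx, zero_smul, sub_zero]
  rcases hex with ⟨a₀, ha0, ha1⟩ | h4
  · obtain ⟨q, hq, hd, hqx⟩ := T.cβ.exists_su_map_iso T.hW hx (smul_ne_zero ha0 hx) hxx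
      (y := a₀ • x) (by simp [hxx])
    obtain ⟨g, -, -, hgv⟩ := T.exists_right hq hd
    have hg : IsRight β τ g := ⟨q, hq, hd, hgv⟩
    have h1 : InA L (T.lin x x ((1 - σ a₀ * a₀) • ω)) := by
      refine ⟨w * g * w⁻¹ * g⁻¹, mul_mem (hn g hg) (inv_mem (hL.right g hg)), fun v => ?_⟩
      refine LinearMap.congr_fun (T.hom_ext (f := ((w * g * w⁻¹ * g⁻¹ : V ≃ₗ[F] V) : V →ₗ[F] V))
        (g := LinearMap.id + T.lin x x ((1 - σ a₀ * a₀) • ω)) fun a z => ?_) v
      obtain ⟨z, rfl⟩ : ∃ y, q y = z := ⟨q.symm z, q.apply_symm_apply z⟩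
      have h2 : β x (q z) * σ a₀ = β x z := by
        conv_rhs => rw [← hq x z, hqx]
        simp [mul_comm]
      rw [LinearEquiv.coe_coe, LinearEquiv.mul_apply, LinearEquiv.mul_apply, LinearEquiv.mul_apply, ← hgv,
        equiv_inv_apply, hwi, map_sub, map_smul, hgv, hgv, hqx, map_sub, map_smul, map_smul (τ (ω a)), map_smul,
        hwv, hwx, LinearMap.add_apply, LinearMap.id_apply, T.lin_tau, LinearMap.smul_apply, map_smul,
        LinearMap.smul_apply, ← h2]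
      module
    obtain ⟨d, hd'⟩ := hR x _ hx hxx h1
    refine ⟨(1 - σ a₀ * a₀)⁻¹ * d, ?_⟩
    rw [← smul_smul, ← hd', smul_smul, inv_mul_cancel₀ (sub_ne_zero.2 (Ne.symm ha1)), one_smul]
  obtain ⟨x', hx'', hxx'⟩ := T.cβ.exists_partner hx hxx
  obtain ⟨y, hyP, hy0, hyy⟩ := Herm.exists_iso_ne_zero T.cβ.ne_id T.cβ.invol T.cβ.symm (T.cβ.perp2 x x')
    (by have := T.cβ.finrank_perp2 x x'; omega)
  obtain ⟨hxy, hx'y⟩ := T.cβ.mem_perp2.1 hyP
  have hyx := T.cβ.swap_zero hxy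
  have hyx' := T.cβ.swap_zero hx'y
  -- the short elements
  let S : F → (V →ₗ[F] V) := fun l =>
    l • T.lin x y ω + σ l • T.lin y x ω + (σ l * l) • T.lin y y ω
  have hS : ∀ l, InA L (S l) := fun l => by
    obtain ⟨E, hE, hEv⟩ := exists_eichR T (x := y) (y := l • x') hyy (by simp [hx'y])
      (c := 0) (by simp [hx''])
    refine ⟨E⁻¹ * (w * E * w⁻¹), mul_mem (inv_mem (hL.right E hE)) (hn E hE), fun v => ?_⟩
    refine LinearMap.congr_fun (T.hom_ext (f := ((E⁻¹ * (w * E * w⁻¹) : V ≃ₗ[F] V) : V →ₗ[F] V))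
      (g := LinearMap.id + S l) fun a z => E.injective ?_) v
    rw [LinearEquiv.coe_coe, LinearEquiv.mul_apply, equiv_apply_inv, LinearEquiv.mul_apply, LinearEquiv.mul_apply,
      hwi, LinearMap.add_apply, LinearMap.id_apply]
    simp only [S, LinearMap.add_apply, LinearMap.smul_apply, T.lin_tau, hEv, Ten.eich_apply, map_add, map_sub,
      map_smul, LinearMap.map_smulₛₗ, LinearMap.smul_apply, T.ctr_tau, hwv, hyy, hyx, hxy, hxx, hxx',
      T.cβ.swap_one hxx', hx'y]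
    module
  obtain ⟨μ, hμ⟩ := Herm.exists_trace_eq T.cB.ne_id T.invol (a := (-1 : F)) (by simp)
  have hmul : ∀ l m v, S l (S m v) = 0 := fun l m v => by
    simp [S, Ten.lin_apply, T.ctr_tau, hxx, hxy, hyx, hyy]
  have h1 : InA L (T.lin y y ω) := by
    refine ((hS 1).add ((hS μ).add ((hS (1 + μ)).neg (hmul _ _)) fun v => ?_) fun v => ?_).congr fun v => ?_
    · rw [LinearMap.neg_apply, map_neg, hmul, neg_zero]
    · show S 1 (S μ v + -(S (1 + μ) v)) = 0
      rw [map_add, map_neg, hmul, hmul, neg_zero, add_zero]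
    · simp only [S, map_one, map_add, LinearMap.add_apply, LinearMap.neg_apply, LinearMap.smul_apply]
      linear_combination (norm := module) (congrArg (fun r : F => -(r • T.lin y y ω v)) hμ)
  exact hR y ω hy0 hyy h1

/-- An element inducing a map on `U ⊗ x` induces a multiple of an isometry. -/
theorem line_factor {h : V ≃ₗ[F] V} (hhi : h ∈ Herm.iso B) (hn : Nice β τ L h) {x : W} (hx : x ≠ 0) (hxx : β x x = 0)
    (hX : ∀ a, ∃ b, h (τ a x) = τ b x) :
    ∃ p ∈ Herm.iso α, ∃ c : F, c ≠ 0 ∧ (∀ a, h (τ a x) = c • τ (p a) x) ∧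
      ∀ v, T.ctr x (h v) = (σ c)⁻¹ • p (T.ctr x v) := by
  obtain ⟨x', -, hxx'⟩ := T.cβ.exists_partner hx hxx
  set ψ : U →ₗ[F] U := T.ctr x' ∘ₗ (h : V →ₗ[F] V) ∘ₗ τ.flip x with hψ
  have hψa : ∀ a, h (τ a x) = τ (ψ a) x := fun a => by
    obtain ⟨b, hb⟩ := hX a
    rw [hb, hψ, LinearMap.comp_apply, LinearMap.comp_apply, LinearMap.flip_apply, LinearEquiv.coe_coe, hb,
      T.ctr_tau, T.cβ.swap_one hxx', one_smul]
  have hψi : Function.Injective ψ := fun a b hab => T.tau_inj hx (h.injective (by rw [hψa, hψa, hab]))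
  have hctr := iso_ctrR T hhi hψa
  obtain ⟨y, hy0, hy⟩ := Herm.exists_trace_zero T.cB.ne_id T.invol
  obtain ⟨E, hE, hEv⟩ := exists_eichR T (x := x) (y := 0) hxx (by simp) (c := y) (by simp [hy])
  obtain ⟨d, hd⟩ := hR x (y • (ψ ∘ₗ T.adj ψ)) hx hxx ⟨h * E * h⁻¹, hn E hE, fun v => by
    obtain ⟨w, rfl⟩ : ∃ w, h w = v := ⟨h⁻¹ v, equiv_apply_inv h v⟩
    rw [LinearEquiv.mul_apply, equiv_inv_apply, LinearEquiv.mul_apply, hEv, T.eich_zero]
    simp only [Ten.lin_apply, LinearMap.smul_apply, LinearMap.comp_apply, LinearMap.id_apply, map_add, map_smul,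
      hctr, hψa]⟩
  set l := d / y with hl
  have hψψ : ψ ∘ₗ T.adj ψ = l • LinearMap.id := by
    rw [hl, div_eq_inv_mul, ← smul_smul, ← hd, smul_smul, inv_mul_cancel₀ hy0, one_smul]
  obtain ⟨a₀, ha₀⟩ := T.exists_ne_zero
  have hlσ : σ l = l := by
    have h1 := congrArg (fun φ : U →ₗ[F] U => φ a₀) (congrArg T.adj hψψ)
    simp only [T.adj_comp, T.adj_adj, T.adj_smul, T.adj_id] at h1
    have h2 := congrArg (fun φ : U →ₗ[F] U => φ a₀) hψψ
    simp only [LinearMap.smul_apply, LinearMap.id_apply] at h1 h2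
    exact smul_left_injective F ha₀ (h1.symm.trans h2)
  have hl0 : l ≠ 0 := fun e => by
    obtain ⟨b, hb⟩ : ∃ b, ψ b = a₀ := LinearMap.surjective_of_injective hψi a₀
    obtain ⟨c, hc⟩ := T.cα.exists_pairing ha₀
    have h1 : T.adj ψ c = 0 := hψi (by
      rw [map_zero, ← LinearMap.comp_apply, hψψ, e, zero_smul, LinearMap.zero_apply])
    have h2 := T.α_adj ψ c b
    rw [h1, map_zero, LinearMap.zero_apply, hb, T.cα.swap_one hc] at h2
    exact zero_ne_one h2
  obtain ⟨c, hc⟩ := Herm.exists_norm_fixed T.cB.ne_id T.invol hl0 hlσ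
  have hc0 : c ≠ 0 := fun e => hl0 (by rw [← hc, e]; simp)
  have hσc0 : σ c ≠ 0 := by simpa using hc0
  have h1 : (c⁻¹ • ψ) ∘ₗ T.adj (c⁻¹ • ψ) = LinearMap.id := by
    rw [T.adj_smul, LinearMap.smul_comp, LinearMap.comp_smul, hψψ, smul_smul, smul_smul, map_inv₀, ← hc]
    rw [show c⁻¹ * (σ c)⁻¹ * (σ c * c) = 1 by field_simp, one_smul]
  have h2 : T.adj (c⁻¹ • ψ) ∘ₗ (c⁻¹ • ψ) = LinearMap.id := mul_eq_one_comm.1 (show (c⁻¹ • ψ) * T.adj (c⁻¹ • ψ) = 1 from h1)
  obtain ⟨p, hp, hpa⟩ := T.cα.exists_equiv (c⁻¹ • ψ) fun a b => by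
    rw [← T.α_adj' (c⁻¹ • ψ) a, ← LinearMap.comp_apply (f := T.adj (c⁻¹ • ψ)), h2, LinearMap.id_apply]
  refine ⟨p, hp, c, hc0, fun a => ?_, fun v => ?_⟩
  · rw [hψa, hpa, LinearMap.smul_apply, map_smul, LinearMap.smul_apply, smul_smul, mul_inv_cancel₀ hc0, one_smul]
  · conv_rhs => rw [← hctr v, hpa, LinearMap.smul_apply, ← LinearMap.comp_apply, hψψ, LinearMap.smul_apply,
      LinearMap.id_apply, smul_smul, smul_smul, ← hc]
    rw [show (σ c)⁻¹ * c⁻¹ * (σ c * c) = 1 by field_simp, one_smul]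

/-- An element trivial on `U ⊗ x` and on `(U ⊗ x)⊥` modulo it acts on the second factor. -/
theorem rad_scalar {u : V ≃ₗ[F] V} (hui : u ∈ Herm.iso B) (hn : Nice β τ L u) {x : W} (hx : x ≠ 0) (hxx : β x x = 0)
    (hX : ∀ a, u (τ a x) = τ a x) (hperp : ∀ v, T.ctr x v = 0 → ∃ b, u v = v + τ b x) :
    IsProd α β τ u ∧ ∃ Q : W →ₗ[F] W, ∀ a z, u (τ a z) = τ a (Q z) := by
  classical
  obtain ⟨x', -, hxx'⟩ := T.cβ.exists_partner hx hxx
  have hx'x := T.cβ.swap_one hxx'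
  let χ : W → (U →ₗ[F] U) := fun z => T.ctr x' ∘ₗ ((u : V →ₗ[F] V) - LinearMap.id) ∘ₗ τ.flip z
  have hχ : ∀ z, β x z = 0 → ∀ a, u (τ a z) = τ a z + τ (χ z a) x := fun z hz a => by
    obtain ⟨b, hb⟩ := hperp (τ a z) (by rw [T.ctr_tau, hz, zero_smul])
    rw [hb]
    show _ = τ a z + τ (T.ctr x' ((u : V →ₗ[F] V) (τ a z) - τ a z)) x
    rw [LinearEquiv.coe_coe, hb, add_sub_cancel_left, T.ctr_tau, hx'x, one_smul]
  have hfix := ctr_fixR T hui hX
  have hskew : ∀ z, β x z = 0 → ∃ d : F, χ z - T.adj (χ z) = d • LinearMap.id := fun z hz => by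
    have hzx := T.cβ.swap_zero hz
    obtain ⟨c, hc⟩ := Herm.exists_trace_eq T.cB.ne_id T.invol (a := -β z z) (by rw [map_neg, T.cβ.self_fixed])
    obtain ⟨E, hE, hEv⟩ := exists_eichR T hxx hzx hc
    refine hR x _ hx hxx ⟨u * E * u⁻¹ * E⁻¹, mul_mem (hn E hE) (inv_mem (hL.right E hE)), fun v => ?_⟩
    obtain ⟨w, rfl⟩ : ∃ w, E (u w) = v :=
      ⟨u⁻¹ (E⁻¹ v), by rw [equiv_apply_inv, equiv_apply_inv]⟩
    rw [LinearEquiv.mul_apply, equiv_inv_apply, LinearEquiv.mul_apply, equiv_inv_apply, LinearEquiv.mul_apply,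
      hEv, hEv]
    have h1 : T.ctr z (u w) = T.ctr z w - T.adj (χ z) (T.ctr x w) := by
      refine T.cα.ext_right fun a => ?_
      rw [T.α_ctr, map_sub, T.α_adj', T.α_ctr, T.α_ctr]
      have h3 := hui (τ a z) w
      rw [hχ z hz a, map_add, LinearMap.add_apply, ← T.α_ctr x (u w), hfix, T.α_ctr] at h3
      linear_combination h3
    have hk : T.ctr x (τ (T.ctr x w) z - τ (T.ctr z (u w)) x + c • τ (T.ctr x w) x) = 0 := by
      simp [T.ctr_tau, hz, hxx]
    simp only [Ten.eich_apply, map_add, map_sub, map_smul, hfix, hχ z hz, hX, Ten.lin_apply] at hk ⊢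
    simp only [h1, map_sub, LinearMap.sub_apply, T.ctr_tau, hz, hxx, zero_smul, map_zero, LinearMap.zero_apply,
      smul_zero, sub_zero, add_zero]
    module
  obtain ⟨t, ht⟩ := T.cB.exists_not_fixed
  have hsc : ∀ z, β x z = 0 → ∃ d : F, χ z = d • LinearMap.id := fun z hz => by
    obtain ⟨d, hd⟩ := hskew z hz
    obtain ⟨e, he⟩ := hskew (t • z) (by rw [map_smul, hz, smul_zero])
    have hlin : χ (t • z) = t • χ z := LinearMap.ext fun a => by
      simp [χ, LinearMap.flip_apply, map_smul, smul_sub]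
    rw [hlin, T.adj_smul] at he
    refine ⟨(e - σ t * d) / (t - σ t), ?_⟩
    have h1 : (t - σ t) • χ z = (e - σ t * d) • LinearMap.id := by
      rw [sub_smul, sub_smul, mul_smul, ← hd, ← he, smul_sub]; abel
    rw [div_eq_inv_mul, mul_smul, ← h1, smul_smul, inv_mul_cancel₀ (sub_ne_zero.2 (Ne.symm ht)), one_smul]
  obtain ⟨a₀, ha₀⟩ := T.exists_ne_zero
  obtain ⟨b₀, hb₀⟩ := T.cα.exists_pairing ha₀
  let s : W →ₗ[F] F := (α a₀) ∘ₗ T.ctr x' ∘ₗ ((u : V →ₗ[F] V) - LinearMap.id) ∘ₗ τ b₀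
  have hs : ∀ z, s z = α a₀ (χ z b₀) := fun z => rfl
  have hus : ∀ z, β x z = 0 → ∀ a, u (τ a z) = τ a z + s z • τ a x := fun z hz a => by
    obtain ⟨d, hd⟩ := hsc z hz
    rw [hχ z hz, hs, hd]
    simp [hb₀]
  obtain ⟨y, hy⟩ := Herm.exists_eq_apply T.cβ.invol T.cβ.ndeg s
  have hyz : ∀ z, β y z = s z := fun z => LinearMap.congr_fun hy z
  have hyx : β y x = 0 := by
    rw [hyz, hs]
    simp [χ, LinearMap.flip_apply, hX]
  obtain ⟨c, hc⟩ := Herm.exists_trace_eq T.cB.ne_id T.invol (a := -β y y) (by rw [map_neg, T.cβ.self_fixed])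
  obtain ⟨E, hEr, hEv⟩ := exists_eichR T hxx hyx hc
  have hE := hL.right E hEr
  have hEp : IsProd α β τ E := by
    obtain ⟨q, hq, -, hgv⟩ := hEr
    exact ⟨1, one_mem _, q, hq, fun a z => by rw [hgv]; rfl⟩
  have hu1 : ∀ z, β x z = 0 → ∀ a, E (u (τ a z)) = τ a z := fun z hz a => by
    rw [hus z hz, hEv, Ten.eich_apply]
    simp [T.ctr_tau, hz, hxx, hyx, hyz z]
  have hline : ∀ v, ∃ b, E (u v) - v = τ b x := fun v => by
    refine T.mem_line hx fun z hz => ?_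
    have := ctr_fixR T (u := E * u) (mul_mem (hL.iso hE) hui) (fun a => hu1 z (T.cβ.swap_zero hz) a) v
    rw [map_sub, ← LinearEquiv.mul_apply, this, sub_self]
  set ω : U →ₗ[F] U := T.ctr x' ∘ₗ (((E * u : V ≃ₗ[F] V) : V →ₗ[F] V) - LinearMap.id) ∘ₗ τ.flip x' with hω
  have hEu : ∀ a z, E (u (τ a z)) = τ a z + β x z • τ (ω a) x := fun a z => by
    have h1 := hu1 (z - β x z • x') (by rw [map_sub, map_smul, hxx', smul_eq_mul, mul_one, sub_self]) a
    obtain ⟨b, hb⟩ := hline (τ a x')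
    have h2 : ω a = b := by
      show T.ctr x' (E (u (τ a x')) - τ a x') = b
      rw [hb, T.ctr_tau, hx'x, one_smul]
    simp only [map_sub, map_smul] at h1
    rw [eq_add_of_sub_eq hb] at h1
    rw [h2]
    linear_combination (norm := module) h1
  have hnE : Nice β τ L (E * u) := fun g hg => by
    rw [show E * u * g * (E * u)⁻¹ = E * (u * g * u⁻¹) * E⁻¹ by group]
    exact mul_mem (mul_mem hE (hn g hg)) (inv_mem hE)
  obtain ⟨d, hd⟩ := scalar_of_comm hL hR hex (mul_mem (hL.iso hE) hui) hnE hx hxx hEu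
  have hQ' : ∀ a z, (E * u) (τ a z) = τ a ((LinearMap.id + (d • β x).smulRight x : W →ₗ[F] W) z) := fun a z => by
    rw [LinearEquiv.mul_apply, hEu, hd]
    simp [smul_smul, mul_comm d]
  have hprod : IsProd α β τ u := by
    have h1 := T.isProd_of (mul_mem (hL.iso hE) hui) LinearMap.id _ hQ'
    have h2 := hEp.inv.mul h1
    rwa [inv_mul_cancel_left] at h2
  refine ⟨hprod, ?_⟩
  -- an element acting trivially on the first factor at one vector acts trivially at all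
  obtain ⟨p, -, q, hq, hpq⟩ := hprod
  have hqx : ∃ e : F, e ≠ 0 ∧ q x = e • x := by
    obtain ⟨f, hf⟩ := T.cα.exists_pairing (show p⁻¹ a₀ ≠ 0 from fun h => ha₀ (by
      rw [← equiv_apply_inv p a₀, h, map_zero]))
    obtain ⟨x₁, hx₁⟩ := T.cβ.exists_pairing hx
    refine ⟨β x₁ (q x), fun h => ?_, ?_⟩
    · have h1 := congrArg (T.ctr x₁) ((hX b₀).symm.trans (hpq b₀ x))
      rw [T.ctr_tau, T.ctr_tau, T.cβ.swap_one hx₁, h, one_smul, zero_smul] at h1
      rw [h1, map_zero] at hb₀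
      exact zero_ne_one hb₀
    · have h1 := hX (p⁻¹ b₀)
      rw [hpq, equiv_apply_inv] at h1
      have h2 : ∀ z, β z (q x) • b₀ = β z x • (p⁻¹ b₀) := fun z => by
        rw [← T.ctr_tau, h1, T.ctr_tau]
      refine T.cβ.ext_right fun z => ?_
      have h3 := h2 x₁
      rw [T.cβ.swap_one hx₁, one_smul] at h3
      have h4 := h2 z
      rw [← h3, smul_smul] at h4
      rw [map_smul, smul_eq_mul]
      refine smul_left_injective F (fun e : b₀ = 0 => ?_) (h4.trans (by rw [mul_comm]))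
      rw [e, map_zero] at hb₀
      exact zero_ne_one hb₀
  obtain ⟨e, he0, he⟩ := hqx
  refine ⟨e⁻¹ • (q : W →ₗ[F] W), fun a z => ?_⟩
  have h1 : p a = e⁻¹ • a := T.tau_inj hx (by
    have := hX a
    rw [hpq, he, map_smul] at this
    rw [map_smul, LinearMap.smul_apply]
    conv_rhs => rw [← this]
    rw [smul_smul, inv_mul_cancel₀ he0, one_smul])
  rw [hpq, h1]
  simp

/-- An element preserving `U ⊗ x` respects the decomposition. -/
theorem stab {h : V ≃ₗ[F] V} (hhi : h ∈ Herm.iso B) (hn : Nice β τ L h) {x : W} (hx : x ≠ 0) (hxx : β x x = 0)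
    (hX : ∀ a, ∃ b, h (τ a x) = τ b x) : IsProd α β τ h := by
  classical
  obtain ⟨p, hp, c, hc0, hpa, hctr⟩ := line_factor hL hR hex hhi hn hx hxx hX
  have hσc0 : σ c ≠ 0 := by simpa using hc0
  obtain ⟨x', hx'', hxx'⟩ := T.cβ.exists_partner hx hxx
  have hx'x := T.cβ.swap_one hxx'
  set P := T.cβ.perp2 x x' with hP
  have hPm : ∀ {y}, y ∈ P ↔ β x y = 0 ∧ β x' y = 0 := T.cβ.mem_perp2
  obtain ⟨a₀, ha₀⟩ := T.exists_ne_zero
  -- the action on the vectors of the middle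
  have key : ∀ y : P, ∃ y' : P, ∀ a, ∃ b, h (τ a (y : W)) = τ (p a) (y' : W) + τ b x := by
    rintro ⟨y, hy⟩
    obtain ⟨hxy, hx'y⟩ := hPm.1 hy
    have hyx := T.cβ.swap_zero hxy
    have hyx' := T.cβ.swap_zero hx'y
    obtain ⟨c₀, hc₀⟩ := Herm.exists_trace_eq T.cB.ne_id T.invol (a := -β y y) (by rw [map_neg, T.cβ.self_fixed])
    obtain ⟨E, hE, hEv⟩ := exists_eichR T hxx hyx hc₀
    have hR' : h * E * h⁻¹ ∈ L := hn E hE
    have hnR : Nice β τ L (h * E * h⁻¹) := fun g hg => mul_mem (mul_mem hR' (hL.right g hg)) (inv_mem hR')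
    have hfix : ∀ a, (h * E * h⁻¹) (τ a x) = τ a x := fun a => by
      have h0 : h⁻¹ (τ a x) = c⁻¹ • τ (p⁻¹ a) x := by
        apply h.injective
        rw [equiv_apply_inv, map_smul, hpa, equiv_apply_inv, smul_smul, inv_mul_cancel₀ hc0, one_smul]
      rw [LinearEquiv.mul_apply, LinearEquiv.mul_apply, h0, hEv, Ten.eich_apply]
      simp [T.ctr_tau, hxx, hyx, hpa, smul_smul, inv_mul_cancel₀ hc0]
    have hperp : ∀ v, T.ctr x v = 0 → ∃ b, (h * E * h⁻¹) v = v + τ b x := fun v hv => by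
      obtain ⟨w, rfl⟩ : ∃ w, h w = v := ⟨h⁻¹ v, equiv_apply_inv h v⟩
      rw [hctr, smul_eq_zero, or_iff_right (inv_ne_zero hσc0), LinearEquiv.map_eq_zero_iff] at hv
      refine ⟨-(c • p (T.ctr y w)), ?_⟩
      rw [LinearEquiv.mul_apply, equiv_inv_apply, LinearEquiv.mul_apply, hEv, Ten.eich_apply, hv]
      simp [hpa, sub_eq_add_neg]
    obtain ⟨-, Q, hQ⟩ := rad_scalar hL hR hex (hL.iso hR') hnR hx hxx hfix hperp
    set y'' : W := (σ c)⁻¹ • (Q x' - x')
    have h1 : ∀ a, ∃ b, h (τ a y) = τ (p a) y'' + τ b x := fun a => by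
      set v := h (τ a x') with hv
      have hcv : T.ctr x v = (σ c)⁻¹ • p a := by rw [hv, hctr, T.ctr_tau, hxx', one_smul]
      obtain ⟨b, hb⟩ := hperp (v - τ (T.ctr x v) x') (by rw [map_sub, T.ctr_tau, hxx', one_smul, sub_self])
      have h2 : (h * E * h⁻¹) v = v + h (τ a y) + (c₀ * c) • τ (p a) x := by
        rw [LinearEquiv.mul_apply, hv, equiv_inv_apply, LinearEquiv.mul_apply, hEv, Ten.eich_apply]
        simp [T.ctr_tau, hxx', hyx', hpa, smul_smul, add_assoc]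
      refine ⟨b - (c₀ * c) • p a, ?_⟩
      rw [map_sub, hQ, h2, hcv] at hb
      simp only [map_smul, LinearMap.smul_apply, map_sub, LinearMap.sub_apply, y'', smul_sub] at hb ⊢
      linear_combination (norm := module) hb
    clear_value y''
    refine ⟨⟨y'' - β x' y'' • x, hPm.2 ⟨?_, ?_⟩⟩, fun a => ?_⟩
    · rw [map_sub, map_smul, hxx, smul_zero, sub_zero]
      obtain ⟨b, hb⟩ := h1 a₀
      have h3 := congrArg (T.ctr x) hb
      rw [hctr, map_add, T.ctr_tau, T.ctr_tau, T.ctr_tau, hxy, hxx, zero_smul, zero_smul, map_zero, smul_zero,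
        add_zero] at h3
      exact (smul_eq_zero.1 h3.symm).resolve_right (fun e => ha₀ (p.map_eq_zero_iff.1 e))
    · rw [map_sub, map_smul, hx'x, smul_eq_mul, mul_one, sub_self]
    · obtain ⟨b, hb⟩ := h1 a
      refine ⟨b + β x' y'' • p a, ?_⟩
      rw [hb]
      simp only [map_sub, map_add, map_smul, LinearMap.add_apply, LinearMap.smul_apply]
      module
  choose y' hy' using key
  set bP := Module.finBasis F P
  set q₀ : P →ₗ[F] P := bP.constr F fun i => y' (bP i)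
  have hq₀ : ∀ (y : P) a, ∃ b, h (τ a (y : W)) = τ (p a) (q₀ y : W) + τ b x := fun y a => by
    let D : P →ₗ[F] V := (h : V →ₗ[F] V) ∘ₗ τ a ∘ₗ P.subtype - τ (p a) ∘ₗ P.subtype ∘ₗ q₀
    have hD : Submodule.span F (Set.range bP) ≤ (LinearMap.range (τ.flip x)).comap D := by
      rw [Submodule.span_le]
      rintro _ ⟨i, rfl⟩
      obtain ⟨b, hb⟩ := hy' (bP i) a
      refine ⟨b, ?_⟩
      show τ b x = h (τ a (bP i : W)) - τ (p a) (q₀ (bP i) : W)
      rw [Basis.constr_basis, hb, add_sub_cancel_left]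
    obtain ⟨b, hb⟩ := hD (bP.span_eq ▸ Submodule.mem_top (x := y))
    exact ⟨b, by rw [show τ b x = D y from hb]; simp [D]⟩
  have hq₀iso : ∀ y z : P, β (q₀ y : W) (q₀ z : W) = β (y : W) (z : W) := fun y z => by
    obtain ⟨b₀, hb₀⟩ := T.cα.exists_pairing ha₀
    obtain ⟨b, hb⟩ := hq₀ y a₀
    obtain ⟨d, hd⟩ := hq₀ z b₀
    have h4 := hhi (τ a₀ (y : W)) (τ b₀ (z : W))
    rw [hb, hd, T.pair] at h4
    simp only [map_add, LinearMap.add_apply, T.pair, hp a₀ b₀, hb₀, hxx, (hPm.1 (q₀ z).2).1,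
      T.cβ.swap_zero (hPm.1 (q₀ y).2).1] at h4
    linear_combination h4
  let π : W →ₗ[F] P := LinearMap.codRestrict P (LinearMap.id - (β x').smulRight x - (β x).smulRight x')
    fun z => T.cβ.sub_mem_perp2 hxx hx'' hxx' z
  have hπ : ∀ z, (π z : W) = z - β x' z • x - β x z • x' := fun z => rfl
  let q' : W →ₗ[F] W := (β x').smulRight (c • x) + (β x).smulRight ((σ c)⁻¹ • x') + P.subtype ∘ₗ q₀ ∘ₗ π
  have hq' : ∀ z, q' z = β x' z • c • x + β x z • (σ c)⁻¹ • x' + (q₀ (π z) : W) := fun z => rfl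
  obtain ⟨q, hq, hqz⟩ := T.cβ.exists_equiv q' fun z w => by
    have h5 := hq₀iso (π z) (π w)
    obtain ⟨h6, h7⟩ := hPm.1 (q₀ (π z)).2
    obtain ⟨h8, h9⟩ := hPm.1 (q₀ (π w)).2
    have h10 : β (π z : W) (π w : W) = β z w - σ (β x' z) * β x w - σ (β x z) * β x' w := by
      simp only [hπ, map_sub, map_smul, LinearMap.map_smulₛₗ, LinearMap.sub_apply, LinearMap.smul_apply,
        smul_eq_mul, hxx, hx'', hxx', hx'x, ← T.cβ.flip_apply]
      ring
    simp only [hq', map_add, map_smul, LinearMap.map_smulₛₗ, LinearMap.add_apply, LinearMap.smul_apply,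
      smul_eq_mul, hxx, hx'', hxx', hx'x, h8, h9, T.cβ.swap_zero h6, T.cβ.swap_zero h7, h5, h10, map_inv₀,
      T.invol]
    field_simp
    ring
  obtain ⟨n, hnv, -⟩ := T.tens p q
  have hnp : IsProd α β τ n := ⟨p, hp, q, hq, hnv⟩
  have hnx : ∀ a, n (τ a x) = h (τ a x) := fun a => by
    have hπx : π x = 0 := Subtype.ext (by simp [hπ, hx'x, hxx])
    rw [hnv, hqz, hq', hπx, hpa]
    simp [hxx, hx'x]
  set u := n⁻¹ * h with hu
  have hni := T.mem_iso_of_isProd hnp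
  have hui : u ∈ Herm.iso B := mul_mem (inv_mem hni) hhi
  have hux : ∀ a, u (τ a x) = τ a x := fun a => by rw [hu, LinearEquiv.mul_apply, ← hnx, equiv_inv_apply]
  have huy : ∀ (a : U) (y : P), ∃ b, u (τ a (y : W)) = τ a (y : W) + τ b x := fun a y => by
    obtain ⟨b, hb⟩ := hq₀ y a
    obtain ⟨hy1, hy2⟩ := hPm.1 y.2
    refine ⟨c⁻¹ • p⁻¹ b, n.injective ?_⟩
    have hπy : π (y : W) = y := Subtype.ext (by simp [hπ, hy1, hy2])
    rw [hu, LinearEquiv.mul_apply, equiv_apply_inv, hb, map_add, hnv, hnx, hpa, hqz, hq', hy1, hy2, hπy,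
      map_smul, equiv_apply_inv]
    simp [smul_smul, mul_inv_cancel₀ hc0]
  have hperp : ∀ v, T.ctr x v = 0 → ∃ b, u v = v + τ b x := fun v hv => by
    let f : V →ₗ[F] V := ((u : V →ₗ[F] V) - LinearMap.id) ∘ₗ (LinearMap.id - T.lin x' x LinearMap.id)
    have hf : (⊤ : Submodule F V) ≤ (LinearMap.range (τ.flip x)).comap f := by
      rw [← T.span, Submodule.span_le]
      rintro _ ⟨⟨a, z⟩, rfl⟩
      obtain ⟨b, hb⟩ := huy a (π z)
      refine ⟨b, ?_⟩
      show τ b x = u (τ a z - T.lin x' x LinearMap.id (τ a z)) - (τ a z - T.lin x' x LinearMap.id (τ a z))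
      have h11 : τ a z - T.lin x' x LinearMap.id (τ a z) = τ a (π z : W) + β x' z • τ a x := by
        rw [T.lin_tau, LinearMap.id_apply, hπ, map_sub, map_sub, map_smul, map_smul]
        module
      rw [h11, map_add, map_smul, hux, hb]
      abel
    obtain ⟨b, hb⟩ := hf (Submodule.mem_top (x := v))
    refine ⟨b, ?_⟩
    have hb' : τ b x = u v - v := by
      rw [show τ b x = f v from hb]
      simp [f, Ten.lin_apply, hv]
    rw [hb']
    abel
  -- the group moved by the pure element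
  have hnq : ∀ a z, n⁻¹ (τ a (q z)) = τ (p⁻¹ a) z := fun a z => n.injective (by
    rw [equiv_apply_inv, hnv, equiv_apply_inv])
  have hL' : RightOver B β τ (L.comap (MulAut.conj n).toMonoidHom) := by
    refine ⟨fun g hg => ?_, fun g ⟨Q, hQ, hdQ, hgv⟩ => ?_⟩
    · have h1 : n * g * n⁻¹ ∈ Herm.iso B := hL.iso hg
      have h2 := mul_mem (mul_mem (inv_mem hni) h1) hni
      rwa [show n⁻¹ * (n * g * n⁻¹) * n = g by group] at h2
    · refine hL.right _ ⟨q * Q * q⁻¹, mul_mem (mul_mem hq hQ) (inv_mem hq), ?_, fun a z => ?_⟩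
      · rw [map_mul, map_mul, hdQ, mul_one, map_inv, mul_inv_cancel]
      obtain ⟨z, rfl⟩ : ∃ z', q z' = z := ⟨q⁻¹ z, equiv_apply_inv q z⟩
      show (n * g * n⁻¹) (τ a (q z)) = τ a ((q * Q * q⁻¹) (q z))
      rw [LinearEquiv.mul_apply, LinearEquiv.mul_apply, hnq, hgv, hnv, equiv_apply_inv, LinearEquiv.mul_apply,
        LinearEquiv.mul_apply, equiv_inv_apply]
  have hR'' : T.Losing (L.comap (MulAut.conj n).toMonoidHom) := fun z ω hz hzz hω => by
    obtain ⟨g, hg, hgv⟩ := hω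
    have hqz0 : q z ≠ 0 := fun e => hz (q.map_eq_zero_iff.1 e)
    obtain ⟨d, hd⟩ := hR (q z) ((p : U →ₗ[F] U) ∘ₗ ω ∘ₗ ((p⁻¹ : U ≃ₗ[F] U) : U →ₗ[F] U)) hqz0
      (by rw [hq, hzz]) ⟨n * g * n⁻¹, hg, LinearMap.congr_fun (T.hom_ext
        (f := ((n * g * n⁻¹ : V ≃ₗ[F] V) : V →ₗ[F] V))
        (g := LinearMap.id + T.lin (q z) (q z) ((p : U →ₗ[F] U) ∘ₗ ω ∘ₗ ((p⁻¹ : U ≃ₗ[F] U) : U →ₗ[F] U)))
        fun a w => by
          obtain ⟨w, rfl⟩ : ∃ w', q w' = w := ⟨q⁻¹ w, equiv_apply_inv q w⟩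
          rw [LinearEquiv.coe_coe, LinearEquiv.mul_apply, LinearEquiv.mul_apply, hnq, hgv, map_add, hnv,
            equiv_apply_inv, T.lin_tau, map_smul, hnv, LinearMap.add_apply, LinearMap.id_apply, T.lin_tau, hq]
          rfl)⟩
    refine ⟨d, LinearMap.ext fun a => p.injective ?_⟩
    have := LinearMap.congr_fun hd (p a)
    simp only [LinearMap.comp_apply, LinearEquiv.coe_coe, equiv_inv_apply, LinearMap.smul_apply,
      LinearMap.id_apply] at this
    rw [this, LinearMap.smul_apply, LinearMap.id_apply, map_smul]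
  have hnu : Nice β τ (L.comap (MulAut.conj n).toMonoidHom) u := fun g hg => by
    show n * (u * g * u⁻¹) * n⁻¹ ∈ L
    rw [hu, show n * (n⁻¹ * h * g * (n⁻¹ * h)⁻¹) * n⁻¹ = h * g * h⁻¹ by group]
    exact hn g hg
  have h13 := hnp.mul (rad_scalar hL' hR'' hex hui hnu hx hxx hux hperp).1
  rwa [hu, mul_inv_cancel_left] at h13

end Cfsg.Lib.Linear.UWreath.Stab
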