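import Cfsg.Agent.Lib.Linear.UWreath.Bridge
import Cfsg.Agent.Lib.Linear.UWreath.Stab

/-!
# Roots of the factors inside an overgroup

A root of a factor is a unitary transvection of that factor; an element carrying one to another
permutes the factors, when only scalar coefficients occur.
-/

set_option autoImplicit false
set_option linter.unusedSectionVars false
set_option linter.unusedVariables false

namespace Cfsg.Lib.Linear.UWreath.Cj

open Cfsg.Geo Cfsg.Lib.Linear.AschGen Cfsg.Lib.Linear.TWreath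
open scoped Matrix MatrixGroups

variable {F : Type*} [Field F] [Finite F] {C : Cj F} {k t : ℕ}

/-- A unitary transvection of the `i`-th factor. -/
def IsRoot (C : Cj F) (x : GL (Idx k t) F) (i : Fin t) : Prop :=
  ∃ (u : Fin k → F) (c : F), u ≠ 0 ∧ C.ip u u = 0 ∧ c + C.σ c = 0 ∧ c ≠ 0 ∧
    x.val = 1 + c • fa i (C.nr u)

/-- A conjugate of a root. -/
def IsRtD (C : Cj F) (G : Subgroup (GL (Idx k t) F)) (x : GL (Idx k t) F) : Prop :=
  ∃ g ∈ G, ∃ i s, C.IsRoot s i ∧ x = g * s * g⁻¹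

theorem IsRoot.eq_fu {x : GL (Idx k t) F} {i : Fin t} {u : Fin k → F} {c : F} (hu : C.ip u u = 0)
    (hx : x.val = 1 + c • fa i (C.nr u)) : x = fu i (C.tv u c hu) :=
  Units.ext (by rw [hx, fu_val, tv_val, map_add, map_one, map_smul])

theorem IsRoot.isTv {x : GL (Idx k t) F} {i : Fin t} (hm : 3 ≤ k) (h : C.IsRoot x i) : IsTv hm x i := by
  obtain ⟨u, c, hu0, hu, -, hc0, hx⟩ := h
  rw [IsRoot.eq_fu hu hx]
  refine isTv_mk hm (c := c • u) (φ := C.σ ∘ u) ?_ (smul_ne_zero hc0 hu0)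
    (fun e => hu0 (funext fun l => by simpa using congrFun e l)) ?_ i
  · rw [tv_val, Matrix.smul_vecMulVec]; rfl
  · rw [dotProduct_smul, show (C.σ ∘ u) ⬝ᵥ u = C.ip u u from rfl, hu, smul_zero]

theorem IsRoot.iso {x : GL (Idx k t) F} {i : Fin t} (h : C.IsRoot x i) : C.Iso x.val := by
  obtain ⟨u, c, -, hu, hc, -, hx⟩ := h
  rw [IsRoot.eq_fu hu hx]
  exact C.iso_fu (C.iso_tv u hc hu) i

theorem IsRoot.mem_mst {x : GL (Idx k t) F} {i : Fin t} (h : C.IsRoot x i) : x ∈ mst k t F := by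
  obtain ⟨u, c, -, hu, hc, -, hx⟩ := h
  rw [IsRoot.eq_fu hu hx]
  exact fu_mem_mst i _

theorem IsRoot.mem {G : Subgroup (GL (Idx k t) F)} (hG : C.Over G) {x : GL (Idx k t) F} {i : Fin t}
    (h : C.IsRoot x i) : x ∈ G := by
  obtain ⟨u, c, -, hu, hc, -, hx⟩ := h
  rw [IsRoot.eq_fu hu hx]
  exact hG.su i _ (C.iso_tv u hc hu) (C.det_tv u c hu)

theorem IsRoot.isRtD {G : Subgroup (GL (Idx k t) F)} {x : GL (Idx k t) F} {i : Fin t} (h : C.IsRoot x i) :
    C.IsRtD G x :=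
  ⟨1, G.one_mem, i, x, h, by rw [one_mul, inv_one, mul_one]⟩

theorem IsRtD.mem {G : Subgroup (GL (Idx k t) F)} (hG : C.Over G) {x : GL (Idx k t) F} (h : C.IsRtD G x) :
    x ∈ G := by
  obtain ⟨g, hg, i, s, hs, rfl⟩ := h
  exact G.mul_mem (G.mul_mem hg (hs.mem hG)) (G.inv_mem hg)

theorem IsRtD.iso {G : Subgroup (GL (Idx k t) F)} (hG : C.Over G) {x : GL (Idx k t) F} (h : C.IsRtD G x) :
    C.Iso x.val := hG.iso x (h.mem hG)

theorem IsRtD.conj {G : Subgroup (GL (Idx k t) F)} {x : GL (Idx k t) F} (h : C.IsRtD G x)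
    {g : GL (Idx k t) F} (hg : g ∈ G) : C.IsRtD G (g * x * g⁻¹) := by
  obtain ⟨a, ha, i, s, hs, rfl⟩ := h
  exact ⟨g * a, G.mul_mem hg ha, i, s, hs, by group⟩

theorem IsRtD.isD {G : Subgroup (GL (Idx k t) F)} {x : GL (Idx k t) F} (hm : 3 ≤ k) (h : C.IsRtD G x) :
    IsD hm (⊤ : Subgroup (GL (Idx k t) F)) x := by
  obtain ⟨g, -, i, s, hs, rfl⟩ := h
  obtain ⟨a, rfl⟩ := hs.isTv hm
  exact ⟨g * fu i a, trivial, i, by rw [map_mul, map_mul, map_inv]; group⟩

/-- An isometric transvection of a factor is a root. -/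
theorem isRoot_of_isTv {hm : 3 ≤ k} {x : GL (Idx k t) F} {i : Fin t} (h : IsTv hm x i) (hx : C.Iso x.val) :
    C.IsRoot x i := by
  obtain ⟨a, rfl⟩ := h
  have hM := C.iso_of_fu (by omega) hx
  set v := a.val *ᵥ Pi.single (p0 hm) (1 : F) with hv
  set φ := Pi.single (p1 hm) (1 : F) ᵥ* (a⁻¹).val with hφ
  have hN : conjA a (sg (p0 hm) (p1 hm)) = Matrix.vecMulVec v φ := by
    rw [conjA_apply, sg_eq_vecMulVec, Matrix.mul_vecMulVec, Matrix.vecMulVec_mul]
  set N := conjA a (sg (p0 hm) (p1 hm) : Matrix (Fin k) (Fin k) F) with hNd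
  have hNN : N * N = 0 := by rw [hNd, ← map_mul, sg_mul_ne _ _ (h01 hm).symm, map_zero]
  have hMv : (a * tv0 hm * a⁻¹).val = 1 + N := tvVal hm a
  have hskew : C.ad N = -N := by
    have h1 : C.ad (1 + N) = 1 - N := by
      refine left_inv_eq_right_inv (a := 1 + N) (by have := hM; rwa [hMv] at this) ?_
      rw [show (1 + N) * (1 - N) = 1 - N * N by noncomm_ring, hNN, sub_zero]
    rw [C.ad_add, C.ad_one, sub_eq_add_neg] at h1
    exact add_left_cancel h1
  have hv0 : v ≠ 0 := fun e => sg_ne_zero (F := F) (p0 hm) (p1 hm) ((conjA a).injective (by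
    rw [map_zero, ← hNd, hN, e, Matrix.zero_vecMulVec]))
  set w := C.σ ∘ φ with hw
  have hop : N = C.op v w := by
    rw [hN, op]; congr 1; funext l; simp [hw, C.invol]
  obtain ⟨z, hz⟩ := (C.cform (Fin k)).exists_pairing hv0
  rw [form_apply] at hz
  have hwv : ∀ z, C.ip v z = 1 → w = (-(C.ip w z)) • v := fun z hz => by
    have h1 := congrArg (fun M => M *ᵥ z) hskew
    simp only [hop, C.ad_op, C.op_mulVec, Matrix.neg_mulVec, hz, one_smul] at h1
    conv_lhs => rw [h1]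
    rw [neg_smul]
  obtain ⟨z₁, hz₁⟩ : ∃ z, C.ip v z = 1 := ⟨z, hz⟩
  set e := -(C.ip w z₁) with he
  set c := C.σ e with hc
  have hNc : N = c • C.nr v := by rw [hop, hwv z₁ hz₁, C.op_smul_right]; rfl
  have hc0 : c ≠ 0 := fun e => sg_ne_zero (F := F) (p0 hm) (p1 hm) ((conjA a).injective (by
    rw [map_zero, ← hNd, hNc, e, zero_smul]))
  have hcc : c + C.σ c = 0 := by
    have h1 := hskew
    rw [hNc, C.ad_smul, C.ad_nr, ← neg_smul] at h1
    rw [smul_left_injective F (C.nr_ne_zero hv0) h1, add_neg_cancel]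
  have hvv : C.ip v v = 0 := by
    have h1 := hNN
    rw [hNc, smul_mul_smul_comm, nr, C.op_mul, smul_smul] at h1
    simpa [hc0, C.op_ne_zero hv0 hv0] using h1
  exact ⟨v, c, hv0, hvv, hcc, hc0, by rw [fu_val, hMv, hNc, map_add, map_one, map_smul]⟩

/-- Isometries permuting the factors carry roots to roots. -/
theorem IsRoot.conj {x : GL (Idx k t) F} {i j : Fin t} (hm : 3 ≤ k) (h : C.IsRoot x i) {g : GL (Idx k t) F}
    (hg : C.Iso g.val) {a : GL (Fin k) F} (ha : Acts g i j a) : C.IsRoot (g * x * g⁻¹) j :=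
  isRoot_of_isTv ((h.isTv hm).conj ha) (by
    rw [Units.val_mul, Units.val_mul]; exact Iso.mul C (Iso.mul C hg h.iso) (Iso.inv C hg))

theorem exists_isRoot (C : Cj F) (hk : 2 ≤ k) (i : Fin t) : ∃ x : GL (Idx k t) F, C.IsRoot x i := by
  obtain ⟨u, hu0, hu⟩ := C.exists_isotropic hk
  obtain ⟨c, hc0, hc⟩ := C.exists_skew
  exact ⟨fu i (C.tv u c hu), u, c, hu0, hu, hc, hc0, by rw [fu_val, tv_val, map_add, map_one, map_smul]⟩

section Bridge

variable {L : Subgroup (GL (Idx k (t + 1)) F)} {i : Fin (t + 1)}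

theorem exists_right_eq (hk : 3 ≤ k) (ht : 1 ≤ t) {g : (Idx k (t + 1) → F) ≃ₗ[F] (Idx k (t + 1) → F)}
    (hg : Stab.IsRight (C.form (Fin k)) (tau i) g) :
    ∃ a : GL (Fin k) F, C.Iso a.val ∧ a.val.det = 1 ∧ (Symp.glEquiv _ F).toMonoidHom (fu i a) = g := by
  let T := ten (C := C) hk ht i
  obtain ⟨q, hq, hd, hg⟩ := hg
  obtain ⟨a, rfl⟩ := (Symp.glEquiv (Fin k) F).surjective q
  refine ⟨a, C.iso_of_mem hq, by rw [← det_glEquiv, hd, Units.val_one],
    LinearEquiv.toLinearMap_injective (T.hom_ext fun b z => ?_)⟩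
  show Symp.glEquiv _ F (fu i a) (tau i b z) = g (tau i b z)
  rw [Symp.glEquiv_apply, fu_val, fa_tau, hg, Symp.glEquiv_apply]

theorem rightOver_map (hk : 3 ≤ k) (ht : 1 ≤ t) (hiso : ∀ g ∈ L, C.Iso g.val)
    (hsu : ∀ a : GL (Fin k) F, C.Iso a.val → a.val.det = 1 → fu i a ∈ L) :
    Stab.RightOver (C.form (Idx k (t + 1))) (C.form (Fin k)) (tau i)
      (L.map (Symp.glEquiv _ F).toMonoidHom) := by
  refine ⟨?_, fun g hg => ?_⟩
  · rintro _ ⟨g, hg, rfl⟩
    exact C.mem_of_iso (hiso g hg)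
  · obtain ⟨a, ha, had, rfl⟩ := exists_right_eq hk ht hg
    exact ⟨_, hsu a ha had, rfl⟩

theorem ten_losing (hk : 3 ≤ k) (ht : 1 ≤ t)
    (hsu : ∀ a : GL (Fin k) F, C.Iso a.val → a.val.det = 1 → fu i a ∈ L)
    (hnr : ∀ ω, C.InJ L i ω → ∃ c : F, ω = c • 1) :
    (ten (C := C) hk ht i).Losing (L.map (Symp.glEquiv _ F).toMonoidHom) := fun z ω hz hzz hω => by
  obtain ⟨Y, rfl⟩ : ∃ Y, Matrix.toLin' Y = ω := ⟨_, Matrix.toLin'_toMatrix' ω⟩
  rw [show (ten (C := C) hk ht i).lin z z (Matrix.toLin' Y) = Matrix.toLin' (fa i (C.op z z) * psi i Y) from C.lin_eq hk ht i z z Y,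
    inA_iff] at hω
  obtain ⟨g, hg, hgv⟩ := hω
  have hJ : C.InJ L i (psi i Y) := by
    refine ⟨com_psi i Y, fun y hy => ?_⟩
    rcases eq_or_ne y 0 with rfl | hy0
    · rw [C.nr_zero, map_zero, zero_mul, add_zero]; exact ⟨1, L.one_mem, rfl⟩
    obtain ⟨a, ha, had, hay⟩ := C.exists_su_move hk hz hy0 hzz hy
    have h1 := (show InM L (1 + fa i (C.nr z) * psi i Y) from ⟨g, hg, hgv⟩).conj (hsu a ha had)
    rwa [map_add, map_one, map_mul, acts_fu i a, conjA_fu_com (com_psi i Y), C.conjA_nr ha, hay] at h1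
  obtain ⟨d, hd⟩ := hnr _ hJ
  have hY : Y = d • 1 := psi_injective (by omega) i (by rw [hd, map_smul, map_one])
  exact ⟨d, by rw [hY, map_smul, Matrix.toLin'_one]⟩

theorem nice_map (hk : 3 ≤ k) (ht : 1 ≤ t) {h : GL (Idx k (t + 1)) F}
    (hn : ∀ a : GL (Fin k) F, C.Iso a.val → a.val.det = 1 → h * fu i a * h⁻¹ ∈ L) :
    Stab.Nice (C.form (Fin k)) (tau i) (L.map (Symp.glEquiv _ F).toMonoidHom)
      ((Symp.glEquiv _ F).toMonoidHom h) := fun g hg => by
  obtain ⟨a, ha, had, rfl⟩ := exists_right_eq hk ht hg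
  exact ⟨_, hn a ha had, by rw [map_mul, map_mul, map_inv]⟩

end Bridge

/-- An isometry preserving the range of a root carries the factor to itself. -/
theorem slab_acts (hk : 3 ≤ k) (ht : 1 ≤ t) (hex : (∃ a : F, a ≠ 0 ∧ C.σ a * a ≠ 1) ∨ 4 ≤ k)
    {L : Subgroup (GL (Idx k (t + 1)) F)} {i : Fin (t + 1)} (hiso : ∀ g ∈ L, C.Iso g.val)
    (hsu : ∀ a : GL (Fin k) F, C.Iso a.val → a.val.det = 1 → fu i a ∈ L)
    (hnr : ∀ ω, C.InJ L i ω → ∃ c : F, ω = c • 1)
    {h : GL (Idx k (t + 1)) F} (hh : C.Iso h.val)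
    (hn : ∀ a : GL (Fin k) F, C.Iso a.val → a.val.det = 1 → h * fu i a * h⁻¹ ∈ L)
    {x : Fin k → F} (hx0 : x ≠ 0) (hx : C.ip x x = 0) {r : F}
    (hc : conjA h (fa i (C.nr x)) = r • fa i (C.nr x)) : ∃ a, Acts h i i a := by
  classical
  let T := ten (C := C) hk ht i
  let E : GL (Idx k (t + 1)) F →* _ := (Symp.glEquiv (Idx k (t + 1)) F).toMonoidHom
  have hL := rightOver_map (C := C) hk ht hiso hsu
  have hR : T.Losing (L.map E) := ten_losing hk ht hsu hnr
  have hhn := nice_map (C := C) hk ht (h := h) hn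
  have hr0 : r ≠ 0 := fun e => C.nr_ne_zero hx0 (fa_injective (by omega) i (by
    rw [map_zero]
    exact (conjA h).injective (by rw [hc, e, zero_smul, map_zero])))
  obtain ⟨y, -, hxy, -⟩ := C.exists_partner hx0 hx
  have hX : ∀ a, ∃ b, E h (tau i a x) = tau i b x := fun a => by
    have h1 : h.val * fa i (C.nr x) = r • (fa i (C.nr x) * h.val) := by
      have := congrArg (· * h.val) hc
      simpa only [conjA_apply, mul_assoc, Units.inv_mul, mul_one, smul_mul_assoc] using this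
    refine ⟨r • T.ctr x (h.val *ᵥ tau i a y), ?_⟩
    have h2 : fa i (C.nr x) *ᵥ tau i a y = tau i a x := by
      rw [fa_tau, nr, C.op_mulVec, hxy, one_smul]
    show Symp.glEquiv _ F h (tau i a x) = _
    rw [Symp.glEquiv_apply, ← h2, Matrix.mulVec_mulVec, h1, Matrix.smul_mulVec, ← Matrix.mulVec_mulVec,
      map_smul, LinearMap.smul_apply]
    congr 1
    have h3 := C.lin_apply_eq hk ht i x x 1 (h.val *ᵥ tau i a y)
    rw [Matrix.toLin'_one, map_one, mul_one] at h3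
    rw [nr, ← h3]
    rfl
  have hex' : (∃ a : F, a ≠ 0 ∧ C.σ a * a ≠ 1) ∨ 4 ≤ Module.finrank F (Fin k → F) := by
    rwa [Module.finrank_fin_fun]
  obtain ⟨p, -, q, -, hpq⟩ := Stab.stab (T := T) hL hR hex' (C.mem_of_iso hh) hhn hx0 hx hX
  obtain ⟨P, rfl⟩ := (Symp.glEquiv (Idx k t) F).surjective p
  obtain ⟨Q, rfl⟩ := (Symp.glEquiv (Fin k) F).surjective q
  have hhe : h = fu i Q * psiU i P := Units.ext (mulVec_ext i fun a z => by
    have h4 := hpq a z
    simp only [Symp.glEquiv_apply] at h4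
    rw [Units.val_mul, fu_val, psiU_val, ← Matrix.mulVec_mulVec, psi_tau, fa_tau, ← h4])
  refine ⟨Q * 1, hhe ▸ (acts_fu i Q).mul fun X => ?_⟩
  rw [conjA_one, conjA_apply, psiU_val, ← (com_psi i P.val X).eq, mul_assoc, ← psiU_val,
    Units.mul_inv, mul_one]

/-- The standing hypotheses on an overgroup without non-scalar coefficients. -/
structure Ctx (C : Cj F) (G : Subgroup (GL (Idx k (t + 1)) F)) : Prop where
  hk : 3 ≤ k
  ht : 1 ≤ t
  hex : (∃ a : F, a ≠ 0 ∧ C.σ a * a ≠ 1) ∨ 4 ≤ k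
  hov : C.Over G
  nr : C.Losing G
  cut : 2 ≤ t → ∀ x ∈ G, ∀ i a, Acts x i i a → x ∈ mst k (t + 1) F

variable {G : Subgroup (GL (Idx k (t + 1)) F)}

/-- An element carrying a root to a root carries the factor. -/
theorem Ctx.acts_of_root (K : C.Ctx G) {g s : GL (Idx k (t + 1)) F} (hg : g ∈ G) {i j : Fin (t + 1)}
    (hs : C.IsRoot s i) (hs' : C.IsRoot (g * s * g⁻¹) j) : ∃ a, Acts g i j a := by
  obtain ⟨u, c, hu0, hu, hc, hc0, hsv⟩ := hs
  obtain ⟨v, d, hv0, hv, hd, hd0, hgv⟩ := hs'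
  have hconj : conjA g (fa i (C.nr u)) = (c⁻¹ * d) • fa j (C.nr v) := by
    have h1 : (g * s * g⁻¹).val = conjA g s.val := val_conj g s
    rw [hgv, hsv, map_add, map_one, map_smul] at h1
    rw [mul_smul, add_left_cancel h1, smul_smul, inv_mul_cancel₀ hc0, one_smul]
  obtain ⟨b, hb, hbd, hbv⟩ := C.exists_su_move K.hk hv0 hu0 hv hu
  set g₁ := fu j b * g with hg₁
  have hg₁G : g₁ ∈ G := G.mul_mem (K.hov.su j b hb hbd) hg
  have hconj₁ : conjA g₁ (fa i (C.nr u)) = (c⁻¹ * d) • fa j (C.nr u) := by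
    rw [hg₁, conjA_mul, hconj, map_smul, acts_fu j b, C.conjA_nr hb, hbv]
  suffices h1 : ∃ a, Acts g₁ i j a by
    obtain ⟨a, ha⟩ := h1
    refine ⟨b⁻¹ * a, ?_⟩
    have := (acts_fu j b).inv.mul ha
    rwa [hg₁, inv_mul_cancel_left] at this
  set P : GL (Idx k (t + 1)) F := permGL (Equiv.swap i j) with hP
  have hPi : Acts P i j 1 := by simpa using acts_permGL (F := F) (m := k) (Equiv.swap i j) i
  have hPj : Acts P j i 1 := by simpa using acts_permGL (F := F) (m := k) (Equiv.swap i j) j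
  have hPiso : C.Iso P.val := C.iso_permGL _
  let L : Subgroup (GL (Idx k (t + 1)) F) := G.map (MulAut.conj P).toMonoidHom
  obtain ⟨a, ha⟩ := slab_acts (L := L) (i := i) (h := P * g₁) (x := u) (r := c⁻¹ * d) K.hk K.ht K.hex
    (by
      rintro _ ⟨y, hy, rfl⟩
      show C.Iso (P * y * P⁻¹).val
      rw [Units.val_mul, Units.val_mul]
      exact Iso.mul C (Iso.mul C hPiso (K.hov.iso y hy)) (Iso.inv C hPiso))
    (fun a ha had => ⟨fu j a, K.hov.su j a ha had, by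
      show P * fu j a * P⁻¹ = _
      rw [fu_conj_of_acts hPj]; congr 1; simp⟩)
    (fun ω hω => by
      obtain ⟨c, hc⟩ := K.nr j (conjA P⁻¹ ω) ⟨(hPj.inv).com hω.1,
        fun z hz => by
          obtain ⟨_, ⟨y, hy, rfl⟩, hyv⟩ := hω.2 z hz
          refine ⟨y, hy, ?_⟩
          have h2 := congrArg (conjA P⁻¹) (show conjA P y.val = _ from (val_conj P y).symm.trans hyv)
          rw [conjA_inv, map_add, map_one, map_mul, hPj.inv, conjA_apply, inv_inv, inv_one] at h2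
          simpa using h2⟩
      refine ⟨c, ?_⟩
      have h2 := congrArg (conjA P) hc
      rwa [← conjA_mul, mul_inv_cancel, conjA_one, map_smul, map_one] at h2)
    (by rw [Units.val_mul]; exact Iso.mul C hPiso (K.hov.iso g₁ hg₁G))
    (fun a ha had => ⟨g₁ * fu i a * g₁⁻¹, G.mul_mem (G.mul_mem hg₁G (K.hov.su i a ha had)) (G.inv_mem hg₁G), by
      show P * (g₁ * fu i a * g₁⁻¹) * P⁻¹ = _
      group⟩)
    hu0 hu (by rw [conjA_mul, hconj₁, map_smul, hPj, conjA_one])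
  have := hPj.inv.mul ha
  rw [inv_mul_cancel_left] at this
  exact ⟨_, this⟩

/-- An element carrying a root to a root permutes the factors. -/
theorem Ctx.mem_of_tv (K : C.Ctx G) {g s : GL (Idx k (t + 1)) F} (hg : g ∈ G) {i j : Fin (t + 1)}
    (hs : C.IsRoot s i) (hs' : C.IsRoot (g * s * g⁻¹) j) : g ∈ mst k (t + 1) F := by
  classical
  obtain ⟨a, ha⟩ := K.acts_of_root hg hs hs'
  have hk := K.hk
  rcases Nat.lt_or_ge t 2 with h2 | h3
  · have ht1 : t = 1 := by have := K.ht; omega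
    subst ht1
    refine ⟨if i = j then 1 else Equiv.swap 0 1, fun l => ?_⟩
    have hσ : ∀ i j l o : Fin 2, (l = i → (if i = j then (1 : Equiv.Perm (Fin 2)) else Equiv.swap 0 1) l = j) ∧
        (l ≠ i → o ≠ j → (if i = j then (1 : Equiv.Perm (Fin 2)) else Equiv.swap 0 1) l = o) := by decide
    have hother : ∀ o j l' : Fin 2, o ≠ j → l' ≠ o → l' = j := by decide
    rcases eq_or_ne l i with rfl | hl
    · exact ⟨a, by rw [(hσ l j l j).1 rfl]; exact ha⟩
    · obtain ⟨o, hoj⟩ : ∃ o : Fin 2, o ≠ j := exists_ne j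
      obtain ⟨b, hb⟩ := exists_acts (by omega) (g := g) (i := l) (j := o) fun X => by
        obtain ⟨Y, hY⟩ := mem_range_of_com_others (by omega) (o := o) (Φ := conjA g (fa l X)) fun l' hl' => by
          rw [hother o j l' hoj hl']
          exact ha.com (com_fa hl.symm X)
        exact ⟨Y, hY.symm⟩
      exact ⟨b, by rw [(hσ i j l o).2 hl hoj]; exact hb⟩
  · rcases eq_or_ne i j with rfl | hij
    · exact K.cut h3 g hg i a ha
    obtain ⟨p, hp, hσ⟩ := K.hov.perm (by omega) (Equiv.swap j i)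
    obtain ⟨b, hb⟩ := hσ j
    rw [Equiv.swap_apply_left] at hb
    have h1 := K.cut h3 _ (G.mul_mem hp hg) i _ (hb.mul ha)
    have h2 := (mst k (t + 1) F).mul_mem ((mst k (t + 1) F).inv_mem
      (show p ∈ mst k (t + 1) F from ⟨_, hσ⟩)) h1
    rwa [inv_mul_cancel_left] at h2

/-- The centraliser of a root permutes the factors. -/
theorem Ctx.cent_tv (K : C.Ctx G) {g s : GL (Idx k (t + 1)) F} (hg : g ∈ G) {i : Fin (t + 1)}
    (hs : C.IsRoot s i) (hc : Commute g s) : g ∈ mst k (t + 1) F :=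
  K.mem_of_tv hg hs (j := i) (by rwa [hc.eq, mul_inv_cancel_right])

end Cfsg.Lib.Linear.UWreath.Cj
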